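import Cfsg.Agent.TensorOO.Vec
import Cfsg.Agent.TensorInv.Central

/-!
Self-adjoint maps of an orthogonal space: criteria to be scalar (helper19).
-/

set_option autoImplicit false
set_option linter.unusedSectionVars false
set_option linter.unusedSimpArgs false

namespace Cfsg.Agent.TensorOO

open Matrix hiding col
open Cfsg.Agent.MaxSub Cfsg.Agent.TensorMax Cfsg.Agent.TensorInv Module

variable {F : Type*} [Field F] [Finite F] {m : ℕ} {f : (Fin m → F) →ₗ[F] (Fin m → F) →ₗ[F] F}

theorem el_inv (hf : Sym f) {n u : Fin m → F} (hn : f n n = 0) (hu : f n u = 0) :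
    (el f n u)⁻¹ = el f n (-u) := by
  refine inv_eq_of_mul_eq_one_right (act_ext fun w => ?_)
  rw [el_mul hf hn hu (by rw [map_neg, hu, neg_zero]), add_neg_cancel, act_one,
    el_apply hf hn (map_zero _)]
  simp

/-- A self-adjoint map preserving every singular vector's orthogonality is scalar. -/
theorem scalar_of_singular (hf : Sym f) (hm : 3 ≤ m) (hbig : 4 ≤ m ∨ ∃ t : F, t ≠ 0 ∧ t ^ 2 ≠ 1)
    {ψ : (Fin m → F) →ₗ[F] (Fin m → F)} (hsy : ∀ x y, f y (ψ x) = f x (ψ y))
    (hiso : ∀ v, f v v = 0 → f v (ψ v) = 0) : ∃ lam : F, ∀ x, ψ x = lam • x := by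
  obtain ⟨e, he, hee⟩ := hf.exists_singular hm
  obtain ⟨e', he'e', hee'⟩ := exists_partner hf.two hf.symm hf.nd he hee
  have he'e : f e' e = 1 := by rw [hf.symm, hee']
  set lam := f e (ψ e') with hlam
  refine ⟨lam, ?_⟩
  have h2 := hf.two
  have hA : ∀ t, f e t = 0 → f e' t = 0 →
      f t (ψ t) = f t t * lam ∧ f e' (ψ t) = f t t / 2 * f e (ψ t) := by
    intro t het he't
    have hte : f t e = 0 := by rw [hf.symm, het]
    have hte' : f t e' = 0 := by rw [hf.symm, he't]
    have h1 := hiso (e' + t - (f t t / 2) • e) (by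
      simp [hee, he'e', hee', he'e, het, he't, hte, hte']
      field_simp
      ring)
    have h3 := hiso (e' - t - (f t t / 2) • e) (by
      simp [hee, he'e', hee', he'e, het, he't, hte, hte']
      field_simp
      ring)
    simp only [map_add, map_sub, map_smul, LinearMap.add_apply, LinearMap.sub_apply,
      LinearMap.smul_apply, smul_eq_mul, hiso e hee, hiso e' he'e', hsy t e, hsy t e',
      hsy e e'] at h1 h3
    constructor
    · field_simp at h1 h3
      refine mul_left_cancel₀ (mul_ne_zero (mul_ne_zero h2 h2) h2) ?_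
      linear_combination h1 + h3
    · rw [hsy t e', hsy t e]
      field_simp at h1 h3 ⊢
      refine mul_left_cancel₀ (mul_ne_zero (mul_ne_zero h2 h2) h2) ?_
      linear_combination h1 - h3
  have hsn : ∀ t, f e t = 0 → f e' t = 0 → f t t ≠ 0 → f e (ψ t) = 0 := by
    intro t het he't htt
    rcases hbig with h4 | ⟨c, hc, hc1⟩
    · obtain ⟨s, hes, he's, hts, hss⟩ := hf.exists_aniso_pair₂ h4 hee he'e' hee' het he't htt
      have hst : f s t = 0 := by rw [hf.symm, hts]
      have a1 := (hA (t + s) (by simp [het, hes]) (by simp [he't, he's])).2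
      have a2 := (hA (t - s) (by simp [het, hes]) (by simp [he't, he's])).2
      have a3 := (hA t het he't).2
      simp only [map_add, map_sub, LinearMap.add_apply, LinearMap.sub_apply, hts, hst, add_zero,
        zero_add, sub_zero, zero_sub] at a1 a2
      field_simp at a1 a2 a3
      refine (mul_eq_zero.1 (show 2 * f s s * f e (ψ t) = 0 by
        linear_combination -a1 - a2 + 2 * a3)).resolve_left (mul_ne_zero h2 hss)
    · have a1 := (hA t het he't).2
      have a2 := (hA (c • t) (by simp [het]) (by simp [he't])).2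
      simp only [map_smul, LinearMap.smul_apply, smul_eq_mul] at a2
      field_simp at a1 a2
      refine (mul_eq_zero.1 (show (c * (c ^ 2 - 1) * f t t) * f e (ψ t) = 0 by
        linear_combination c * (a1 - a2))).resolve_left
        (mul_ne_zero (mul_ne_zero hc (sub_ne_zero.2 hc1)) htt)
  have hall : ∀ t, f e t = 0 → f e' t = 0 → f e (ψ t) = 0 ∧ f e' (ψ t) = 0 := by
    intro t het he't
    have h0 : f e (ψ t) = 0 := by
      by_cases htt : f t t = 0
      swap
      · exact hsn t het he't htt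
      obtain ⟨v, hev, he'v, hvv⟩ := hf.exists_aniso_pair hm hee he'e' hee'
      have h1 := hsn v hev he'v hvv
      rcases hf.aniso_shift htt hvv with h | h
      · simpa [h1] using hsn (t + v) (by simp [het, hev]) (by simp [he't, he'v]) h
      · simpa [h1] using hsn (t - v) (by simp [het, hev]) (by simp [he't, he'v]) h
    exact ⟨h0, by rw [(hA t het he't).2, h0, mul_zero]⟩
  have hq : ∀ x, f x (ψ x) = lam * f x x := by
    intro x
    set t := x - f e' x • e - f e x • e'
    have het : f e t = 0 := by simp [t, hee, hee']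
    have he't : f e' t = 0 := by simp [t, he'e', he'e]
    have hx : x = t + f e' x • e + f e x • e' := by simp only [t]; abel
    have hte : f t e = 0 := by rw [hf.symm, het]
    have hte' : f t e' = 0 := by rw [hf.symm, he't]
    obtain ⟨h5, h6⟩ := hall t het he't
    clear_value t
    obtain ⟨α, hα⟩ : ∃ α, α = f e' x := ⟨_, rfl⟩
    obtain ⟨β, hβ⟩ : ∃ β, β = f e x := ⟨_, rfl⟩
    rw [← hα, ← hβ] at hx
    rw [hx]
    simp only [map_add, map_smul, LinearMap.add_apply, LinearMap.smul_apply, smul_eq_mul,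
      hiso e hee, hiso e' he'e', hsy e t, hsy e' t, hsy e e', h5, h6, hlam, het, he't, hte,
      hte', hee, he'e', hee', he'e, (hA t het he't).1]
    ring
  intro x
  refine sub_eq_zero.1 (hf.nd _ fun y => ?_)
  have h := hq (x + y)
  simp only [map_add, LinearMap.add_apply, hq, hsy y x, hf.symm y x] at h
  rw [hf.symm, map_sub, map_smul, smul_eq_mul, sub_eq_zero]
  refine mul_left_cancel₀ h2 ?_
  linear_combination h + 0 * hsy x y + 0 * hf.symm x y

/-- An invariant commutative set of self-adjoint maps consists of scalars. -/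
theorem scalar_of_commuting (hf : Sym f) (hm : 3 ≤ m) (hbig : 4 ≤ m ∨ ∃ t : F, t ≠ 0 ∧ t ^ 2 ≠ 1)
    (P : ((Fin m → F) →ₗ[F] (Fin m → F)) → Prop)
    (hadd : ∀ {ψ ψ'}, P ψ → P ψ' → P (ψ + ψ')) (hneg : ∀ {ψ}, P ψ → P (-ψ))
    (hconj : ∀ {n u ψ}, f n n = 0 → f n u = 0 → P ψ →
      P (act (el f n u) ∘ₗ ψ ∘ₗ act (el f n u)⁻¹))
    (hscale : ∀ {t : F} {ψ}, t ≠ 0 → P ψ → P (t ^ 2 • ψ))
    (hsa : ∀ {ψ}, P ψ → ∀ x y, f y (ψ x) = f x (ψ y))
    (hcomm : ∀ {ψ ψ'}, P ψ → P ψ' → ∀ x, ψ (ψ' x) = ψ' (ψ x))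
    {ψ : (Fin m → F) →ₗ[F] (Fin m → F)} (hψ : P ψ) : ∃ lam : F, ∀ x, ψ x = lam • x := by
  have hsy := hsa hψ
  have h2 := hf.two
  refine scalar_of_singular hf hm hbig hsy fun e hee => by_contra fun hΦ => ?_
  have he : e ≠ 0 := fun h => hΦ (by rw [h, map_zero, LinearMap.zero_apply])
  obtain ⟨e', he'e', hee'⟩ := exists_partner hf.two hf.symm hf.nd he hee
  obtain ⟨s, hes, he's, hss⟩ := hf.exists_aniso_pair hm hee he'e' hee'
  have hE : ∀ r, f e r = 0 → ∃ ψ', P ψ' ∧ ∀ x y, f x (ψ' y) =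
      2 * (f r r / 2) ^ 2 * f e (ψ e) * f e x * f e y +
      2 * (f e x * f e y * f r (ψ r) -
        (f e x * f r y + f r x * f e y) * f r (ψ e) +
        f r x * f r y * f e (ψ e) -
        f r r / 2 * (f e y * f x (ψ e) + f e x * f e (ψ y))) := by
    intro r hr
    have hr' : f e (-r) = 0 := by rw [map_neg, hr, neg_zero]
    refine ⟨_, hadd (hadd (hconj hee hr hψ) (hconj hee hr' hψ)) (hneg (hadd hψ hψ)), fun x y => ?_⟩
    have e1 : ∀ r, f e r = 0 → ∀ z, f x (act (el f e r) z) = f (act (el f e (-r)) x) z :=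
      fun r hr z => by
        conv_rhs => rw [← el_form hf hee hr, ← el_inv hf hee hr, act_act_inv]
    simp only [LinearMap.add_apply, LinearMap.neg_apply, LinearMap.comp_apply, map_add, map_neg,
      e1 r hr, e1 (-r) hr', el_inv hf hee hr, el_inv hf hee hr', neg_neg, el_apply hf hee hr,
      el_apply hf hee hr', map_sub, map_smul, LinearMap.sub_apply, LinearMap.smul_apply,
      smul_eq_mul, neg_smul, smul_neg]
    simp only [hsy r e, hsy e y, hf.symm r x, hf.symm e x]
    ring
  obtain ⟨ψ', K, hK, hψ', hval⟩ : ∃ ψ' K, K ≠ 0 ∧ P ψ' ∧ ∀ x y, f x (ψ' y) = K * f e x * f e y := by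
    rcases hbig with h4 | ⟨t, ht, ht1⟩
    · obtain ⟨r, her, -, hsr, hrr⟩ := hf.exists_aniso_pair₂ h4 hee he'e' hee' hes he's hss
      obtain ⟨ψ₁, h₁, v₁⟩ := hE (s + r) (by simp [hes, her])
      obtain ⟨ψ₂, h₂, v₂⟩ := hE (s - r) (by simp [hes, her])
      obtain ⟨ψ₃, h₃, v₃⟩ := hE s hes
      obtain ⟨ψ₄, h₄, v₄⟩ := hE r her
      refine ⟨_, 2 * f s s * f r r * f e (ψ e),
        mul_ne_zero (mul_ne_zero (mul_ne_zero h2 hss) hrr) hΦ,
        hadd (hadd (hadd h₁ h₂) (hneg (hadd h₃ h₃))) (hneg (hadd h₄ h₄)), fun x y => ?_⟩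
      simp only [LinearMap.add_apply, LinearMap.neg_apply, map_neg, map_add, map_sub,
        LinearMap.sub_apply, v₁, v₂, v₃, v₄, hf.symm s r, hsr]
      field_simp
      ring
    · obtain ⟨ψ₁, h₁, v₁⟩ := hE s hes
      obtain ⟨ψ₂, h₂, v₂⟩ := hE (t • s) (by simp [hes])
      refine ⟨_, (t ^ 2 - t ^ 4) * (2 * (f s s / 2) ^ 2 * f e (ψ e)), ?_,
        hadd (hscale ht h₁) (hneg h₂), fun x y => ?_⟩
      · refine mul_ne_zero (fun h => ht1 ?_) (mul_ne_zero (mul_ne_zero h2 (pow_ne_zero 2
          (div_ne_zero hss h2))) hΦ)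
        exact (mul_left_cancel₀ (pow_ne_zero 2 ht) (show t ^ 2 * t ^ 2 = t ^ 2 * 1 by
          linear_combination -h))
      · simp only [LinearMap.add_apply, LinearMap.neg_apply, map_neg, LinearMap.smul_apply,
          map_add, map_smul, smul_eq_mul, v₁, v₂]
        field_simp
        ring
  have hrank : ∀ y, ψ' y = (K * f e y) • e := fun y => sub_eq_zero.1 (hf.nd _ fun x => by
    rw [hf.symm, map_sub, hval, map_smul, smul_eq_mul, hf.symm e x]
    ring)
  have he's' : f e' s = 0 := he's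
  set e'' := act (el f e' s) e with he''
  have hT := hconj he'e' he's' hψ'
  have hT' : (act (el f e' s) ∘ₗ ψ' ∘ₗ act (el f e' s)⁻¹) e = (K * f e'' e) • e'' := by
    have h := el_form hf he'e' he's' e (act (el f e' s)⁻¹ e)
    rw [act_act_inv, ← he''] at h
    rw [LinearMap.comp_apply, LinearMap.comp_apply, hrank, map_smul, ← he'', h]
  have h := hcomm hψ' hT e
  rw [hT', show ψ' e = 0 from by rw [hrank, hee, mul_zero, zero_smul], map_zero, map_smul, hrank,
    smul_smul, smul_eq_zero, or_iff_left he] at h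
  have hne : f e e'' = -(f s s / 2) := by
    rw [he'', el_apply hf he'e' he's']
    simp [hee, hes, show f s e = 0 by rw [hf.symm, hes], hee', show f e' e = 1 by rw [hf.symm, hee']]
  refine mul_ne_zero (mul_ne_zero hK ?_) (mul_ne_zero hK ?_) h
  · rw [hf.symm, hne]; exact neg_ne_zero.2 (div_ne_zero hss h2)
  · rw [hne]; exact neg_ne_zero.2 (div_ne_zero hss h2)

end Cfsg.Agent.TensorOO
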