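import Cfsg.Agent.TensorOO.Form
import Cfsg.Agent.TensorOO.Scalar

/-!
Elements of a group over the pairs of reflections (helper19).
-/

set_option autoImplicit false
set_option linter.unusedSectionVars false
set_option linter.unusedSimpArgs false

namespace Cfsg.Agent.TensorOO

open Matrix hiding col
open Cfsg.Agent.MaxSub Cfsg.Agent.TensorMax Cfsg.Agent.TensorInv Module

variable {F : Type*} [Field F] [Finite F] {a b : ℕ} {S : OForm F a b}
  {H : Subgroup (GL (Fin a × Fin b) F)}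

theorem kr_one_mul (g g' : GL (Fin b) F) :
    kr (1 : GL (Fin a) F) g * kr 1 g' = kr 1 (g * g') := by rw [kr_mul, one_mul]

theorem kr_mul_one (g g' : GL (Fin a) F) :
    kr g (1 : GL (Fin b) F) * kr g' 1 = kr (g * g') 1 := by rw [kr_mul, one_mul]

/-- A Siegel element through reflections. -/
theorem el_mem_aux {m : ℕ} {f : (Fin m → F) →ₗ[F] (Fin m → F) →ₗ[F] F} (hf : Sym f) (hm : 3 ≤ m)
    (P : GL (Fin m) F → Prop) (hmul : ∀ {g g'}, P g → P g' → P (g * g'))
    (hP : ∀ v v', f v v ≠ 0 → f v v = f v' v' → P (refl f v * refl f v'))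
    {n u : Fin m → F} (hn0 : n ≠ 0) (hn : f n n = 0) (hu : f n u = 0) : P (el f n u) := by
  have key : ∀ {u}, f n u = 0 → f u u ≠ 0 → P (el f n u) := fun {u} hu h => by
    obtain ⟨e, hq⟩ := el_eq_refl hf hn hu h
    rw [e]
    exact hP _ _ h hq.symm
  by_cases huu : f u u = 0
  swap
  · exact key hu huu
  obtain ⟨n', hn'n', hnn'⟩ := exists_partner hf.two hf.symm hf.nd hn0 hn
  obtain ⟨w, hnw, -, hww⟩ := hf.exists_aniso_pair hm hn hn'n' hnn'
  rcases hf.aniso_shift huu hww with h | h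
  · have e := el_mul hf hn (u := u + w) (u' := -w) (by rw [map_add, hu, hnw, add_zero])
      (by rw [map_neg, hnw, neg_zero])
    rw [add_neg_cancel_right] at e
    rw [← e]
    exact hmul (key (by rw [map_add, hu, hnw, add_zero]) h)
      (key (by rw [map_neg, hnw, neg_zero]) (by simpa using hww))
  · have e := el_mul hf hn (u := u - w) (u' := w) (by rw [map_sub, hu, hnw, sub_zero]) hnw
    rw [sub_add_cancel] at e
    rw [← e]
    exact hmul (key (by rw [map_sub, hu, hnw, sub_zero]) h) (key hnw hww)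

namespace Over

variable (O : Over S H)
include O

theorem elB (hb : 3 ≤ b) {n u : Fin b → F} (hn0 : n ≠ 0) (hn : S.f₂ n n = 0) (hu : S.f₂ n u = 0) :
    kr (1 : GL (Fin a) F) (el S.f₂ n u) ∈ H :=
  el_mem_aux S.h₂ hb (fun g => kr (1 : GL (Fin a) F) g ∈ H)
    (fun {g g'} h h' => kr_one_mul (a := a) g g' ▸ mul_mem h h') O.rB hn0 hn hu

theorem elA (ha : 3 ≤ a) {e r : Fin a → F} (he0 : e ≠ 0) (he : S.f₁ e e = 0) (hr : S.f₁ e r = 0) :
    kr (el S.f₁ e r) (1 : GL (Fin b) F) ∈ H :=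
  el_mem_aux S.h₁ ha (fun g => kr g (1 : GL (Fin b) F) ∈ H)
    (fun {g g'} h h' => kr_mul_one (b := b) g g' ▸ mul_mem h h') O.rA he0 he hr

theorem flPair {u v : Fin b → F} (hu : S.f₂ u u ≠ 0) (huv : S.f₂ u v = 0)
    (he : S.f₂ u u = S.f₂ v v) : kr (1 : GL (Fin a) F) (fl S.f₂ ![u, v]) ∈ H := by
  rw [fl_two S.h₂ hu (he ▸ hu) huv]
  exact O.rB u v hu he

theorem isomB {g : GL (Fin b) F} (hg : kr (1 : GL (Fin a) F) g ∈ H) (ha : 1 ≤ a) (v w : Fin b → F) :
    S.f₂ (act g v) (act g w) = S.f₂ v w := by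
  obtain ⟨x, hx⟩ := S.h₁.exists_aniso ha
  have := S.om_act (O.isom hg) (emb v x) (emb w x)
  rw [act_kr, act_kr, act_one, S.om_emb_emb, S.om_emb_emb] at this
  exact mul_left_cancel₀ hx this

end Over

/-- The scaling of a singular pair. -/
theorem exists_torus (O : Over S H) {p p' : Fin b → F} (hp : S.f₂ p p = 0) (hp' : S.f₂ p' p' = 0)
    (hpp' : S.f₂ p p' = 1) {t : F} (ht : t ≠ 0) :
    ∃ g : GL (Fin b) F, kr (1 : GL (Fin a) F) g ∈ H ∧
      (∀ x y, S.f₂ (act g x) (act g y) = S.f₂ x y) ∧ act g p = t ^ 2 • p ∧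
      ∀ x, S.f₂ p x = 0 → S.f₂ p' x = 0 → act g x = x := by
  have h2 := S.two
  have hp'p : S.f₂ p' p = 1 := by rw [S.comm₂, hpp']
  set v := p - p'
  set v' := t • p - t⁻¹ • p'
  have hv : S.f₂ v v = -2 := by simp [v, hp, hp', hpp', hp'p]; ring
  have hv' : S.f₂ v' v' = -2 := by simp [v', hp, hp', hpp', hp'p]; field_simp; ring
  have hv0 : S.f₂ v v ≠ 0 := by rw [hv]; exact neg_ne_zero.2 h2
  have hv'0 : S.f₂ v' v' ≠ 0 := by rw [hv']; exact neg_ne_zero.2 h2
  refine ⟨refl S.f₂ v' * refl S.f₂ v, O.rB _ _ hv'0 (by rw [hv, hv']),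
    fun x y => by rw [act_mul, act_mul, refl_form S.h₂.symm hv'0, refl_form S.h₂.symm hv0], ?_,
    fun x h1 h3 => ?_⟩
  · have e1 : act (refl S.f₂ v) p = p' := by
      rw [refl_apply, hv]
      simp [v, hp, hp'p]
      field_simp
      module
    rw [act_mul, e1, refl_apply, hv']
    simp only [v', map_sub, LinearMap.sub_apply, map_smul, LinearMap.smul_apply, smul_eq_mul, hp',
      hpp', mul_zero, mul_one, sub_zero]
    match_scalars <;> field_simp <;> ring
  · rw [act_mul, refl_fix S.h₂ (v := v) (by simp [v, h1, h3]),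
      refl_fix S.h₂ (v := v') (by simp [v', h1, h3])]

/-- Singular lines are permuted transitively. -/
theorem exists_move (O : Over S H) (hb : 5 ≤ b) {n m : Fin b → F} (hn0 : n ≠ 0) (hm0 : m ≠ 0)
    (hn : S.f₂ n n = 0) (hm : S.f₂ m m = 0) :
    ∃ g : GL (Fin b) F, kr (1 : GL (Fin a) F) g ∈ H ∧
      (∀ x y, S.f₂ (act g x) (act g y) = S.f₂ x y) ∧ act g m = n := by
  have h2 := S.two
  have hf := S.h₂
  have step : ∀ u v, S.f₂ u u = 0 → S.f₂ v v = 0 → S.f₂ u v ≠ 0 → ∃ g : GL (Fin b) F,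
      kr (1 : GL (Fin a) F) g ∈ H ∧ (∀ x y, S.f₂ (act g x) (act g y) = S.f₂ x y) ∧ act g u = v := by
    intro u v hu hv h
    have e1 : S.f₂ (u - v) (u - v) = -(2 * S.f₂ u v) := by simp [hu, hv, S.comm₂ u v]; ring
    have e2 : S.f₂ (u + v) (u + v) = 2 * S.f₂ u v := by simp [hu, hv, S.comm₂ u v]; ring
    have h1 : S.f₂ (u - v) (u - v) ≠ 0 := by rw [e1]; exact neg_ne_zero.2 (mul_ne_zero h2 h)
    have h3 : S.f₂ (u + v) (u + v) ≠ 0 := by rw [e2]; exact mul_ne_zero h2 h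
    have hF := hf.fam_two h1 h3 (by simp [hu, hv, S.comm₂ u v])
    obtain ⟨p, p', -, -, hp, hp', hpp', -, -, -, hwp, hwp', -⟩ := exists_hyp_perp hf hF (by omega)
    set s := p + (-(2 * S.f₂ u v) / 2) • p'
    have hs : S.f₂ s s = -(2 * S.f₂ u v) := hyp_value hf hp hp' hpp' _
    have hsu : S.f₂ s u = 0 := by
      have a1 : S.f₂ (u - v) s = 0 := by
        simp only [s, map_add, map_smul, show S.f₂ (u - v) p = 0 from hwp 0,
          show S.f₂ (u - v) p' = 0 from hwp' 0, smul_zero, add_zero]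
      have a2 : S.f₂ (u + v) s = 0 := by
        simp only [s, map_add (S.f₂ (u + v)), map_smul, show S.f₂ (u + v) p = 0 from hwp 1,
          show S.f₂ (u + v) p' = 0 from hwp' 1, smul_zero, add_zero]
      simp only [map_add, map_sub, LinearMap.add_apply, LinearMap.sub_apply] at a1 a2
      rw [S.comm₂]
      exact (mul_eq_zero.1 (show (2 : F) * S.f₂ u s = 0 by linear_combination a1 + a2)).resolve_left h2
    refine ⟨refl S.f₂ (u - v) * refl S.f₂ s, O.rB _ _ h1 (by rw [hs, e1]),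
      fun x y => by rw [act_mul, act_mul, refl_form hf.symm h1,
        refl_form hf.symm (by rw [hs, ← e1]; exact h1)], ?_⟩
    rw [act_mul, refl_fix hf hsu, refl_apply, e1, map_sub, LinearMap.sub_apply, hu, S.comm₂ u v,
      zero_sub, mul_neg, div_self (neg_ne_zero.2 (mul_ne_zero h2 h)), one_smul, sub_sub_cancel]
  by_cases hmn : S.f₂ m n = 0
  swap
  · exact step m n hm hn hmn
  obtain ⟨z, hz1, hz2⟩ := exists_both hf.nd hm0 hn0
  set q := z - (S.f₂ z z / (2 * S.f₂ m z)) • m with hq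
  have hqq : S.f₂ q q = 0 := by
    simp only [hq, map_sub, map_smul, LinearMap.sub_apply, LinearMap.smul_apply, smul_eq_mul, hm,
      S.comm₂ m z]
    field_simp
    ring
  have e1 : S.f₂ m q ≠ 0 := by simp [hq, hm, hz1]
  have e2 : S.f₂ q n ≠ 0 := by
    simp [hq, hmn, S.comm₂ n z]
    exact hz2
  obtain ⟨g, hg, hgi, hgu⟩ := step m q hm hqq e1
  obtain ⟨g', hg', hgi', hgu'⟩ := step q n hqq hn e2
  exact ⟨g' * g, kr_one_mul (a := a) g' g ▸ mul_mem hg' hg,
    fun x y => by rw [act_mul, act_mul, hgi', hgi], by rw [act_mul, hgu, hgu']⟩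

end Cfsg.Agent.TensorOO
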