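import Cfsg.Agent.TensorOO.Defs
import Cfsg.Agent.TensorOO.Members
import Cfsg.Agent.MaxSub.OrthVectorGL
import Cfsg.Agent.Classical10.NotMax.Tensor

/-!
The tensor stabiliser in `Ω` of the product of two symmetric forms is maximal, given that groups
without root elements stay in the stabiliser and root elements generate `Ω`; transfer to forms
similar to a tensor product (helper17, for helper19).
-/

set_option autoImplicit false
set_option linter.unusedSectionVars false
set_option linter.unusedSimpArgs false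

namespace Cfsg.Agent.TensorOO

open Matrix hiding col
open Cfsg.Agent.MaxSub Cfsg.Agent.TensorMax Cfsg.Agent.TensorInv Module
open Cfsg.Agent.UnitaryOrthogonal (eich eich_apply eich_mem_eichGroup PolarND)

variable {F : Type*} [Field F] {a b : ℕ}

theorem omegaGL_eq_commutator {ι : Type} [Fintype ι] [DecidableEq ι] (Q : (ι → F) → F) :
    Cfsg.Geo.omegaGL Q = ⁅Cfsg.isometryGroup F Q, Cfsg.isometryGroup F Q⁆ :=
  Subgroup.map_subtype_commutator _

theorem isom_le_isometryGroup (S : OForm F a b) :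
    MaxSub.isom S.om ≤ Cfsg.isometryGroup F ⇑S.quad := fun g hg u _ => by
  show S.quad ((g : Matrix (Fin a × Fin b) (Fin a × Fin b) F) *ᵥ u) = S.quad u
  rw [S.quad_apply, S.quad_apply, mem_isom.1 hg]

theorem omega_le_isom (S : OForm F a b) : Cfsg.Geo.omegaGL ⇑S.quad ≤ MaxSub.isom S.om := by
  rintro _ ⟨g, -, rfl⟩
  rw [mem_isom]
  intro u v
  have hg : ∀ z, S.quad ((g.1 : Matrix (Fin a × Fin b) (Fin a × Fin b) F) *ᵥ z) = S.quad z :=
    fun z => g.2 z 0
  rw [← S.polar_quad, ← S.polar_quad u v]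
  simp only [QuadraticMap.polar, Subgroup.coe_subtype, ← Matrix.mulVec_add, hg]

/-- Two reflections of equal values are a commutator of isometries. -/
theorem exists_commutator {m : ℕ} {f : (Fin m → F) →ₗ[F] (Fin m → F) →ₗ[F] F} (hf : Sym f)
    {x x' : Fin m → F} (hx : f x x ≠ 0) (h : f x x = f x' x') :
    ∃ g : GL (Fin m) F, (∀ u v, f (act g u) (act g v) = f u v) ∧
      refl f x * refl f x' = refl f x * g * (refl f x)⁻¹ * g⁻¹ := by
  have h2 := hf.two
  obtain ⟨s, hs, hsx⟩ : ∃ s, f s s ≠ 0 ∧ (act (refl f s) x = x' ∨ act (refl f s) x = -x') := by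
    by_cases h1 : f (x - x') (x - x') = 0
    · refine ⟨x + x', fun h3 => hx ?_, Or.inr ?_⟩
      · simp only [map_add, map_sub, LinearMap.add_apply, LinearMap.sub_apply, hf.symm x x', ← h]
          at h1 h3
        refine mul_left_cancel₀ (mul_ne_zero h2 h2) ?_
        linear_combination h1 + h3
      · have h3 : f (x + x') (x + x') = 2 * f (x + x') x := by
          simp only [map_add, LinearMap.add_apply, hf.symm x x', ← h]; ring
        have h4 : f (x + x') (x + x') ≠ 0 := fun h4 => hx (by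
          simp only [map_add, map_sub, LinearMap.add_apply, LinearMap.sub_apply, hf.symm x x', ← h]
            at h1 h4
          exact mul_left_cancel₀ (mul_ne_zero h2 h2) (by linear_combination h1 + h4))
        rw [refl_apply, h3, div_self (by rwa [← h3]), one_smul]
        abel
    · refine ⟨x - x', h1, Or.inl ?_⟩
      have h3 : f (x - x') (x - x') = 2 * f (x - x') x := by
        simp only [map_sub, LinearMap.sub_apply, hf.symm x x', ← h]; ring
      rw [refl_apply, h3, div_self (by rwa [← h3]), one_smul, sub_sub_cancel]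
  have hg := fun u v => refl_form hf.symm hs u v
  refine ⟨refl f s, hg, ?_⟩
  have hinv : ∀ v, (refl f v)⁻¹ = refl f v := fun v => inv_eq_of_mul_eq_one_right (refl_refl f v)
  suffices refl f x' = refl f s * refl f x * (refl f s)⁻¹ by
    rw [this, hinv x]; group
  refine act_ext fun w => ?_
  obtain ⟨w, rfl⟩ : ∃ u, act (refl f s) u = w := ⟨_, act_act_inv _ w⟩
  rw [act_mul, act_mul, act_inv_act]
  rcases hsx with e | e <;> rw [refl_apply f x w, map_sub, map_smul, e, refl_apply f x']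
  · rw [← e, hg, hg]
  · have e' : x' = -act (refl f s) x := by rw [e, neg_neg]
    rw [e']
    simp only [map_neg, LinearMap.neg_apply, neg_neg, hg, smul_neg, neg_smul, mul_neg, neg_div,
      sub_neg_eq_add]

/-- Products of two reflections of equal values of the first factor are in `Ω`. -/
theorem kr_refl_left_mem (S : OForm F a b) {x x' : Fin a → F} (hx : S.f₁ x x ≠ 0)
    (h : S.f₁ x x = S.f₁ x' x') :
    kr (refl S.f₁ x * refl S.f₁ x') (1 : GL (Fin b) F) ∈ Cfsg.Geo.omegaGL ⇑S.quad := by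
  obtain ⟨g, hg, e⟩ := exists_commutator S.h₁ hx h
  let φ : GL (Fin a) F →* GL (Fin a × Fin b) F :=
    { toFun := fun k => kr k 1
      map_one' := kr_one
      map_mul' := fun k k' => by rw [kr_mul, one_mul] }
  have hmem : ∀ k : GL (Fin a) F, (∀ u v, S.f₁ (act k u) (act k v) = S.f₁ u v) →
      φ k ∈ Cfsg.isometryGroup F ⇑S.quad := fun k hk =>
    isom_le_isometryGroup S (S.kr_mem_isom hk fun v w => by rw [act_one, act_one])
  show φ (refl S.f₁ x * refl S.f₁ x') ∈ _
  rw [e, map_mul, map_mul, map_mul, map_inv, map_inv, omegaGL_eq_commutator]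
  exact Subgroup.commutator_mem_commutator (hmem _ (refl_form S.h₁.symm hx)) (hmem g hg)

/-- Products of two reflections of equal values of the second factor are in `Ω`. -/
theorem kr_refl_right_mem (S : OForm F a b) {v v' : Fin b → F} (hv : S.f₂ v v ≠ 0)
    (h : S.f₂ v v = S.f₂ v' v') :
    kr (1 : GL (Fin a) F) (refl S.f₂ v * refl S.f₂ v') ∈ Cfsg.Geo.omegaGL ⇑S.quad := by
  obtain ⟨g, hg, e⟩ := exists_commutator S.h₂ hv h
  let φ : GL (Fin b) F →* GL (Fin a × Fin b) F :=
    { toFun := fun k => kr 1 k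
      map_one' := kr_one
      map_mul' := fun k k' => by rw [kr_mul, one_mul] }
  have hmem : ∀ k : GL (Fin b) F, (∀ u w, S.f₂ (act k u) (act k w) = S.f₂ u w) →
      φ k ∈ Cfsg.isometryGroup F ⇑S.quad := fun k hk =>
    isom_le_isometryGroup S (S.kr_mem_isom (fun u w => by rw [act_one, act_one]) hk)
  show φ (refl S.f₂ v * refl S.f₂ v') ∈ _
  rw [e, map_mul, map_mul, map_mul, map_inv, map_inv, omegaGL_eq_commutator]
  exact Subgroup.commutator_mem_commutator (hmem _ (refl_form S.h₂.symm hv)) (hmem g hg)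

/-- Groups between the tensor stabiliser in `Ω` and `Ω`. -/
theorem over_of_le (S : OForm F a b) {M : Subgroup (GL (Fin a × Fin b) F)}
    (h1 : Cfsg.Geo.kroneckerSubgroup a b F ⊓ Cfsg.Geo.omegaGL ⇑S.quad ≤ M)
    (h2 : M ≤ Cfsg.Geo.omegaGL ⇑S.quad) : Over S M where
  isom := h2.trans (omega_le_isom S)
  rA _ _ hx h := h1 ⟨TensorMax.kr_mem _ _, kr_refl_left_mem S hx h⟩
  rB _ _ hv h := h1 ⟨TensorMax.kr_mem _ _, kr_refl_right_mem S hv h⟩

theorem OForm.polarND (S : OForm F a b) : PolarND S.quad := fun u hu =>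
  S.eq_of_om (z' := 0) fun x => by
    rw [MaxSub.form_zero_right S.om_bilinear, ← S.polar_quad, QuadraticMap.polar_comm]
    exact hu x

/-- An Eichler element at two pure tensors moves the decomposition. -/
theorem exists_not_kronecker [Finite F] (S : OForm F a b) (ha : 3 ≤ a) (hb : 3 ≤ b) :
    ∃ g ∈ Cfsg.Geo.omegaGL ⇑S.quad, g ∉ Cfsg.Geo.kroneckerSubgroup a b F := by
  have h5 : 5 ≤ Module.finrank F (Fin a × Fin b → F) := by
    rw [Module.finrank_fintype_fun_eq_card, Fintype.card_prod, Fintype.card_fin, Fintype.card_fin]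
    nlinarith
  obtain ⟨n, n', -, hn0, hnn, -, hnn', -⟩ := exists_hyp_perp S.h₂ (fam_nil S.f₂) (by omega)
  obtain ⟨x, hx⟩ := S.h₁.exists_aniso (by omega)
  obtain ⟨y, hxy, hy⟩ := S.h₁.exists_aniso_perp (by omega) hx
  have hu : S.quad (emb n x) = 0 := by rw [S.quad_apply, S.om_emb_emb, hnn, mul_zero, mul_zero]
  have hz : S.quad (emb n y) = 0 := by rw [S.quad_apply, S.om_emb_emb, hnn, mul_zero, mul_zero]
  have huz : QuadraticMap.polar ⇑S.quad (emb n x) (emb n y) = 0 := by
    rw [S.polar_quad, S.om_emb_emb, hnn, mul_zero]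
  obtain ⟨g, hg, hgg⟩ := OrthStab.exists_lift S.polarND h5
    (eich_mem_eichGroup (Q := S.quad) (emb n x) (emb n y))
  refine ⟨g.1, hg, ?_⟩
  rintro ⟨A, B, hAB⟩
  have hgx : ∀ (w : Fin b → F) (t : Fin a → F), emb (act B w) (act A t) = emb w t +
      S.f₂ n w • emb n (S.f₁ x t • y - S.f₁ y t • x) := fun w t => by
    rw [← act_kr, show kr A B = g.1 from Units.ext hAB.symm, act_apply,
      show (g.1 : Matrix (Fin a × Fin b) (Fin a × Fin b) F) *ᵥ emb w t =
        (eich S.quad (emb n x) (emb n y)).1 (emb w t) by rw [← hgg]; rfl,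
      eich_apply hu huz, hz, S.polar_quad, S.polar_quad, S.om_emb_emb, S.om_emb_emb, zero_mul,
      zero_smul, sub_zero, map_sub, map_smul, map_smul, smul_sub, smul_smul, smul_smul,
      mul_comm (S.f₂ n w), mul_comm (S.f₂ n w)]
    abel
  -- `B` fixes the line of `n`, so `A` is scalar
  have hd : S.f₂ n' n = 1 := by rw [S.comm₂, hnn']
  set c := S.f₂ n' (act B n)
  have hA : ∀ t, c • act A t = t := fun t => by
    have h := congrArg (S.pi n') (hgx n t)
    rw [hnn, zero_smul, add_zero, S.pi_emb, S.pi_emb, hd, one_smul] at h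
    exact h
  -- the contraction with `n'` at `n'` is then a multiple of the identity
  set c' := S.f₂ n' (act B n')
  have h := congrArg (fun z => c • S.pi n' z) (hgx n' x)
  simp only [map_add, map_smul, S.pi_emb, hd, hnn', one_smul, smul_add, smul_smul] at h
  rw [mul_comm c c', ← smul_smul c' c, hA] at h
  have h' := congrArg (S.f₁ y) h
  simp only [map_add, map_sub, map_smul, smul_eq_mul, S.comm₁ x y, hxy, mul_zero, zero_add,
    sub_zero] at h'
  have hc : c ≠ 0 := fun h0 => hx (by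
    have := hA x
    rw [h0, zero_smul] at this
    rw [← this]; simp)
  exact mul_ne_zero hc (mul_ne_zero hx hy) h'.symm

/-- The tensor stabiliser is maximal in `Ω`. -/
theorem isMaximal [Finite F] (S : OForm F a b) (ha : 3 ≤ a) (hb : 5 ≤ b) (hab : a < b)
    (hbig : 4 ≤ a ∨ ∃ t : F, t ≠ 0 ∧ t ^ 2 ≠ 1) (hpar : Odd a ∨ Odd b)
    (hKron : ∀ H, Std S H → H ≤ Cfsg.Geo.kroneckerSubgroup a b F)
    (hRoot : ∀ M, Over S M → M ≤ Cfsg.Geo.omegaGL ⇑S.quad → Root S M →
      Cfsg.Geo.omegaGL ⇑S.quad ≤ M) :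
    Cfsg.Geo.IsMaximalIn (Cfsg.Geo.omegaGL ⇑S.quad)
      (Cfsg.Geo.kroneckerSubgroup a b F ⊓ Cfsg.Geo.omegaGL ⇑S.quad) := by
  refine ⟨lt_of_le_not_ge inf_le_right fun h => ?_, fun M h1 h2 => ?_⟩
  · obtain ⟨g, hg, hgK⟩ := exists_not_kronecker S ha (by omega)
    exact hgK (h hg).1
  have O := over_of_le S h1 h2
  by_cases hR : Root S M
  · exact Or.inr (le_antisymm h2 (hRoot M O h2 hR))
  · exact Or.inl (le_antisymm (le_inf (hKron M ⟨O, hR, ha, hb, hab, hbig, hpar⟩) h2) h1)

section Transfer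

variable {ι : Type} [Fintype ι] [DecidableEq ι]

/-- The change of coordinates of a tensor decomposition. -/
def phi (e : ι ≃ Fin a × Fin b) (P : GL ι F) : GL (Fin a × Fin b) F ≃* GL ι F :=
  (Cfsg.Geo.glReindex e.symm).trans (MulAut.conj P)

theorem phi_mulVec (e : ι ≃ Fin a × Fin b) (P : GL ι F) (g : GL (Fin a × Fin b) F)
    (z : Fin a × Fin b → F) :
    (phi e P g : Matrix ι ι F) *ᵥ ((P : Matrix ι ι F) *ᵥ (z ∘ e)) =
      (P : Matrix ι ι F) *ᵥ (((g : Matrix (Fin a × Fin b) (Fin a × Fin b) F) *ᵥ z) ∘ e) := by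
  rw [show phi e P g = P * Cfsg.Geo.glReindex e.symm g * P⁻¹ from rfl, Units.val_mul, Units.val_mul,
    ← mulVec_mulVec, ← mulVec_mulVec, inv_mulVec_mulVec]
  congr 1
  show (Matrix.reindex e.symm e.symm (g : Matrix _ _ F)) *ᵥ _ = _
  rw [Matrix.reindex_apply, Matrix.submatrix_mulVec_equiv]
  simp only [Equiv.symm_symm, Function.comp_assoc, Equiv.self_comp_symm, Function.comp_id]

/-- Transfer to a quadratic form similar to a tensor product of symmetric forms. -/
theorem transfer (h2 : (2 : F) ≠ 0) (Qf : QuadraticForm F (ι → F)) (e : ι ≃ Fin a × Fin b)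
    (P : GL ι F) (f₁ : (Fin a → F) → (Fin a → F) → F) (f₂ : (Fin b → F) → (Fin b → F) → F)
    (hf₁ : Cfsg.Geo.IsSymmetricForm f₁) (hf₂ : Cfsg.Geo.IsSymmetricForm f₂)
    (hT : Cfsg.Geo.IsTensorFormStructure id (QuadraticMap.polar ⇑Qf) f₁ f₂ e P)
    (key : ∀ S : OForm F a b, (∃ c : F, c ≠ 0 ∧ ∀ x y, S.f₁ x y = c * f₁ x y) →
      Cfsg.Geo.IsMaximalIn (Cfsg.Geo.omegaGL ⇑S.quad)
        (Cfsg.Geo.kroneckerSubgroup a b F ⊓ Cfsg.Geo.omegaGL ⇑S.quad)) :
    Cfsg.Geo.IsMaximalIn (Cfsg.Geo.omegaGL ⇑Qf)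
      (Cfsg.Geo.tensorProductSubgroup a b e P ⊓ Cfsg.Geo.omegaGL ⇑Qf) := by
  classical
  obtain ⟨c, hc, hT⟩ := hT
  have hb₁ := hf₁.bilinear
  have hb₂ := hf₂.bilinear
  let S : OForm F a b :=
    { f₁ := c • LinearMap.mk₂ F f₁ hb₁.add_left hb₁.smul_left hb₁.add_right hb₁.smul_right
      f₂ := LinearMap.mk₂ F f₂ hb₂.add_left hb₂.smul_left hb₂.add_right hb₂.smul_right
      h₁ := ⟨fun x y => by simp [hf₁.symm x y], fun x hx => by
        by_contra h0
        obtain ⟨y, hy⟩ := (hf₁.nondegenerate x h0).2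
        exact hy (by simpa [hc] using hx y), h2⟩
      h₂ := ⟨fun x y => by simp [hf₂.symm x y], fun x hx => by
        by_contra h0
        obtain ⟨y, hy⟩ := (hf₂.nondegenerate x h0).2
        exact hy (hx y), h2⟩ }
  let L : V F a b →ₗ[F] (ι → F) :=
    (P : Matrix ι ι F).mulVecLin ∘ₗ LinearMap.funLeft F F e
  have hLs : Function.Surjective L := fun x =>
    ⟨(((P⁻¹ : GL ι F) : Matrix ι ι F) *ᵥ x) ∘ e.symm, by
      show (P : Matrix ι ι F) *ᵥ _ = x
      rw [show LinearMap.funLeft F F e _ = _ ∘ e from rfl, Function.comp_assoc,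
        Equiv.symm_comp_self, Function.comp_id, MaxSub.mulVec_inv_mulVec]⟩
  have hpol : ∀ z z', QuadraticMap.polar ⇑Qf (L z) (L z') = S.om z z' := by
    have h : ∀ v x w y, QuadraticMap.polar ⇑Qf (L (emb v x)) (L (emb w y)) =
        S.f₁ x y * S.f₂ v w := fun v x w y =>
      NotMax.form_ten (σ := RingHom.id F) hT
        (NotMax.eq_formOfGram _ hb₁.add_left hb₁.smul_left hb₁.add_right hb₁.smul_right)
        (NotMax.eq_formOfGram _ hb₂.add_left hb₂.smul_left hb₂.add_right hb₂.smul_right) x y v w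
    intro z z'
    let B : V F a b →ₗ[F] V F a b →ₗ[F] F := (QuadraticMap.polarBilin Qf).compl₁₂ L L - S.omL
    have hB : B z z' = 0 := by
      rw [eq_sum_emb z, eq_sum_emb z']
      simp only [map_sum, LinearMap.sum_apply]
      refine Finset.sum_eq_zero fun i _ => Finset.sum_eq_zero fun j _ => ?_
      show QuadraticMap.polar ⇑Qf _ _ - S.om _ _ = 0
      rw [h, S.om_emb_emb, sub_self]
    exact sub_eq_zero.1 hB
  have hQ : ∀ z, S.quad z = Qf (L z) := fun z => by
    rw [S.quad_apply, ← hpol, QuadraticMap.polar_self, nsmul_eq_mul]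
    push_cast
    field_simp
  have hinj : Function.Injective (phi e P).toMonoidHom := (phi e P).injective
  have hI : (Cfsg.isometryGroup F ⇑S.quad).map (phi e P).toMonoidHom =
      Cfsg.isometryGroup F ⇑Qf := by
    ext g
    constructor
    · rintro ⟨k, hk, rfl⟩ u _
      obtain ⟨z, rfl⟩ := hLs u
      show Qf ((phi e P k : Matrix ι ι F) *ᵥ (L z)) = Qf (L z)
      rw [show L z = (P : Matrix ι ι F) *ᵥ (z ∘ e) from rfl, phi_mulVec]
      exact (hQ _).symm.trans ((hk z 0).trans (hQ z))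
    · intro hg
      refine ⟨(phi e P).symm g, fun z _ => ?_, (phi e P).apply_symm_apply g⟩
      show S.quad _ = S.quad z
      rw [hQ, hQ, Units.coeHom_apply, show L _ = (P : Matrix ι ι F) *ᵥ (_ ∘ e) from rfl,
        ← phi_mulVec, MulEquiv.apply_symm_apply]
      exact hg _ 0
  have hΩ : (Cfsg.Geo.omegaGL ⇑S.quad).map (phi e P).toMonoidHom = Cfsg.Geo.omegaGL ⇑Qf := by
    rw [omegaGL_eq_commutator, omegaGL_eq_commutator, Subgroup.map_commutator, hI]
  have hK : (Cfsg.Geo.kroneckerSubgroup a b F ⊓ Cfsg.Geo.omegaGL ⇑S.quad).map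
      (phi e P).toMonoidHom = Cfsg.Geo.tensorProductSubgroup a b e P ⊓ Cfsg.Geo.omegaGL ⇑Qf := by
    rw [Subgroup.map_inf _ _ _ hinj, hΩ, Cfsg.Geo.tensorProductSubgroup, Subgroup.map_map]
    rfl
  obtain ⟨hlt, hmax⟩ := key S ⟨c, hc, fun x y => rfl⟩
  rw [← hK, ← hΩ]
  refine ⟨(Subgroup.map_lt_map_iff_of_injective hinj).mpr hlt, fun M m1 m2 => ?_⟩
  have hM : (M.comap (phi e P).toMonoidHom).map (phi e P).toMonoidHom = M :=
    Subgroup.map_comap_eq_self_of_surjective (phi e P).surjective M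
  rcases hmax (M.comap (phi e P).toMonoidHom) (Subgroup.map_le_iff_le_comap.mp m1)
    (by rw [← Subgroup.map_le_map_iff_of_injective hinj, hM]; exact m2) with h | h
  · left; rw [← hM, h]
  · right; rw [← hM, h]

end Transfer

end Cfsg.Agent.TensorOO
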