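import Cfsg.Agent.TensorOO.Line
import Cfsg.Agent.TensorOO.Members

/-!
A Siegel element or an involution with small centraliser conjugated into the tensor stabiliser
(helper58, for helper19's chain).
-/

set_option autoImplicit false
set_option linter.unusedSectionVars false
set_option linter.unusedSimpArgs false

namespace Cfsg.Agent.TensorOO

open Matrix hiding col
open Cfsg.Agent.MaxSub Cfsg.Agent.TensorMax Cfsg.Agent.TensorInv Module

variable {F : Type*} [Field F] {a b m : ℕ}

/-- A Kronecker product that is trivial consists of inverse scalars. -/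
theorem scalar_of_kr_eq_one (ha : 1 ≤ a) (hb : 1 ≤ b) {g : GL (Fin a) F} {g' : GL (Fin b) F}
    (h : kr g g' = 1) :
    ∃ c : F, c ≠ 0 ∧ (∀ x, act g x = c • x) ∧ ∀ v, act g' v = c⁻¹ • v := by
  have e : ∀ v x i j, act g x i * act g' v j = x i * v j := fun v x i j => by
    have := congrFun (act_kr g g' v x) (i, j)
    rw [h, act_one] at this
    exact this.symm
  let v₀ : Fin b → F := Pi.single ⟨0, hb⟩ 1
  let x₀ : Fin a → F := Pi.single ⟨0, ha⟩ 1
  have hv₀ : act g' v₀ ≠ 0 := fun h0 => by
    have := congrFun (act_injective g' (h0.trans (map_zero _).symm)) ⟨0, hb⟩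
    simp [v₀] at this
  obtain ⟨j, hj⟩ := Function.ne_iff.1 hv₀
  have h1 : ∀ x, act g x = (v₀ j / act g' v₀ j) • x := fun x => funext fun i => by
    rw [Pi.smul_apply, smul_eq_mul, div_mul_eq_mul_div, eq_div_iff hj, e, mul_comm]
  have hc : v₀ j / act g' v₀ j ≠ 0 := fun h0 => by
    have := congrFun (act_injective g (show act g x₀ = act g 0 by
      rw [h1, h0, zero_smul, map_zero])) ⟨0, ha⟩
    simp [x₀] at this
  refine ⟨_, hc, h1, fun v => funext fun k => ?_⟩
  have := e v x₀ ⟨0, ha⟩ k
  rw [h1, Pi.smul_apply, smul_eq_mul] at this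
  simp only [x₀, Pi.single_eq_same, mul_one, one_mul] at this
  rw [Pi.smul_apply, smul_eq_mul, eq_inv_mul_iff_mul_eq₀ hc, this]

theorem kr_pow (g : GL (Fin a) F) (g' : GL (Fin b) F) : ∀ j : ℕ,
    kr g g' ^ j = kr (g ^ j) (g' ^ j)
  | 0 => by rw [pow_zero, pow_zero, pow_zero, kr_one]
  | j + 1 => by rw [pow_succ, pow_succ, pow_succ, kr_pow g g' j, kr_mul]

/-- Moving a scalar between the factors. -/
theorem exists_rescale (g : GL (Fin a) F) (g' : GL (Fin b) F) {r : F} (hr : r ≠ 0) :
    ∃ (g₁ : GL (Fin a) F) (g₂ : GL (Fin b) F), (∀ x, act g₁ x = r⁻¹ • act g x) ∧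
      (∀ v, act g₂ v = r • act g' v) ∧ kr g₁ g₂ = kr g g' := by
  obtain ⟨g₁, h1⟩ := exists_gl (r⁻¹ • act g) fun x y e =>
    act_injective g (smul_right_injective _ (inv_ne_zero hr) e)
  obtain ⟨g₂, h2⟩ := exists_gl (r • act g') fun x y e =>
    act_injective g' (smul_right_injective _ hr e)
  refine ⟨g₁, g₂, h1, h2, gl_ext_emb fun v x => ?_⟩
  rw [act_kr, act_kr, h1, h2, LinearMap.smul_apply, LinearMap.smul_apply, emb_smul_comm, smul_smul,
    mul_inv_cancel₀ hr, one_smul]

/-- The factors of an isometric Kronecker product are similitudes of inverse multipliers. -/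
theorem exists_mult {S : OForm F a b} (ha : 1 ≤ a) (hb : 1 ≤ b) {g : GL (Fin a) F}
    {g' : GL (Fin b) F} (h : kr g g' ∈ MaxSub.isom S.om) :
    ∃ μ : F, μ ≠ 0 ∧ (∀ x y, S.f₁ (act g x) (act g y) = μ * S.f₁ x y) ∧
      ∀ v w, S.f₂ (act g' v) (act g' w) = μ⁻¹ * S.f₂ v w := by
  have e : ∀ v x w y, S.f₁ (act g x) (act g y) * S.f₂ (act g' v) (act g' w) =
      S.f₁ x y * S.f₂ v w := fun v x w y => by
    have := S.om_act h (emb v x) (emb w y)
    rwa [act_kr, act_kr, S.om_emb_emb, S.om_emb_emb] at this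
  obtain ⟨v₀, hv₀⟩ := S.h₂.exists_aniso hb
  obtain ⟨x₀, hx₀⟩ := S.h₁.exists_aniso ha
  have hne : S.f₂ (act g' v₀) (act g' v₀) ≠ 0 := fun h0 => by
    have := e v₀ x₀ v₀ x₀
    rw [h0, mul_zero] at this
    exact mul_ne_zero hx₀ hv₀ this.symm
  have h1 : ∀ x y, S.f₁ (act g x) (act g y) =
      S.f₂ v₀ v₀ / S.f₂ (act g' v₀) (act g' v₀) * S.f₁ x y := fun x y => by
    rw [div_mul_eq_mul_div, eq_div_iff hne, e, mul_comm]
  refine ⟨_, div_ne_zero hv₀ hne, h1, fun v w => ?_⟩
  have := e v x₀ w x₀
  rw [h1] at this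
  rw [eq_inv_mul_iff_mul_eq₀ (div_ne_zero hv₀ hne)]
  exact mul_left_cancel₀ hx₀ (by linear_combination this)

/-- An isometry without eigenvalue `-1` moving vectors along one line is trivial. -/
theorem eq_one_of_rank {f : (Fin m → F) →ₗ[F] (Fin m → F) →ₗ[F] F} (hf : Sym f)
    {g : GL (Fin m) F} (hg : ∀ x y, f (act g x) (act g y) = f x y)
    (hneg : ∀ x, act g x = -x → x = 0) {v : Fin m → F}
    (hv : ∀ x, ∃ c : F, act g x = x + c • v) : g = 1 := by
  refine act_ext fun x => ?_
  rw [act_one]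
  by_cases hv0 : v = 0
  · obtain ⟨c, hc⟩ := hv x
    rw [hc, hv0, smul_zero, add_zero]
  by_cases hvv : f v v = 0
  · have key : ∀ y, f v y ≠ 0 → act g y = y := fun y hy => by
      obtain ⟨c, hc⟩ := hv y
      have := hg y y
      rw [hc] at this
      simp only [map_add, map_smul, LinearMap.add_apply, LinearMap.smul_apply, smul_eq_mul, hvv,
        hf.symm v y, mul_zero, add_zero] at this
      have : (2 : F) * (c * f v y) = 0 := by linear_combination this
      simp only [mul_eq_zero, hf.two, false_or, hy, or_false] at this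
      rw [hc, this, zero_smul, add_zero]
    obtain ⟨y₀, hy₀⟩ : ∃ y, f v y ≠ 0 := by
      by_contra hc
      push Not at hc
      exact hv0 (hf.nd v hc)
    by_cases hx : f v x = 0
    · have h := key (x + y₀) (by rw [map_add, hx, zero_add]; exact hy₀)
      rw [map_add, key y₀ hy₀] at h
      exact add_right_cancel h
    · exact key x hx
  · have hgv : act g v = v := by
      obtain ⟨c, hc⟩ := hv v
      have := hg v v
      rw [hc] at this
      simp only [map_add, map_smul, LinearMap.add_apply, LinearMap.smul_apply, smul_eq_mul] at this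
      have : c * (c + 2) = 0 := mul_right_cancel₀ hvv (by linear_combination this)
      rcases mul_eq_zero.1 this with rfl | hc2
      · rw [hc, zero_smul, add_zero]
      · exact absurd (hneg v (by
          rw [hc, eq_neg_of_add_eq_zero_left hc2, neg_smul, two_smul]; abel)) hv0
    obtain ⟨c, hc⟩ := hv x
    have := hg x v
    rw [hgv, hc] at this
    simp only [map_add, map_smul, LinearMap.add_apply, LinearMap.smul_apply, smul_eq_mul] at this
    have : c = 0 := (mul_eq_zero.1 (show c * f v v = 0 by linear_combination this)).resolve_right hvv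
    rw [hc, this, zero_smul, add_zero]

/-- The space of maps intertwining a nilpotent map with another map. -/
theorem finrank_intertwine {N : Module.End F (Fin b → F)} {q : ℕ} (hN : N ^ q = 0)
    (M : (Fin a → F) →ₗ[F] (Fin a → F))
    (W : Submodule F ((Fin b → F) →ₗ[F] (Fin a → F))) (hW : ∀ φ ∈ W, ∀ x, φ (N x) = M (φ x)) :
    finrank F W ≤ b * finrank F (LinearMap.ker M) := by
  suffices key : ∀ j, ∀ (D : Submodule F (Fin b → F))
      (W : Submodule F ((Fin b → F) →ₗ[F] (Fin a → F))), b ≤ finrank F D + j →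
      (∀ x ∈ D, N x ∈ D) → (∀ φ ∈ W, (∀ x, φ (N x) = M (φ x)) ∧ ∀ x ∈ D, φ x = 0) →
      finrank F W ≤ j * finrank F (LinearMap.ker M) from
    key b ⊥ W (by simp) (fun x hx => by simp [(Submodule.mem_bot F).1 hx])
      fun φ hφ => ⟨hW φ hφ, fun x hx => by simp [(Submodule.mem_bot F).1 hx]⟩
  intro j
  induction j with
  | zero =>
    intro D W hD _ hW
    have hT : D = ⊤ := Submodule.eq_top_of_finrank_eq
      (le_antisymm (Submodule.finrank_le D) (by rw [finrank_fin_fun]; simpa using hD))
    have : W = ⊥ := (Submodule.eq_bot_iff W).2 fun φ hφ =>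
      LinearMap.ext fun x => (hW φ hφ).2 x (hT ▸ Submodule.mem_top)
    rw [this, finrank_bot]
    exact Nat.zero_le _
  | succ j ih =>
    intro D W hD hND hW
    by_cases hT : D = ⊤
    · have : W = ⊥ := (Submodule.eq_bot_iff W).2 fun φ hφ =>
        LinearMap.ext fun x => (hW φ hφ).2 x (hT ▸ Submodule.mem_top)
      rw [this, finrank_bot]
      exact Nat.zero_le _
    obtain ⟨d₀, -, hd₀⟩ := SetLike.exists_of_lt (lt_top_iff_ne_top.2 hT)
    classical
    have hex : ∃ i, (N ^ i) d₀ ∈ D := ⟨q, by rw [hN]; exact D.zero_mem⟩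
    obtain ⟨i, hi⟩ : ∃ i, Nat.find hex = i + 1 :=
      Nat.exists_eq_succ_of_ne_zero fun h0 => hd₀ (by simpa [h0] using Nat.find_spec hex)
    set d := (N ^ i) d₀
    have hd : d ∉ D := Nat.find_min hex (by omega)
    have hNd : N d ∈ D := by
      have := Nat.find_spec hex
      rwa [hi, pow_succ', Module.End.mul_apply] at this
    let D' := D ⊔ Submodule.span F {d}
    have hlt : D < D' := lt_of_le_of_ne le_sup_left fun e =>
      hd (e ▸ Submodule.mem_sup_right (Submodule.mem_span_singleton_self d))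
    let ev : W →ₗ[F] (Fin a → F) :=
      (LinearMap.applyₗ d : ((Fin b → F) →ₗ[F] (Fin a → F)) →ₗ[F] (Fin a → F)) ∘ₗ W.subtype
    have h1 : finrank F (LinearMap.range ev) ≤ finrank F (LinearMap.ker M) :=
      Submodule.finrank_mono (by
        rintro _ ⟨φ, rfl⟩
        rw [LinearMap.mem_ker]
        show M (φ.1 d) = 0
        rw [← (hW φ.1 φ.2).1, (hW φ.1 φ.2).2 _ hNd])
    have h2 := ih D' ((LinearMap.ker ev).map W.subtype)
      (by have := Submodule.finrank_lt_finrank_of_lt hlt; omega)
      (fun x hx => by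
        obtain ⟨y, hy, z, hz, rfl⟩ := Submodule.mem_sup.1 hx
        obtain ⟨c, rfl⟩ := Submodule.mem_span_singleton.1 hz
        rw [map_add, map_smul]
        exact Submodule.mem_sup_left (add_mem (hND y hy) (D.smul_mem c hNd)))
      (fun φ hφ => by
        obtain ⟨ψ, hψ, rfl⟩ := hφ
        refine ⟨(hW ψ.1 ψ.2).1, fun x hx => ?_⟩
        obtain ⟨y, hy, z, hz, rfl⟩ := Submodule.mem_sup.1 hx
        obtain ⟨c, rfl⟩ := Submodule.mem_span_singleton.1 hz
        have hψd : ψ.1 d = 0 := hψ
        show ψ.1 (y + c • d) = 0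
        rw [map_add, map_smul, hψd, (hW ψ.1 ψ.2).2 y hy, smul_zero, add_zero])
    rw [Submodule.finrank_map_subtype_eq] at h2
    have h3 := LinearMap.finrank_range_add_finrank_ker (K := F) (V := ↥W) ev
    rw [← h3, Nat.succ_mul]
    omega

variable [Finite F] {S : OForm F a b} {H : Subgroup (GL (Fin a × Fin b) F)}

/-- A conjugate of a Siegel element in the tensor stabiliser. -/
theorem conjK (hS : Std S H) (hL : LineK S H) : ConjK S H := by
  intro h hh n u hn0 hn hu hq hT
  have O := hS.ov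
  have ha := hS.ha
  have hb := hS.hb
  have hf := S.h₂
  obtain ⟨n', hn'n', hnn'⟩ := exists_partner S.two hf.symm hf.nd hn0 hn
  have P : Hyp S n n' := ⟨hn, hn'n', hnn'⟩
  set k : GL (Fin a × Fin b) F := kr 1 (el S.f₂ n u) with hk
  set T := h * k * h⁻¹ with hTd
  have hTz : ∀ z, act T (act h z) = act h (act k z) := fun z => by
    rw [hTd, act_mul, act_mul, act_inv_act]
  -- the exponent
  obtain ⟨p, hp⟩ := CharP.exists F
  have : Fact p.Prime := ⟨CharP.char_is_prime F p⟩
  have hp2 : p ≠ 2 := fun h2 => S.two (by exact_mod_cast (h2 ▸ CharP.cast_eq_zero F p))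
  have hpodd : Odd p := (Fact.out : p.Prime).odd_of_ne_two hp2
  have hE : ∀ j : ℕ, el S.f₂ n u ^ j = el S.f₂ n ((j : F) • u) := by
    intro j
    induction j with
    | zero =>
      refine act_ext fun w => ?_
      rw [pow_zero, act_one, el_apply hf hn (by rw [map_smul, hu, smul_zero])]
      simp
    | succ j ih =>
      rw [pow_succ, ih, el_mul hf hn (by rw [map_smul, hu, smul_zero]) hu, Nat.cast_succ, add_smul,
        one_smul]
  obtain ⟨g₀, g₀', hT₀⟩ := hT
  have hT₀ : T = kr g₀ g₀' := Units.ext hT₀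
  have hTp : T ^ p = 1 := by
    have hk1 : k ^ p = 1 := by
      have h0 : el S.f₂ n ((0 : F) • u) = 1 := by
        have := hE 0
        rw [Nat.cast_zero, pow_zero] at this
        exact this.symm
      rw [hk, kr_pow, one_pow, hE, CharP.cast_eq_zero, h0, kr_one]
    rw [hTd, conj_pow, hk1, mul_one, mul_inv_cancel]
  -- rescale to elements of order `p`
  obtain ⟨c, hc, hg₀, -⟩ := scalar_of_kr_eq_one (by omega) (by omega)
    (g := g₀ ^ p) (g' := g₀' ^ p) (by rw [← kr_pow, ← hT₀, hTp])
  obtain ⟨r, hr⟩ := Finite.injective_iff_surjective.1 (frobenius_inj F p) c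
  rw [frobenius_def] at hr
  have hr0 : r ≠ 0 := fun h0 => hc (by rw [← hr, h0, zero_pow (Fact.out : p.Prime).ne_zero])
  obtain ⟨g, g', hg, -, hgg⟩ := exists_rescale g₀ g₀' hr0
  have hTg : T = kr g g' := hT₀.trans hgg.symm
  have hgpow : ∀ j x, act (g ^ j) x = (r⁻¹) ^ j • act (g₀ ^ j) x := by
    intro j
    induction j with
    | zero => intro x; simp
    | succ j ih =>
      intro x
      rw [pow_succ' g, pow_succ' g₀, act_mul, act_mul, ih, map_smul, hg, smul_smul, ← pow_succ]
  have hgp : g ^ p = 1 := act_ext fun x => by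
    rw [hgpow, hg₀, smul_smul, inv_pow, hr, inv_mul_cancel₀ hc, one_smul, act_one]
  have hg'p : g' ^ p = 1 := by
    obtain ⟨c', -, h1, h2⟩ := scalar_of_kr_eq_one (a := a) (by omega) (by omega)
      (g := 1) (g' := g' ^ p) (by rw [← hgp, ← kr_pow, ← hTg, hTp])
    have hc1 : c' = 1 := by
      have := congrFun (h1 (Pi.single ⟨0, by omega⟩ 1)) ⟨0, by omega⟩
      simpa using this.symm
    exact act_ext fun v => by rw [h2, hc1, inv_one, one_smul, act_one]
  obtain ⟨lam, hlam, hlam₁, hlam₂⟩ := exists_mult (S := S) (by omega : 1 ≤ a) (by omega : 1 ≤ b)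
    (g := g) (g' := g') (hTg ▸ mul_mem (mul_mem (O.isom hh)
      (O.isom (O.elB (by omega) hn0 hn hu))) (inv_mem (O.isom hh)))
  have hlamp : ∀ j x y, S.f₁ (act (g ^ j) x) (act (g ^ j) y) = lam ^ j * S.f₁ x y := by
    intro j
    induction j with
    | zero => intro x y; simp
    | succ j ih => intro x y; rw [pow_succ', act_mul, act_mul, hlam₁, ih]; ring
  have hlam1 : lam = 1 := by
    obtain ⟨x, hx⟩ := S.h₁.exists_aniso (show 1 ≤ a by omega)
    have := hlamp p x x
    rw [hgp, act_one] at this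
    refine frobenius_inj F p ?_
    rw [frobenius_def, frobenius_def, one_pow]
    exact mul_right_cancel₀ hx (by rw [← this, one_mul])
  subst hlam1
  simp only [one_mul, inv_one] at hlam₁ hlam₂
  have hneg : ∀ x, act g x = -x → x = 0 := fun x hx => by
    have h1 : ∀ j, act (g ^ j) x = (-1 : F) ^ j • x := by
      intro j
      induction j with
      | zero => simp
      | succ j ih => rw [pow_succ' g, act_mul, ih, map_smul, hx, pow_succ, mul_neg_one, neg_smul,
          smul_neg]
    have := h1 p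
    rw [hgp, act_one, hpodd.neg_one_pow, neg_smul, one_smul] at this
    exact (smul_eq_zero.1 (show (2 : F) • x = 0 by linear_combination (norm := module) this)
      ).resolve_left S.two
  -- the fixed spaces
  have hg1 : g = 1 := by
    by_contra hne
    have : Nonempty (Fin b) := ⟨⟨0, by omega⟩⟩
    let N : Module.End F (Fin b → F) :=
      Matrix.toLinAlgEquiv' ((g' : Matrix (Fin b) (Fin b) F) - 1)
    have hNd : ∀ v, N v = act g' v - v := fun v => by
      show ((g' : Matrix (Fin b) (Fin b) F) - 1) *ᵥ v = _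
      rw [Matrix.sub_mulVec, one_mulVec]
      rfl
    have hN : N ^ p = 0 := by
      rw [← map_pow, sub_pow_char_of_commute p (Commute.one_right _), one_pow, ← Units.val_pow_eq_pow_val,
        hg'p, Units.val_one, sub_self, map_zero]
    let piLL : V F a b →ₗ[F] ((Fin b → F) →ₗ[F] (Fin a → F)) :=
      { toFun := S.piL
        map_add' := fun z z' => LinearMap.ext fun v => map_add (S.pi v) z z'
        map_smul' := fun c z => LinearMap.ext fun v => map_smul (S.pi v) c z }
    have hinj : Function.Injective piLL := fun z z' e =>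
      S.eq_of_pi fun d => LinearMap.congr_fun e d
    let M : (Fin a → F) →ₗ[F] (Fin a → F) := act g - LinearMap.id
    have h1 := finrank_intertwine hN M ((LinearMap.ker (act T - LinearMap.id)).map piLL) (by
      rintro _ ⟨z, hz, rfl⟩ d
      rw [SetLike.mem_coe, LinearMap.mem_ker, LinearMap.sub_apply, LinearMap.id_apply,
        sub_eq_zero, hTg] at hz
      show S.pi (N d) z = act g (S.pi d z) - S.pi d z
      rw [hNd, S.pi_sub]
      congr 1
      conv_lhs => rw [← hz, S.pi_kr g hlam₂, act_inv_act])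
    rw [← (Submodule.equivMapOfInjective piLL hinj _).finrank_eq] at h1
    let Φ : V F a b →ₗ[F] (Fin a → F) × (Fin a → F) := (S.pi n).prod (S.pi u)
    have h2 : finrank F (LinearMap.ker Φ) ≤ finrank F (LinearMap.ker (act T - LinearMap.id)) := by
      rw [(Submodule.equivMapOfInjective (act h) (act_injective h) (LinearMap.ker Φ)).finrank_eq]
      refine Submodule.finrank_mono ?_
      rintro _ ⟨z, hz, rfl⟩
      obtain ⟨hz1, hz2⟩ : S.pi n z = 0 ∧ S.pi u z = 0 := by simpa [Φ] using hz
      rw [LinearMap.mem_ker, LinearMap.sub_apply, LinearMap.id_apply, sub_eq_zero, hTz, hk,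
        kr_el_ker P hu hz1, hz2, map_zero, sub_zero]
    have h3 : a * b ≤ finrank F (LinearMap.ker Φ) + 2 * a := by
      have e := LinearMap.finrank_range_add_finrank_ker Φ
      have e' := Submodule.finrank_le (LinearMap.range Φ)
      rw [Module.finrank_prod, finrank_fin_fun] at e'
      rw [Module.finrank_pi, Fintype.card_prod, Fintype.card_fin, Fintype.card_fin] at e
      omega
    have h4 : finrank F (LinearMap.ker M) + 2 ≤ a := by
      have e := LinearMap.finrank_range_add_finrank_ker M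
      rw [finrank_fin_fun] at e
      by_contra hlt
      obtain ⟨v, hv⟩ := finrank_le_one_iff.1 (show finrank F (LinearMap.range M) ≤ 1 by omega)
      refine hne (eq_one_of_rank S.h₁ hlam₁ hneg (v := v.1) fun x => ?_)
      obtain ⟨c, hc⟩ := hv ⟨M x, LinearMap.mem_range_self M x⟩
      exact ⟨c, by
        have := congrArg Subtype.val hc
        simp only [Submodule.coe_smul, M, LinearMap.sub_apply, LinearMap.id_apply] at this
        rw [this, add_sub_cancel]⟩
    have h5 := Nat.mul_le_mul_left b h4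
    have := hS.hab
    have h12 := h2.trans h1
    rw [mul_add, mul_comm b a] at h5
    omega
  -- the line
  subst hg1
  let Dk : V F a b →ₗ[F] V F a b := act k - LinearMap.id
  let DT : V F a b →ₗ[F] V F a b := act T - LinearMap.id
  have hD : ∀ z, DT (DT (act h z)) = act h (Dk (Dk z)) := fun z => by
    simp only [DT, Dk, LinearMap.sub_apply, LinearMap.id_apply, map_sub, hTz]
  have hk2 : ∀ z, Dk (Dk z) = emb n ((-S.f₂ u u) • S.pi n z) := by
    intro z
    refine ext_emb (f := Dk ∘ₗ Dk) (g := emb n ∘ₗ ((-S.f₂ u u) • S.pi n)) (fun v x => ?_) z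
    have hd : ∀ w, Dk (emb w x) = emb (act (el S.f₂ n u) w - w) x := fun w => by
      simp only [Dk, hk, LinearMap.sub_apply, LinearMap.id_apply, act_kr, act_one, emb_sub_left]
    rw [LinearMap.comp_apply, hd, hd, LinearMap.comp_apply, LinearMap.smul_apply, S.pi_emb,
      smul_smul, ← emb_smul_comm]
    refine congrArg (fun w => emb w x) ?_
    simp only [map_sub, map_add, map_smul, el_apply hf hn hu, hn, hu, smul_eq_mul, mul_zero,
      show S.f₂ u n = 0 by rw [S.comm₂, hu]]
    module
  have hT2 : ∀ v x, DT (DT (emb v x)) =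
      emb (act g' (act g' v - v) - (act g' v - v)) x := by
    intro v x
    have hd : ∀ w, DT (emb w x) = emb (act g' w - w) x := fun w => by
      simp only [DT, hTg, LinearMap.sub_apply, LinearMap.id_apply, act_kr, act_one, emb_sub_left]
    rw [hd, hd]
  obtain ⟨v₀, hv₀⟩ : ∃ v₀, act g' (act g' v₀ - v₀) - (act g' v₀ - v₀) ≠ 0 := by
    by_contra hall
    push Not at hall
    obtain ⟨x, hx⟩ := S.h₁.exists_aniso (show 1 ≤ a by omega)
    have hz : ∀ z, DT (DT z) = 0 := fun z => ext_emb (f := DT ∘ₗ DT) (g := 0)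
      (fun v x => by rw [LinearMap.comp_apply, hT2, hall, emb_zero_left]; rfl) z
    have := hk2 (emb n' x)
    rw [S.pi_emb, hnn', one_smul] at this
    have h0 : (-S.f₂ u u) • x = 0 := emb_injective hn0 (by
      rw [map_zero, ← this]
      exact act_injective h (by rw [← hD, hz, map_zero]))
    exact hx (by rw [(smul_eq_zero.1 h0).resolve_left (neg_ne_zero.2 hq), map_zero])
  set m₀ := act g' (act g' v₀ - v₀) - (act g' v₀ - v₀)
  let L : (Fin a → F) →ₗ[F] (Fin a → F) :=
    ((-S.f₂ u u) • S.pi n) ∘ₗ act h⁻¹ ∘ₗ emb v₀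
  have hLx : ∀ x, act h (emb n (L x)) = emb m₀ x := fun x => by
    simp only [L, LinearMap.comp_apply, LinearMap.smul_apply]
    rw [← hk2, ← hD, act_act_inv, hT2]
  have hLs : Function.Surjective L := LinearMap.surjective_of_injective fun x y e =>
    emb_injective hv₀ (by rw [← hLx, ← hLx, e])
  exact hL h hh n m₀ hn0 hn fun y => by
    obtain ⟨x, rfl⟩ := hLs y
    exact ⟨x, hLx x⟩

/-- A Siegel element with anisotropic vector commuting with an involution. -/
theorem exists_el_comm {f : (Fin m → F) →ₗ[F] (Fin m → F) →ₗ[F] F} (hf : Sym f) (hm : 5 ≤ m)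
    {t : GL (Fin m) F} (ht : Invo f t) :
    ∃ n u, n ≠ 0 ∧ f n n = 0 ∧ f n u = 0 ∧ f u u ≠ 0 ∧ el f n u * t = t * el f n u := by
  classical
  have htt : ∀ x, act t (act t x) = x := fun x => by rw [← act_mul, ht.sq, act_one]
  obtain ⟨e, s, -, he, hs, hs', -⟩ := hf.exists_eigen_basis (fam_nil f) (Nat.zero_le m) (act t)
    ht.isom htt (fun i => i.elim0) (fun i => i.elim0) fun i => i.elim0
  obtain ⟨σ, hcard⟩ : ∃ σ : F, 2 < (Finset.univ.filter fun i => s i = σ).card := by
    by_contra hc
    push Not at hc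
    have h1 := hc 1
    have h2 := hc (-1)
    have hsub : (Finset.univ : Finset (Fin m)) ⊆
        (Finset.univ.filter fun i => s i = 1) ∪ Finset.univ.filter fun i => s i = -1 :=
      fun i _ => by simpa using mul_self_eq_one_iff.1 (hs' i)
    have h3 := (Finset.card_le_card hsub).trans (Finset.card_union_le _ _)
    rw [Finset.card_univ, Fintype.card_fin] at h3
    omega
  obtain ⟨i, j, l, hi, hj, hl, hij, hil, hjl⟩ := Finset.two_lt_card_iff.1 hcard
  simp only [Finset.mem_filter, Finset.mem_univ, true_and] at hi hj hl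
  have hF : Fam f ![e i, e j, e l] := by
    refine ⟨fun x => ?_, fun x y => ?_⟩
    · fin_cases x <;> simp [he.aniso]
    · fin_cases x <;> fin_cases y <;>
        simp [he.orth i j hij, he.orth j i hij.symm, he.orth i l hil, he.orth l i hil.symm,
          he.orth j l hjl, he.orth l j hjl.symm]
  obtain ⟨u, n, hu, hn0, hn, hun, hperp⟩ := hf.exists_good_three hF
  have heig : ∀ v, (∀ x, (∀ j', f x (![e i, e j, e l] j') = 0) → f x v = 0) →
      act t v = σ • v := by
    intro v hv
    refine sub_eq_zero.1 (hf.eq_zero_of_basis he fun x => ?_)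
    have h1 : f (e x) (act t v) = s x * f (e x) v := by
      calc f (e x) (act t v) = f (act t (e x)) (act t (act t v)) := (ht.isom _ _).symm
        _ = _ := by rw [htt, hs, map_smul, LinearMap.smul_apply, smul_eq_mul]
    rw [map_sub, map_smul, h1, smul_eq_mul]
    by_cases hx : s x = σ
    · rw [hx, sub_self]
    · have hne : ∀ y, s y = σ → x ≠ y := fun y hy e => hx (e ▸ hy)
      have := hv (e x) fun j' => by
        fin_cases j' <;> simp [he.orth x i (hne i hi), he.orth x j (hne j hj), he.orth x l (hne l hl)]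
      rw [this, mul_zero, mul_zero, sub_zero]
  have htn := heig n fun x hx => (hperp x hx).2
  have htu := heig u fun x hx => (hperp x hx).1
  have hnu : f n u = 0 := by rw [hf.symm, hun]
  refine ⟨n, u, hn0, hn, hnu, hu, (mul_inv_eq_iff_eq_mul.1 ?_).symm⟩
  rw [el_conj hf hn hnu ht.isom, htn, htu]
  rcases mul_self_eq_one_iff.1 (hi ▸ hs' i) with rfl | rfl
  · rw [one_smul, one_smul]
  · refine act_ext fun w => ?_
    rw [el_apply hf (by simp [hn]) (by simp [hnu]), el_apply hf hn hnu]
    simp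

/-- A conjugate in the tensor stabiliser of an involution with small centraliser. -/
theorem goodK (hS : Std S H) (hJ : ConjK S H) : GoodK S H := by
  intro x _ hxi hxx hcx h hh hw
  have O := hS.ov
  have ha := hS.ha
  have hb := hS.hb
  obtain ⟨g₀, g₀', hw₀⟩ := hw
  have hw₀ : h * x * h⁻¹ = kr g₀ g₀' := Units.ext hw₀
  have hwi : kr g₀ g₀' ∈ MaxSub.isom S.om :=
    hw₀ ▸ mul_mem (mul_mem (O.isom hh) hxi) (inv_mem (O.isom hh))
  obtain ⟨μ, hμ, hμ₁, hμ₂⟩ := exists_mult (by omega) (by omega) hwi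
  obtain ⟨r, hr⟩ : IsSquare μ := by
    rcases hS.par with hodd | hodd
    · exact (isSquare_of_odd S.h₁ hodd hμ₁).1
    · simpa using (isSquare_of_odd S.h₂ hodd hμ₂).1
  have hr0 : r ≠ 0 := fun h0 => hμ (by rw [hr, h0, mul_zero])
  obtain ⟨g, g', hg, hg', hgg⟩ := exists_rescale g₀ g₀' hr0
  have hgi : ∀ x y, S.f₁ (act g x) (act g y) = 1 * S.f₁ x y := fun x y => by
    rw [hg, hg, map_smul, map_smul, LinearMap.smul_apply, hμ₁, smul_eq_mul, smul_eq_mul, hr]
    field_simp
  have hg'i : ∀ x y, S.f₂ (act g' x) (act g' y) = 1 * S.f₂ x y := fun x y => by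
    rw [hg', hg', map_smul, map_smul, LinearMap.smul_apply, hμ₂, smul_eq_mul, smul_eq_mul, hr]
    field_simp
  have hsq : kr g g' * kr g g' = 1 := by
    rw [hgg, ← hw₀, show h * x * h⁻¹ * (h * x * h⁻¹) = h * (x * x) * h⁻¹ by group, hxx, mul_one,
      mul_inv_cancel]
  obtain ⟨d, hd, hd₁, hd₂⟩ := scalar_of_kr_eq_one (a := a) (b := b) (by omega) (by omega)
    (g := g * g) (g' := g' * g') (by rw [← kr_mul, hsq])
  have hd1 : d = 1 := by
    rcases hS.par with hodd | hodd
    · exact (isSquare_of_odd S.h₁ hodd hgi).2 rfl d fun x => by rw [← act_mul, hd₁]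
    · exact inv_eq_one.1 ((isSquare_of_odd S.h₂ hodd hg'i).2 rfl d⁻¹ fun x => by
        rw [← act_mul, hd₂])
  have ht : Invo S.f₂ g' := ⟨fun v w => by rw [hg'i, one_mul],
    act_ext fun v => by rw [hd₂, hd1, inv_one, one_smul, act_one]⟩
  obtain ⟨n, u, hn0, hn, hnu, huu, hcomm⟩ := exists_el_comm S.h₂ hb ht
  set k : GL (Fin a × Fin b) F := kr 1 (el S.f₂ n u) with hk
  have hkw : k * (h * x * h⁻¹) = h * x * h⁻¹ * k := by
    rw [hw₀, ← hgg, hk, kr_mul, kr_mul, one_mul, mul_one, hcomm]
  have hy : h⁻¹ * k * h ∈ Cfsg.Geo.kroneckerSubgroup a b F := by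
    refine hcx _ (mul_mem (mul_mem (inv_mem hh) (O.elB (by omega) hn0 hn hnu)) hh) ?_
    calc h⁻¹ * k * h * x = h⁻¹ * (k * (h * x * h⁻¹)) * h := by group
      _ = h⁻¹ * (h * x * h⁻¹ * k) * h := by rw [hkw]
      _ = _ := by group
  exact inv_mem_iff.1 (hJ h⁻¹ (inv_mem hh) n u hn0 hn hnu huu (by rwa [inv_inv]))

end Cfsg.Agent.TensorOO
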