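import Cfsg.Agent.TensorInv.Reflections
import Cfsg.Agent.Lib.Forms.Sesq

/-!
One symmetric form: Siegel elements, involutions of families, similitudes (helper19).
-/

set_option autoImplicit false
set_option linter.unusedSectionVars false
set_option linter.unusedSimpArgs false

namespace Cfsg.Agent.TensorOO

open Matrix hiding col
open Cfsg.Agent.MaxSub Cfsg.Agent.TensorMax Cfsg.Agent.TensorInv Module

variable {F : Type*} [Field F] {m k : ℕ} {f : (Fin m → F) →ₗ[F] (Fin m → F) →ₗ[F] F}

/-- The Siegel map. -/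
noncomputable def elMap (f : (Fin m → F) →ₗ[F] (Fin m → F) →ₗ[F] F) (n u : Fin m → F) :
    (Fin m → F) →ₗ[F] (Fin m → F) :=
  LinearMap.id + (f n).smulRight u - (f u).smulRight n - ((f u u / 2) • f n).smulRight n

theorem elMap_apply (n u w : Fin m → F) :
    elMap f n u w = w + f n w • u - f u w • n - (f u u / 2 * f n w) • n := by
  simp [elMap]

theorem elMap_elMap (hf : Sym f) {n u u' : Fin m → F} (hn : f n n = 0) (hu : f n u = 0)
    (hu' : f n u' = 0) (w : Fin m → F) :
    elMap f n u (elMap f n u' w) = elMap f n (u + u') w := by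
  have h2 := hf.two
  have e : f u n = 0 := by rw [hf.symm, hu]
  simp only [elMap_apply, map_add, map_sub, map_smul, LinearMap.add_apply, smul_eq_mul, hn, hu',
    e, hf.symm u u', mul_zero, add_zero, sub_zero]
  match_scalars <;> field_simp <;> ring

open Classical in
/-- The Siegel element `E(n, u)`. -/
noncomputable def el (f : (Fin m → F) →ₗ[F] (Fin m → F) →ₗ[F] F) (n u : Fin m → F) : GL (Fin m) F :=
  if h : Sym f ∧ f n n = 0 ∧ f n u = 0 then
    mkGL (elMap f n u) (elMap f n (-u))
      (fun w => by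
        rw [elMap_elMap h.1 h.2.1 h.2.2 (by rw [map_neg, h.2.2, neg_zero]), add_neg_cancel]
        simp [elMap_apply])
      (fun w => by
        rw [elMap_elMap h.1 h.2.1 (by rw [map_neg, h.2.2, neg_zero]) h.2.2, neg_add_cancel]
        simp [elMap_apply])
  else 1

theorem act_ext {g h : GL (Fin m) F} (H : ∀ x, act g x = act h x) : g = h := gl_ext H

section

variable (hf : Sym f)
include hf

theorem el_apply {n u : Fin m → F} (hn : f n n = 0) (hu : f n u = 0) (w : Fin m → F) :
    act (el f n u) w = w + f n w • u - f u w • n - (f u u / 2 * f n w) • n := by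
  rw [el, dif_pos ⟨hf, hn, hu⟩, act_apply, mkGL_mulVec, elMap_apply]

theorem el_form {n u : Fin m → F} (hn : f n n = 0) (hu : f n u = 0) (v w : Fin m → F) :
    f (act (el f n u) v) (act (el f n u) w) = f v w := by
  have h2 := hf.two
  have e : f u n = 0 := by rw [hf.symm, hu]
  rw [el_apply hf hn hu, el_apply hf hn hu]
  simp only [map_add, map_sub, map_smul, LinearMap.add_apply, LinearMap.sub_apply,
    LinearMap.smul_apply, smul_eq_mul, hn, hu, e, hf.symm n v, hf.symm u v]
  field_simp
  ring

theorem el_mul {n u u' : Fin m → F} (hn : f n n = 0) (hu : f n u = 0) (hu' : f n u' = 0) :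
    el f n u * el f n u' = el f n (u + u') := by
  refine act_ext fun w => ?_
  rw [act_mul, el_apply hf hn (u := u + u') (by rw [map_add, hu, hu', add_zero]), el_apply hf hn hu,
    el_apply hf hn hu', ← elMap_apply, ← elMap_apply, ← elMap_apply, elMap_elMap hf hn hu hu']

/-- A Siegel element with anisotropic vector is a product of two reflections of equal values. -/
theorem el_eq_refl {n u : Fin m → F} (hn : f n n = 0) (hu : f n u = 0) (h : f u u ≠ 0) :
    el f n u = refl f u * refl f (u + (f u u / 2) • n) ∧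
      f (u + (f u u / 2) • n) (u + (f u u / 2) • n) = f u u := by
  have e : f u n = 0 := by rw [hf.symm, hu]
  have h2 := hf.two
  have hq : f (u + (f u u / 2) • n) (u + (f u u / 2) • n) = f u u := by
    simp [hn, hu, e]
  refine ⟨act_ext fun w => ?_, hq⟩
  rw [act_mul, el_apply hf hn hu, refl_apply, refl_apply, hq]
  simp only [map_add, map_sub, map_smul, LinearMap.add_apply, LinearMap.smul_apply, smul_eq_mul,
    e, mul_zero, add_zero]
  match_scalars <;> field_simp <;> ring

theorem el_conj {n u : Fin m → F} (hn : f n n = 0) (hu : f n u = 0) {g : GL (Fin m) F}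
    (hg : ∀ x y, f (act g x) (act g y) = f x y) :
    g * el f n u * g⁻¹ = el f (act g n) (act g u) := by
  refine act_ext fun w => ?_
  obtain ⟨w, rfl⟩ : ∃ x, act g x = w := ⟨_, act_act_inv g w⟩
  rw [act_mul, act_mul, act_inv_act, el_apply hf hn hu,
    el_apply hf (by rw [hg, hn]) (by rw [hg, hu]), hg, hg, hg]
  simp only [map_sub, map_add, map_smul]

theorem refl_fix {v x : Fin m → F} (h : f v x = 0) : act (refl f v) x = x := by
  rw [refl_apply, h]; simp

theorem refl_self {v : Fin m → F} (h : f v v ≠ 0) : act (refl f v) v = -v := by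
  rw [refl_apply]
  have : 2 * f v v / f v v = 2 := by field_simp
  rw [this]; module

/-- The values of a hyperbolic pair. -/
theorem hyp_value {n n' : Fin m → F} (h1 : f n n = 0) (h2 : f n' n' = 0) (h3 : f n n' = 1) (c : F) :
    f (n + (c / 2) • n') (n + (c / 2) • n') = c := by
  have := hf.two
  have e : f n' n = 1 := by rw [hf.symm, h3]
  simp [h1, h2, h3, e]
  field_simp
  ring

/-- The singular pair and an anisotropic vector orthogonal to a family. -/
theorem exists_hyp_perp [Finite F] {w : Fin k → (Fin m → F)} (hw : Fam f w) (hk : k + 3 ≤ m) :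
    ∃ n n' u, n ≠ 0 ∧ f n n = 0 ∧ f n' n' = 0 ∧ f n n' = 1 ∧ f u u ≠ 0 ∧ f n u = 0 ∧ f n' u = 0 ∧
      (∀ i, f (w i) n = 0) ∧ (∀ i, f (w i) n' = 0) ∧ ∀ i, f (w i) u = 0 := by
  obtain ⟨t, ht, hwt⟩ := hf.exists_three_fam hw hk
  obtain ⟨u₀, n, -, hn0, hnn, -, hperp⟩ := hf.exists_good_three ht
  have hwn : ∀ i, f (w i) n = 0 := fun i => (hperp (w i) (hwt i)).2
  obtain ⟨z, hzz, hnz⟩ := exists_partner hf.two hf.symm hf.nd hn0 hnn
  set z₁ := famProj f w z
  have h1 : f n z₁ = 1 := by
    rw [show z₁ = z - ∑ i, ((f (w i) (w i))⁻¹ * f (w i) z) • w i from hf.famProj_apply w z,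
      map_sub, map_sum, Finset.sum_eq_zero (fun i _ => by
        rw [map_smul, hf.symm (w i) n, hwn, smul_zero]), hnz, sub_zero]
  set n' := z₁ - (f z₁ z₁ / 2) • n with hn'
  have hzn : f z₁ n = 1 := by rw [hf.symm, h1]
  have h2' := hf.two
  have hn'n' : f n' n' = 0 := by
    simp only [hn', map_sub, map_smul, LinearMap.sub_apply, LinearMap.smul_apply, smul_eq_mul, hnn,
      h1, hzn]
    field_simp
    ring
  have hnn' : f n n' = 1 := by simp [hn', hnn, h1]
  have hn'n : f n' n = 1 := by rw [hf.symm, hnn']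
  have hwn' : ∀ i, f (w i) n' = 0 := fun i => by
    simp [hn', hwn, z₁, hf.famProj_perp hw]
  have hfam := (hw.cons (u := n + ((1 : F) / 2) • n') (by rw [hyp_value hf hnn hn'n' hnn']; exact one_ne_zero)
    (fun i => by simp [hwn, hwn']) (fun i => by rw [hf.symm]; simp [hwn, hwn'])).cons
    (u := n + ((-1 : F) / 2) • n') (by rw [hyp_value hf hnn hn'n' hnn']; simp)
    (fun i => Fin.cases (by simp [hnn, hn'n', hnn', hn'n]; field_simp; ring)
      (fun i => by simp [hwn, hwn']) i)
    (fun i => Fin.cases (by simp [hnn, hn'n', hnn', hn'n]; field_simp; ring)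
      (fun i => by rw [hf.symm]; simp [hwn, hwn']) i)
  obtain ⟨u, hu, eu⟩ := hf.exists_aniso_fam hfam (by omega)
  have e0 : f (n + ((-1 : F) / 2) • n') u = 0 := by simpa using eu 0
  have e1 : f (n + ((1 : F) / 2) • n') u = 0 := by simpa using eu 1
  simp only [map_add, map_smul, LinearMap.add_apply, LinearMap.smul_apply, smul_eq_mul] at e0 e1
  have hb : f n' u = 0 := by
    field_simp at e0 e1
    exact (mul_eq_zero.1 (show (2 : F) * f n' u = 0 by linear_combination e1 - e0)).resolve_left h2'
  refine ⟨n, n', u, hn0, hnn, hn'n', hnn', hu, ?_, hb, hwn, hwn', fun i => by simpa using eu i.succ.succ⟩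
  simpa [hb] using e1

/-- Two orthogonal anisotropic vectors span every non-zero value. -/
theorem exists_value [Finite F] {v w : Fin m → F} (hv : f v v ≠ 0) (hw : f w w ≠ 0)
    (hvw : f v w = 0) (c : F) :
    ∃ s t : F, f (s • v + t • w) (s • v + t • w) = c := by
  classical
  cases nonempty_fintype F
  have hodd : ringChar F ≠ 2 := by
    intro h2
    have := ringChar.of_eq h2
    exact hf.two (CharTwo.two_eq_zero)
  obtain ⟨s, t, hst⟩ := FiniteField.exists_root_sum_quadratic
    (f := Polynomial.C (f v v) * Polynomial.X ^ 2)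
    (g := Polynomial.C (f w w) * Polynomial.X ^ 2 + Polynomial.C (-c))
    (Polynomial.degree_C_mul_X_pow 2 hv)
    (by rw [Polynomial.degree_add_C (by rw [Polynomial.degree_C_mul_X_pow 2 hw]; decide),
      Polynomial.degree_C_mul_X_pow 2 hw]; rfl)
    (FiniteField.odd_card_of_char_ne_two hodd)
  simp only [Polynomial.eval_mul, Polynomial.eval_C, Polynomial.eval_pow, Polynomial.eval_X,
    Polynomial.eval_add] at hst
  refine ⟨s, t, ?_⟩
  simp only [map_add, map_smul, LinearMap.add_apply, LinearMap.smul_apply, smul_eq_mul, hvw,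
    hf.symm v w]
  linear_combination hst

end

/-- The involution negating a family. -/
noncomputable def flMap (f : (Fin m → F) →ₗ[F] (Fin m → F) →ₗ[F] F) (w : Fin k → (Fin m → F)) :
    (Fin m → F) →ₗ[F] (Fin m → F) :=
  famProj f w + famProj f w - LinearMap.id

open Classical in
/-- The involution negating a family. -/
noncomputable def fl (f : (Fin m → F) →ₗ[F] (Fin m → F) →ₗ[F] F) (w : Fin k → (Fin m → F)) :
    GL (Fin m) F :=
  if h : Sym f ∧ Fam f w then
    mkGL (flMap f w) (flMap f w)
      (fun x => by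
        have e : famProj f w (famProj f w x) = famProj f w x :=
          h.1.famProj_eq h.2 (h.1.famProj_perp h.2 x)
        simp only [flMap, LinearMap.sub_apply, LinearMap.add_apply, LinearMap.id_apply, map_sub,
          map_add, e]
        module)
      (fun x => by
        have e : famProj f w (famProj f w x) = famProj f w x :=
          h.1.famProj_eq h.2 (h.1.famProj_perp h.2 x)
        simp only [flMap, LinearMap.sub_apply, LinearMap.add_apply, LinearMap.id_apply, map_sub,
          map_add, e]
        module)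
  else 1

section

variable (hf : Sym f) {w : Fin k → (Fin m → F)} (hw : Fam f w)
include hf hw

theorem fl_perp {x : Fin m → F} (hx : ∀ i, f (w i) x = 0) : act (fl f w) x = x := by
  rw [fl, dif_pos ⟨hf, hw⟩, act_apply, mkGL_mulVec]
  simp [flMap, hf.famProj_eq hw hx]

theorem fl_mem (i : Fin k) : act (fl f w) (w i) = -w i := by
  rw [fl, dif_pos ⟨hf, hw⟩, act_apply, mkGL_mulVec]
  have e : famProj f w (w i) = 0 := by
    rw [hf.famProj_apply, Finset.sum_eq_single i (fun j _ hj => by rw [hw.orth j i hj, mul_zero,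
      zero_smul]) (by simp), inv_mul_cancel₀ (hw.aniso i), one_smul, sub_self]
  simp [flMap, e]

theorem fl_cons {u : Fin m → F} (hu : f u u ≠ 0) (h : ∀ i, f (w i) u = 0) :
    fl f (Fin.cons u w : Fin (k + 1) → (Fin m → F)) = refl f u * fl f w := by
  have hw' := hw.cons hu h (fun i => by rw [hf.symm, h])
  refine act_ext fun x => ?_
  rw [fl, dif_pos ⟨hf, hw'⟩, act_mul, fl, dif_pos ⟨hf, hw⟩, act_apply, mkGL_mulVec, act_apply
    (g := mkGL _ _ _ _), mkGL_mulVec, refl_apply]
  have e : f u (flMap f w x) = f u x := by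
    simp only [flMap, LinearMap.sub_apply, LinearMap.add_apply, LinearMap.id_apply, map_sub,
      map_add, hf.famProj_apply, map_sum, map_smul, hf.symm (w _) u, h, smul_zero,
      Finset.sum_const_zero, sub_zero]
    ring
  rw [e]
  simp only [flMap, LinearMap.sub_apply, LinearMap.add_apply, LinearMap.id_apply, hf.famProj_apply,
    Fin.sum_univ_succ, Fin.cons_zero, Fin.cons_succ]
  match_scalars <;> field_simp <;> ring

end

theorem fl_nil (hf : Sym f) : fl f (![] : Fin 0 → (Fin m → F)) = 1 :=
  act_ext fun x => by rw [fl_perp hf (fam_nil f) fun i => i.elim0, act_one]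

theorem fl_two (hf : Sym f) {u v : Fin m → F} (hu : f u u ≠ 0) (hv : f v v ≠ 0) (huv : f u v = 0) :
    fl f ![u, v] = refl f u * refl f v := by
  have h1 : fl f ![v] = refl f v := by
    rw [show (![v] : Fin 1 → (Fin m → F)) = Fin.cons v ![] from rfl,
      fl_cons hf (fam_nil f) hv (fun i => i.elim0), fl_nil hf, mul_one]
  rw [show (![u, v] : Fin 2 → (Fin m → F)) = Fin.cons u ![v] from rfl,
    fl_cons hf (fam_one hv) hu (fun i => by fin_cases i; simpa [hf.symm u v] using huv), h1]

/-- A similitude in odd dimension has square multiplier. -/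
theorem isSquare_of_odd (hf : Sym f) (hm : Odd m) {g : GL (Fin m) F} {μ : F}
    (hg : ∀ x y, f (act g x) (act g y) = μ * f x y) :
    IsSquare μ ∧ (μ = 1 → ∀ d : F, (∀ x, act g (act g x) = d • x) → d = 1) := by
  classical
  set M : Matrix (Fin m) (Fin m) F := Matrix.of fun i j => f (Pi.single i 1) (Pi.single j 1)
  have hfM : ∀ x y, f x y = x ⬝ᵥ (M *ᵥ y) := fun x y => by
    conv_lhs => rw [pi_eq_sum_univ' x, pi_eq_sum_univ' y]
    simp [M, dotProduct, Matrix.mulVec, map_sum, Finset.mul_sum]
    rw [Finset.sum_comm]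
    exact Finset.sum_congr rfl fun i _ => Finset.sum_congr rfl fun j _ => by ring
  have hM : M.det ≠ 0 := fun h0 => by
    obtain ⟨x, hx, hx'⟩ := Matrix.exists_mulVec_eq_zero_iff.2 h0
    exact hx (hf.nd x fun y => by rw [← hf.symm, hfM, hx', dotProduct_zero])
  set G := (g : Matrix (Fin m) (Fin m) F)
  have hG : Gᵀ * M * G = μ • M := by
    refine Matrix.ext fun i j => ?_
    have := hg (Pi.single i 1) (Pi.single j 1)
    rw [act_apply, act_apply, hfM, hfM, dotProduct_mulVec, ← mulVec_transpose] at this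
    rw [show (Gᵀ * M * G) i j = (Pi.single i (1 : F)) ⬝ᵥ ((Gᵀ * M * G) *ᵥ Pi.single j 1) by simp,
      ← Matrix.mulVec_mulVec, ← Matrix.mulVec_mulVec, dotProduct_mulVec _ Gᵀ, vecMul_transpose,
      dotProduct_mulVec, ← mulVec_transpose, this]
    simp
  have hdet : G.det * G.det = μ ^ m := by
    have := congrArg Matrix.det hG
    rw [Matrix.det_mul, Matrix.det_mul, Matrix.det_transpose, Matrix.det_smul, Fintype.card_fin] at this
    exact mul_right_cancel₀ hM (by linear_combination this)
  have hG0 : G.det ≠ 0 := g.isUnit.map Matrix.detMonoidHom |>.ne_zero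
  obtain ⟨i, rfl⟩ := hm
  have hμ0 : μ ≠ 0 := fun h => mul_ne_zero hG0 hG0 (by rw [hdet, h, zero_pow (by omega)])
  refine ⟨⟨G.det / μ ^ i, ?_⟩, fun hμ d hd => ?_⟩
  · rw [div_mul_div_comm, eq_div_iff (mul_ne_zero (pow_ne_zero _ hμ0) (pow_ne_zero _ hμ0)), hdet,
      ← pow_add, ← pow_succ']
    congr 1
    omega
  have hGG : G * G = d • 1 := Matrix.ext_iff_mulVec.2 fun x => by
    rw [← mulVec_mulVec, smul_mulVec, one_mulVec]
    exact hd x
  have h1 := congrArg Matrix.det hGG
  rw [Matrix.det_mul, hdet, hμ, one_pow, Matrix.det_smul, Matrix.det_one, mul_one,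
    Fintype.card_fin] at h1
  have hd2 : d * d = 1 := by
    by_cases hz : (Pi.single ⟨0, by omega⟩ 1 : Fin (2 * i + 1) → F) = 0
    · simpa using congrFun hz ⟨0, by omega⟩
    obtain ⟨y, hy, -⟩ := exists_both hf.nd hz hz
    have := hg (act g (Pi.single ⟨0, by omega⟩ 1)) (act g y)
    rw [hd, hd, hg, hμ, one_mul, map_smul, map_smul, LinearMap.smul_apply, smul_eq_mul,
      smul_eq_mul, one_mul] at this
    exact mul_right_cancel₀ hy (by linear_combination this)
  rw [pow_succ, pow_mul, sq, hd2, one_pow, one_mul] at h1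
  exact h1.symm

end Cfsg.Agent.TensorOO
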