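import Cfsg.Agent.TensorOO.Form
import Cfsg.Agent.TensorOO.Vec

/-!
Interfaces of the orthogonal-by-orthogonal tensor argument (helper19).

The chain: `LineK` (a singular line going to a line) gives `ConjK` (a conjugate of a Siegel element
in the tensor stabiliser), which gives `CentAll` (centralisers of the involutions of the second
factor), which gives `H ≤ Kronecker` by the dihedral lemma.
-/

set_option autoImplicit false
set_option linter.unusedSectionVars false

namespace Cfsg.Agent.TensorOO

open Matrix hiding col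
open Cfsg.Agent.MaxSub Cfsg.Agent.TensorMax Cfsg.Agent.TensorInv Module

variable {F : Type*} [Field F] {a b : ℕ}

/-- The standing hypotheses. -/
structure Std (S : OForm F a b) (H : Subgroup (GL (Fin a × Fin b) F)) : Prop where
  ov : Over S H
  noRoot : ¬ Root S H
  ha : 3 ≤ a
  hb : 5 ≤ b
  hab : a < b
  big : 4 ≤ a ∨ ∃ t : F, t ≠ 0 ∧ t ^ 2 ≠ 1
  par : Odd a ∨ Odd b

/-- An element sending a singular line to a line is in the tensor stabiliser. -/
def LineK (S : OForm F a b) (H : Subgroup (GL (Fin a × Fin b) F)) : Prop :=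
  ∀ h ∈ H, ∀ n m : Fin b → F, n ≠ 0 → S.f₂ n n = 0 →
    (∀ x, ∃ y, act h (emb n x) = emb m y) → h ∈ Cfsg.Geo.kroneckerSubgroup a b F

/-- An element conjugating a Siegel element into the tensor stabiliser is in it. -/
def ConjK (S : OForm F a b) (H : Subgroup (GL (Fin a × Fin b) F)) : Prop :=
  ∀ h ∈ H, ∀ n u : Fin b → F, n ≠ 0 → S.f₂ n n = 0 → S.f₂ n u = 0 → S.f₂ u u ≠ 0 →
    h * kr 1 (el S.f₂ n u) * h⁻¹ ∈ Cfsg.Geo.kroneckerSubgroup a b F →
      h ∈ Cfsg.Geo.kroneckerSubgroup a b F

/-- An isometric involution. -/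
structure Invo {m : ℕ} (f : (Fin m → F) →ₗ[F] (Fin m → F) →ₗ[F] F) (t : GL (Fin m) F) : Prop where
  isom : ∀ x y, f (act t x) (act t y) = f x y
  sq : t * t = 1

/-- The centraliser in `H` of `x` is in the tensor stabiliser. -/
def Cent (H : Subgroup (GL (Fin a × Fin b) F)) (x : GL (Fin a × Fin b) F) : Prop :=
  ∀ g ∈ H, g * x = x * g → g ∈ Cfsg.Geo.kroneckerSubgroup a b F

/-- All centralisers of non-scalar involutions of the second factor are in the tensor stabiliser. -/
def CentAll (S : OForm F a b) (H : Subgroup (GL (Fin a × Fin b) F)) : Prop :=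
  ∀ t : GL (Fin b) F, Invo S.f₂ t → t ≠ 1 → t ≠ -1 → Cent H (kr 1 t)

/-- A conjugate in the tensor stabiliser of an involution with small centraliser comes from it. -/
def GoodK (S : OForm F a b) (H : Subgroup (GL (Fin a × Fin b) F)) : Prop :=
  ∀ x ∈ Cfsg.Geo.kroneckerSubgroup a b F, x ∈ MaxSub.isom S.om → x * x = 1 → Cent H x →
    ∀ h ∈ H, h * x * h⁻¹ ∈ Cfsg.Geo.kroneckerSubgroup a b F →
      h ∈ Cfsg.Geo.kroneckerSubgroup a b F

namespace OForm

variable (S : OForm F a b)

/-- The product form as a bilinear map. -/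
def omL : LinearMap.BilinForm F (V F a b) :=
  LinearMap.mk₂ F S.om S.om_add_left S.om_smul_left S.om_add_right S.om_smul_right

/-- The quadratic form with polar the product form. -/
def quad : QuadraticForm F (V F a b) := ((2 : F)⁻¹ • S.omL).toQuadraticMap

theorem quad_apply (z : V F a b) : S.quad z = (2 : F)⁻¹ * S.om z z := rfl

theorem polar_quad (z z' : V F a b) : QuadraticMap.polar ⇑S.quad z z' = S.om z z' := by
  have h2 := S.two
  simp only [QuadraticMap.polar, quad_apply, S.om_add_left, S.om_add_right, S.om_symm z z']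
  field_simp
  ring

end OForm

end Cfsg.Agent.TensorOO
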