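import Cfsg.Agent.TensorOO.RootSpace
import Cfsg.Agent.TensorOO.Defs
import Cfsg.Agent.MaxSub.OrthVectorGL

/-!
A group over the pairs of reflections of the factors with a root element is all of `Ω` (helper35).

By `rootAt_wdg` the group contains the Eichler elements at `(n ⊗ e, n ⊗ x)` for all singular `n`,
`e`.  Conjugating them by one another gives every Eichler element at `n ⊗ e`, and two
non-orthogonal such centres give everything.
-/

set_option autoImplicit false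
set_option linter.unusedSectionVars false
set_option linter.unusedSimpArgs false
set_option linter.unusedVariables false

namespace Cfsg.Agent.TensorOO

open Matrix hiding col
open QuadraticMap
open Cfsg.Agent.MaxSub Cfsg.Agent.TensorMax Cfsg.Agent.TensorInv
open Cfsg.Agent.UnitaryOrthogonal (eich eich_apply eich_mul eich_zero eich_inv eichGroup orth
  conj_eich orth_ext isometryGroupEquiv PolarND)

variable {F : Type*} [Field F] {a b : ℕ} {S : OForm F a b}
  {M : Subgroup (GL (Fin a × Fin b) F)} {M' : Subgroup (orth S.quad)}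

theorem quad_emb (S : OForm F a b) (v : Fin b → F) (x : Fin a → F) :
    S.quad (emb v x) = (2 : F)⁻¹ * (S.f₁ x x * S.f₂ v v) := by
  rw [S.quad_apply, S.om_emb_emb]

theorem quad_emb_zero (S : OForm F a b) {v : Fin b → F} {x : Fin a → F}
    (h : S.f₁ x x = 0 ∨ S.f₂ v v = 0) : S.quad (emb v x) = 0 := by
  rw [quad_emb]
  rcases h with h | h <;> simp [h]

theorem polar_emb (S : OForm F a b) (v w : Fin b → F) (x y : Fin a → F) :
    polar S.quad (emb v x) (emb w y) = S.f₁ x y * S.f₂ v w := by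
  rw [S.polar_quad, S.om_emb_emb]

theorem polarND_quad (S : OForm F a b) : PolarND S.quad := fun u hu =>
  S.eq_of_om fun x => by
    rw [S.om_symm, ← S.polar_quad, hu, ← S.polar_quad, polar_zero_right]

/-- The vectors `z` with the Eichler element at `(u, z)` in `M'`. -/
def roots (M' : Subgroup (orth S.quad)) {u : V F a b} (hu : S.quad u = 0) :
    AddSubgroup (V F a b) where
  carrier := {z | polar S.quad u z = 0 ∧ eich S.quad u z ∈ M'}
  zero_mem' := ⟨polar_zero_right .., by rw [eich_zero]; exact one_mem _⟩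
  add_mem' := fun h h' => ⟨by rw [polar_add_right, h.1, h'.1, add_zero],
    by rw [← eich_mul hu h.1 h'.1]; exact mul_mem h.2 h'.2⟩
  neg_mem' := fun h => ⟨by rw [polar_neg_right, h.1, neg_zero],
    by rw [← eich_inv hu h.1]; exact inv_mem h.2⟩

/-- A root map is an Eichler element. -/
theorem eich_of_rootAt (hL : ∀ g ∈ M, ∃ g' ∈ M', ∀ z, g'.1 z = act g z) {n : Fin b → F}
    (hn : S.f₂ n n = 0) {e r : Fin a → F} (h : RootAt S M n (wdg S.f₁ e r)) :
    eich S.quad (emb n e) (emb n r) ∈ M' := by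
  obtain ⟨g, hg, hgx⟩ := h
  obtain ⟨g', hg', hgg⟩ := hL g hg
  rw [show eich S.quad (emb n e) (emb n r) = g' from orth_ext fun z => by
    rw [hgg, hgx, eich_apply (quad_emb_zero S (Or.inr hn)) (by rw [polar_emb, hn, mul_zero]),
      quad_emb, hn, S.polar_quad, S.polar_quad, S.om_emb, S.om_emb, wdg_apply]
    simp only [mul_zero, zero_mul, zero_smul, sub_zero, map_sub, map_smul]
    abel]
  exact hg'

section

variable (hH : ∀ n : Fin b → F, n ≠ 0 → S.f₂ n n = 0 → ∀ e : Fin a → F, e ≠ 0 → S.f₁ e e = 0 →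
  ∀ x, eich S.quad (emb n e) (emb n x) ∈ M')
include hH

/-- The Eichler elements at `(n ⊗ e, t ⊗ r)` with `r` orthogonal to `e`. -/
theorem mem_roots_perp (ha : 3 ≤ a) {n : Fin b → F} (hn0 : n ≠ 0) (hn : S.f₂ n n = 0)
    {e : Fin a → F} (he0 : e ≠ 0) (he : S.f₁ e e = 0) {r : Fin a → F} (hr : S.f₁ e r = 0)
    (t : Fin b → F) : emb t r ∈ roots M' (quad_emb_zero S (v := n) (Or.inl he)) := by
  have h2 := S.two
  set K := roots M' (quad_emb_zero S (v := n) (Or.inl he))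
  obtain ⟨e', he', hee'⟩ := exists_partner S.two S.h₁.symm S.h₁.nd he0 he
  obtain ⟨r₀, her₀, he'r₀, hr₀⟩ := S.h₁.exists_aniso_pair ha he he' hee'
  obtain ⟨n', hn', hnn'⟩ := exists_partner S.two S.h₂.symm S.h₂.nd hn0 hn
  have hK : ∀ x, emb n x ∈ K := fun x =>
    ⟨by rw [polar_emb, hn, mul_zero], hH n hn0 hn e he0 he x⟩
  have move : ∀ m, S.f₂ m m = 0 → S.f₂ n m = 1 → ∀ s y, S.f₁ e s = 0 →
      emb m (S.f₁ e y • s - S.f₁ s y • e) ∈ K := by
    intro m hm hnm s y hs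
    have hm0 : m ≠ 0 := fun h0 => by simp [h0] at hnm
    have hmn : S.f₂ m n = 1 := by rw [S.comm₂, hnm]
    have hg := hH m hm0 hm e he0 he s
    set g := eich S.quad (emb m e) (emb m s) with hgdef
    have hgz : ∀ z, g.1 z = z + emb m (S.f₁ e (S.pi m z) • s - S.f₁ s (S.pi m z) • e) := fun z => by
      rw [hgdef, eich_apply (quad_emb_zero S (Or.inr hm)) (by rw [polar_emb, hm, mul_zero]),
        quad_emb, hm, S.polar_quad, S.polar_quad, S.om_emb, S.om_emb]
      simp only [mul_zero, zero_mul, zero_smul, sub_zero, map_sub, map_smul]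
      abel
    have e1 : g.1 (emb n e) = emb n e := by
      rw [hgz, S.pi_emb, hmn, one_smul, he, S.comm₁ e s, hs]
      simp
    have h1 := mul_mem (mul_mem hg (hK y).2) (inv_mem hg)
    rw [conj_eich, e1, hgz, S.pi_emb, hmn, one_smul] at h1
    have h3 : emb n y + emb m (S.f₁ e y • s - S.f₁ s y • e) ∈ K := ⟨by
      rw [polar_add_right, polar_emb, hn, mul_zero, polar_emb]
      simp [he, hs], h1⟩
    simpa using K.sub_mem h3 (hK y)
  have hm : ∀ m, S.f₂ m m = 0 → S.f₂ n m = 1 → ∀ s, S.f₁ e s = 0 → emb m s ∈ K := by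
    intro m hm hnm s hs
    have h1 := move m hm hnm s e' hs
    have h3 := move m hm hnm ((-(S.f₁ s e' / S.f₁ r₀ r₀)) • r₀) r₀ (by simp [her₀])
    have e1 : emb m (S.f₁ e e' • s - S.f₁ s e' • e) +
        emb m (S.f₁ e r₀ • ((-(S.f₁ s e' / S.f₁ r₀ r₀)) • r₀) -
          S.f₁ ((-(S.f₁ s e' / S.f₁ r₀ r₀)) • r₀) r₀ • e) = (emb m s : V F a b) := by
      rw [← map_add]
      have e0 : S.f₁ ((-(S.f₁ s e' / S.f₁ r₀ r₀)) • r₀) r₀ = -S.f₁ s e' := by
        rw [map_smul, LinearMap.smul_apply, smul_eq_mul, neg_mul, div_mul_cancel₀ _ hr₀]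
      congr 1
      rw [e0, hee', her₀]
      module
    exact e1 ▸ K.add_mem h1 h3
  obtain ⟨α, hα⟩ : ∃ α, α = S.f₂ n t := ⟨_, rfl⟩
  obtain ⟨t₀, ht₀⟩ : ∃ t₀, t₀ = t - α • n' := ⟨_, rfl⟩
  obtain ⟨γ, hγ⟩ : ∃ γ, γ = S.f₂ t₀ n' + S.f₂ t₀ t₀ / 2 := ⟨_, rfl⟩
  have hnt₀ : S.f₂ n t₀ = 0 := by simp [ht₀, hα, hnn']
  set m := n' + t₀ - γ • n with hmdef
  have hn'n : S.f₂ n' n = 1 := by rw [S.comm₂, hnn']
  have ht₀n : S.f₂ t₀ n = 0 := by rw [S.comm₂, hnt₀]
  have hmm : S.f₂ m m = 0 := by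
    simp [hmdef, hn, hn', hnn', hn'n, hnt₀, ht₀n, S.comm₂ t₀ n', hγ]
    field_simp
    ring
  have hnm : S.f₂ n m = 1 := by simp [hmdef, hn, hnn', hnt₀]
  have e3 : (emb t r : V F a b) = emb n' (α • r) + (emb m r - emb n' r + emb n (γ • r)) := by
    rw [← emb_smul_comm, ← emb_smul_comm, ← emb_sub_left, ← emb_add_left, ← emb_add_left]
    congr 2
    simp only [hmdef, ht₀]
    abel
  rw [e3]
  exact K.add_mem (hm n' hn' hnn' _ (by simp [hr]))
    (K.add_mem (K.sub_mem (hm m hmm hnm r hr) (hm n' hn' hnn' r hr)) (hK _))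

/-- The Eichler elements at `(n ⊗ e, t ⊗ e')` with `t` singular. -/
theorem mem_roots_dual (ha : 3 ≤ a) {n : Fin b → F} (hn0 : n ≠ 0) (hn : S.f₂ n n = 0)
    {e e' : Fin a → F} (he : S.f₁ e e = 0) (he' : S.f₁ e' e' = 0) (hee' : S.f₁ e e' = 1)
    {t v : Fin b → F} (ht : S.f₂ t t = 0) (hnt : S.f₂ n t = 0) (hnv : S.f₂ n v = 0)
    (htv : S.f₂ t v = 0) (hv : S.f₂ v v ≠ 0) :
    emb t e' ∈ roots M' (quad_emb_zero S (v := n) (Or.inl he)) := by
  set K := roots M' (quad_emb_zero S (v := n) (Or.inl he))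
  have he0 : e ≠ 0 := fun h0 => by simp [h0] at hee'
  have he'0 : e' ≠ 0 := fun h0 => by simp [h0] at hee'
  obtain ⟨r, her, he'r, hr⟩ := S.h₁.exists_aniso_pair ha he he' hee'
  by_cases ht0 : t = 0
  · rw [ht0, emb_zero_left]
    exact K.zero_mem
  obtain ⟨c, hc⟩ : ∃ c, c = S.f₁ r r * S.f₂ v v := ⟨_, rfl⟩
  have hc0 : c ≠ 0 := hc ▸ mul_ne_zero hr hv
  obtain ⟨s, hs⟩ : ∃ s, s = c⁻¹ • t := ⟨_, rfl⟩
  have hs0 : s ≠ 0 := hs ▸ smul_ne_zero (inv_ne_zero hc0) ht0
  have hss : S.f₂ s s = 0 := by simp [hs, ht]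
  have hsn : S.f₂ s n = 0 := by simp [hs, S.comm₂ n t, hnt]
  have hsv : S.f₂ s v = 0 := by simp [hs, htv]
  have hg := (mem_roots_perp hH ha hs0 hss he'0 he' he'r v).2
  set g := eich S.quad (emb s e') (emb v r) with hgdef
  have hQ : S.quad (emb s e') = 0 := quad_emb_zero S (Or.inr hss)
  have hpol : polar S.quad (emb s e') (emb v r) = 0 := by rw [polar_emb, he'r, zero_mul]
  have e1 : g.1 (emb n e) = emb n e := by
    rw [hgdef, eich_apply hQ hpol, polar_emb, polar_emb, hsn, S.comm₂ n v, hnv]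
    simp
  have e2 : g.1 (emb v r) = emb v r - c • emb s e' := by
    rw [hgdef, eich_apply hQ hpol, polar_emb, polar_emb, hsv, hc]
    simp
  have h1 := mul_mem (mul_mem hg (mem_roots_perp hH ha hn0 hn he0 he her v).2) (inv_mem hg)
  rw [conj_eich, e1, e2, ← emb_smul_left, hs, smul_smul, mul_inv_cancel₀ hc0, one_smul] at h1
  have h3 : emb v r - emb t e' ∈ K := ⟨by
    rw [polar_sub_right, polar_emb, polar_emb, her, hnt, zero_mul, mul_zero, sub_zero], h1⟩
  simpa using K.sub_mem (mem_roots_perp hH ha hn0 hn he0 he her v) h3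

/-- All Eichler elements at `n ⊗ e`. -/
theorem full_emb [Finite F] (ha : 3 ≤ a) (hb : 5 ≤ b) {n : Fin b → F} (hn0 : n ≠ 0)
    (hn : S.f₂ n n = 0) {e : Fin a → F} (he0 : e ≠ 0) (he : S.f₁ e e = 0) :
    OrthStab.Full M' (emb n e) := by
  intro z hz
  have h2 := S.two
  have hf := S.h₂
  set K := roots M' (quad_emb_zero S (v := n) (Or.inl he))
  obtain ⟨e', he', hee'⟩ := exists_partner S.two S.h₁.symm S.h₁.nd he0 he
  obtain ⟨n', hn', hnn'⟩ := exists_partner S.two hf.symm hf.nd hn0 hn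
  have hn'n : S.f₂ n' n = 1 := by rw [S.comm₂, hnn']
  obtain ⟨p, p', u₀, hp0, hpp, hp'p', hpp', hu₀, hpu₀, hp'u₀, hwp, hwp', hwu₀⟩ :=
    exists_hyp_perp hf (fam_hyp hf hn hn' hnn') (by omega)
  obtain ⟨hnp, hn'p⟩ := perp_hyp hf hwp
  obtain ⟨hnp', hn'p'⟩ := perp_hyp hf hwp'
  obtain ⟨hnu₀, -⟩ := perp_hyp hf hwu₀
  have hp'p : S.f₂ p' p = 1 := by rw [S.comm₂, hpp']
  have key : ∀ t, S.f₂ n t = 0 → emb t e' ∈ K := by
    intro t hnt
    have dual : ∀ {s v}, S.f₂ s s = 0 → S.f₂ n s = 0 → S.f₂ n v = 0 → S.f₂ s v = 0 →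
        S.f₂ v v ≠ 0 → emb s e' ∈ K := fun hs h1 h3 h4 h5 =>
      mem_roots_dual hH ha hn0 hn he he' hee' hs h1 h3 h4 h5
    obtain ⟨α, hα⟩ : ∃ α, α = S.f₂ n' t := ⟨_, rfl⟩
    obtain ⟨β, hβ⟩ : ∃ β, β = S.f₂ p' t := ⟨_, rfl⟩
    obtain ⟨δ, hδ⟩ : ∃ δ, δ = S.f₂ p t := ⟨_, rfl⟩
    obtain ⟨u, hu⟩ : ∃ u, u = t - α • n - β • p - δ • p' := ⟨_, rfl⟩
    have hpn : S.f₂ p n = 0 := by rw [S.comm₂, hnp]
    have hp'n : S.f₂ p' n = 0 := by rw [S.comm₂, hnp']
    have hnu : S.f₂ n u = 0 := by simp [hu, hnt, hn, hnp, hnp']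
    have hpu : S.f₂ p u = 0 := by simp [hu, hpn, hpp, hpp', hδ]
    have hp'u : S.f₂ p' u = 0 := by simp [hu, hp'n, hp'p, hp'p', hβ]
    have hup : S.f₂ u p = 0 := by rw [S.comm₂, hpu]
    have hup' : S.f₂ u p' = 0 := by rw [S.comm₂, hp'u]
    have hP : ∀ c : F, emb (c • p) e' ∈ K := fun c => dual (v := u₀) (by simp [hpp]) (by simp [hnp])
      hnu₀ (by simp [hpu₀]) hu₀
    have hP' : ∀ c : F, emb (c • p') e' ∈ K := fun c => dual (v := u₀) (by simp [hp'p'])
      (by simp [hnp']) hnu₀ (by simp [hp'u₀]) hu₀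
    have hU : emb u e' ∈ K := by
      by_cases huu : S.f₂ u u = 0
      · refine dual (v := p + ((1 : F) / 2) • p') huu hnu (by simp [hnp, hnp'])
          (by simp [hup, hup']) ?_
        rw [hyp_value hf hpp hp'p' hpp']
        exact one_ne_zero
      · have h1 : emb (u + p - (S.f₂ u u / 2) • p') e' ∈ K :=
          dual (v := u - S.f₂ u u • p')
            (by
              simp [hpp, hp'p', hpp', hp'p, hup, hup', hpu, hp'u]
              field_simp
              ring)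
            (by simp [hnu, hnp, hnp']) (by simp [hnu, hnp'])
            (by simp [hp'p', hpp', hup', hpu, hp'u])
            (by simp [hp'p', hup', hp'u, huu])
        have e1 : (emb u e' : V F a b) =
            emb (u + p - (S.f₂ u u / 2) • p') e' - emb ((1 : F) • p) e' +
              emb ((S.f₂ u u / 2) • p') e' := by
          rw [← emb_sub_left, ← emb_add_left, one_smul]
          congr 2
          abel
        rw [e1]
        exact K.add_mem (K.sub_mem h1 (hP _)) (hP' _)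
    have e1 : (emb t e' : V F a b) = emb n (α • e') + emb (β • p) e' + emb (δ • p') e' + emb u e' := by
      rw [← emb_smul_comm, ← emb_add_left, ← emb_add_left, ← emb_add_left]
      congr 2
      rw [hu]
      abel
    rw [e1]
    exact K.add_mem (K.add_mem (K.add_mem
      ⟨by rw [polar_emb, hn, mul_zero], hH n hn0 hn e he0 he _⟩ (hP _)) (hP' _)) hU
  obtain ⟨z₁, hz₁def⟩ : ∃ z₁, z₁ = ∑ j, emb (Pi.single j 1) (col j z - S.f₁ e (col j z) • e') :=
    ⟨_, rfl⟩
  obtain ⟨t, htdef⟩ : ∃ t, t = ∑ j, S.f₁ e (col j z) • (Pi.single j 1 : Fin b → F) := ⟨_, rfl⟩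
  have hz₁ : z₁ ∈ K := hz₁def ▸ K.sum_mem fun j _ =>
    mem_roots_perp hH ha hn0 hn he0 he (by simp [hee']) _
  have hdec : z = z₁ + emb t e' := by
    have e1 : (emb t e' : V F a b) = ∑ j, emb (Pi.single j 1) (S.f₁ e (col j z) • e') := by
      show embR e' t = _
      rw [htdef, map_sum]
      exact Finset.sum_congr rfl fun j _ => by rw [map_smul, map_smul]; rfl
    rw [hz₁def, e1, ← Finset.sum_add_distrib]
    conv_lhs => rw [eq_sum_emb z]
    exact Finset.sum_congr rfl fun j _ => by rw [← map_add, sub_add_cancel]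
  have hnt : S.f₂ n t = 0 := by
    have h1 := hz₁.1
    rwa [hdec, polar_add_right, h1, zero_add, polar_emb, hee', one_mul] at hz
  have := (K.add_mem hz₁ (key t hnt)).2
  rwa [← hdec] at this

end

/-- A group over the pairs of reflections with a root element contains `Ω`. -/
theorem omega_le_of_root [Finite F] {M : Subgroup (GL (Fin a × Fin b) F)} (O : Over S M)
    (hM : M ≤ Cfsg.Geo.omegaGL S.quad) (ha : 3 ≤ a) (hb : 5 ≤ b)
    (hbig : 4 ≤ a ∨ ∃ t : F, t ≠ 0 ∧ t ^ 2 ≠ 1)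
    (h4 : a = 4 → ∀ x y, S.f₁ x x = 0 → S.f₁ y y = 0 → S.f₁ x y = 0 →
      ∃ c : F, y = c • x ∨ x = c • y)
    (hR : Root S M) : Cfsg.Geo.omegaGL S.quad ≤ M := by
  classical
  have hnd := polarND_quad S
  have h5 : 5 ≤ Module.finrank F (Fin a × Fin b → F) := by
    rw [Module.finrank_fintype_fun_eq_card, Fintype.card_prod, Fintype.card_fin, Fintype.card_fin]
    exact le_trans (by norm_num : 5 ≤ 3 * 5) (Nat.mul_le_mul ha hb)
  let M' : Subgroup (orth S.quad) :=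
    (M.comap (Cfsg.isometryGroup F ⇑S.quad).subtype).map
      (isometryGroupEquiv S.quad (f := ⇑S.quad) (fun _ => rfl)).toMonoidHom
  have hL : ∀ g ∈ M, ∃ g' ∈ M', ∀ z, g'.1 z = act g z := by
    intro g hg
    obtain ⟨g₁, -, rfl⟩ := hM hg
    exact ⟨OrthStab.toOrth g₁, ⟨g₁, hg, rfl⟩, fun z => rfl⟩
  have hH : ∀ n : Fin b → F, n ≠ 0 → S.f₂ n n = 0 → ∀ e : Fin a → F, e ≠ 0 → S.f₁ e e = 0 →
      ∀ x, eich S.quad (emb n e) (emb n x) ∈ M' := by
    intro n hn0 hn e he0 he x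
    obtain ⟨e', he', hee'⟩ := exists_partner S.two S.h₁.symm S.h₁.nd he0 he
    exact eich_of_rootAt hL hn (rootAt_wdg O he he' hee' ha hb hR h4 hn0 hn x)
  obtain ⟨n, hn0, hn⟩ := S.h₂.exists_singular (by omega)
  obtain ⟨n', hn', hnn'⟩ := exists_partner S.two S.h₂.symm S.h₂.nd hn0 hn
  obtain ⟨e, he0, he⟩ := S.h₁.exists_singular ha
  obtain ⟨e', he', hee'⟩ := exists_partner S.two S.h₁.symm S.h₁.nd he0 he
  have hgen := OrthStab.eichGroup_le_of_hypPair hnd h5 (quad_emb_zero S (v := n) (Or.inl he))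
    (quad_emb_zero S (v := n') (Or.inl he'))
    (by rw [polar_emb, hee', hnn', mul_one]; exact one_ne_zero)
    (full_emb hH ha hb hn0 hn he0 he)
    (full_emb hH ha hb (fun h => by simp [h] at hnn') hn' (fun h => by simp [h] at hee') he')
  rintro _ ⟨g₁, hg₁, rfl⟩
  obtain ⟨g₂, hg₂, hgg⟩ := hgen ((OrthStab.mem_omega_iff hnd h5 g₁).mp hg₁)
  exact ((isometryGroupEquiv S.quad (f := ⇑S.quad) (fun _ => rfl)).injective hgg) ▸ hg₂

end Cfsg.Agent.TensorOO
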