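import Cfsg.Agent.TensorOO.Maximal
import Cfsg.Agent.Lib.UnitaryOrthogonal.Standard

/-!
The orthogonal-by-orthogonal statements in odd dimension and in minus type, from the two engines
(helper17, for helper19).
-/

set_option autoImplicit false

namespace Cfsg.Agent.TensorOO

open Cfsg.Agent.TensorMax Cfsg.Agent.TensorInv

variable {F : Type*} [Field F] [Fintype F]

/-- Groups without root elements stay in the tensor stabiliser. -/
def KronStep (F : Type*) [Field F] : Prop :=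
  ∀ {a b : ℕ} (S : OForm F a b) (H : Subgroup (Matrix.GeneralLinearGroup (Fin a × Fin b) F)),
    Std S H → H ≤ Cfsg.Geo.kroneckerSubgroup a b F

/-- Root elements generate `Ω`. -/
def RootStep (F : Type*) [Field F] : Prop :=
  ∀ {a b : ℕ} (S : OForm F a b) (M : Subgroup (Matrix.GeneralLinearGroup (Fin a × Fin b) F)),
    Over S M → M ≤ Cfsg.Geo.omegaGL ⇑S.quad → 3 ≤ a → 5 ≤ b →
    (4 ≤ a ∨ ∃ t : F, t ≠ 0 ∧ t ^ 2 ≠ 1) →
    (a = 4 → ∀ x y, S.f₁ x x = 0 → S.f₁ y y = 0 → S.f₁ x y = 0 → ∃ c : F, y = c • x ∨ x = c • y) →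
    Root S M → Cfsg.Geo.omegaGL ⇑S.quad ≤ M

theorem two_ne_zero_of_odd (hodd : Odd (Fintype.card F)) : (2 : F) ≠ 0 :=
  Ring.two_ne_zero fun h => Nat.not_even_iff_odd.2 hodd
    (Nat.even_iff.2 (FiniteField.even_card_of_char_two h))

theorem big_of_hex (hodd : Odd (Fintype.card F)) {n : ℕ} (hn : 3 ≤ n)
    (hex : ¬ (Fintype.card F = 3 ∧ n = 3)) : 4 ≤ n ∨ ∃ t : F, t ≠ 0 ∧ t ^ 2 ≠ 1 := by
  classical
  by_contra hn'
  push Not at hn'
  have hsub : Finset.univ ⊆ ({0, 1, -1} : Finset F) := fun t _ => by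
    rcases eq_or_ne t 0 with rfl | ht
    · simp
    · rcases sq_eq_one_iff.1 (hn'.2 t ht) with rfl | rfl <;> simp
  have h3 := (Finset.card_le_card hsub).trans Finset.card_le_three
  rw [Finset.card_univ] at h3
  have h1 := Fintype.one_lt_card (α := F)
  obtain ⟨j, hj⟩ := hodd
  exact hex ⟨by omega, by omega⟩

variable {ι : Type} [Fintype ι] [DecidableEq ι] {a b : ℕ}

theorem kronecker_flip : (Cfsg.Geo.kroneckerSubgroup a b F).map (flipGL F a b).toMonoidHom =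
    Cfsg.Geo.kroneckerSubgroup b a F := by
  ext g
  constructor
  · rintro ⟨h, hh, rfl⟩
    exact flipGL_mem_kronecker.2 hh
  · intro hg
    exact ⟨flipGL F b a g, flipGL_mem_kronecker.2 hg, flipGL_flipGL g⟩

theorem tensorProductSubgroup_swap (e : ι ≃ Fin a × Fin b) (P : Matrix.GeneralLinearGroup ι F) :
    Cfsg.Geo.tensorProductSubgroup b a (e.trans (Equiv.prodComm _ _)) P =
      Cfsg.Geo.tensorProductSubgroup a b e P := by
  rw [Cfsg.Geo.tensorProductSubgroup, Cfsg.Geo.tensorProductSubgroup, ← kronecker_flip,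
    Subgroup.map_map (Cfsg.Geo.kroneckerSubgroup a b F) _ (flipGL F a b).toMonoidHom]
  congr 2

theorem tensorFormStructure_swap {f : (ι → F) → (ι → F) → F} {f₁ : (Fin a → F) → (Fin a → F) → F}
    {f₂ : (Fin b → F) → (Fin b → F) → F} {e : ι ≃ Fin a × Fin b}
    {P : Matrix.GeneralLinearGroup ι F} (hT : Cfsg.Geo.IsTensorFormStructure id f f₁ f₂ e P) :
    Cfsg.Geo.IsTensorFormStructure id f f₂ f₁ (e.trans (Equiv.prodComm _ _)) P := by
  obtain ⟨c, hc, h⟩ := hT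
  refine ⟨c, hc, fun x y => ?_⟩
  rw [show x ∘ ⇑(e.trans (Equiv.prodComm _ _)) = (x ∘ Prod.swap) ∘ ⇑e from rfl,
    show y ∘ ⇑(e.trans (Equiv.prodComm _ _)) = (y ∘ Prod.swap) ∘ ⇑e from rfl, h]
  congr 1
  refine Fintype.sum_equiv (Equiv.prodComm _ _) _ _ fun p => ?_
  refine Fintype.sum_equiv (Equiv.prodComm _ _) _ _ fun q => ?_
  simp [Matrix.kroneckerMap_apply, mul_comm, mul_left_comm, mul_assoc]

/-- Odd dimension. -/
theorem odd_statement (hK : KronStep F) (hR : RootStep F) (hodd : Odd (Fintype.card F)) (m : ℕ)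
    (hm : 6 ≤ m) (n₁ n₂ : ℕ) (h1 : 3 ≤ n₁) (h12 : n₁ < n₂)
    (hex : ¬ (Fintype.card F = 3 ∧ n₁ = 3)) (e : (Unit ⊕ (Fin m ⊕ Fin m)) ≃ Fin n₁ × Fin n₂)
    (P : Matrix.GeneralLinearGroup (Unit ⊕ (Fin m ⊕ Fin m)) F)
    (f₁ : (Fin n₁ → F) → (Fin n₁ → F) → F) (f₂ : (Fin n₂ → F) → (Fin n₂ → F) → F)
    (hf₁ : Cfsg.Geo.IsSymmetricForm f₁) (hf₂ : Cfsg.Geo.IsSymmetricForm f₂)
    (hT : Cfsg.Geo.IsTensorFormStructure id (QuadraticMap.polar (Cfsg.quadFormOdd m F)) f₁ f₂ e P) :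
    Cfsg.Geo.IsMaximalIn (Cfsg.Geo.omegaGL (Cfsg.quadFormOdd m F))
      (Cfsg.Geo.tensorProductSubgroup n₁ n₂ e P ⊓ Cfsg.Geo.omegaGL (Cfsg.quadFormOdd m F)) := by
  have hcoe : Cfsg.quadFormOdd m F = ⇑(UnitaryOrthogonal.qOdd m F) :=
    funext fun v => (UnitaryOrthogonal.qOdd_apply m v).symm
  rw [hcoe] at hT ⊢
  have hodd' : Odd (n₁ * n₂) := ⟨m, by
    have := Fintype.card_congr e
    simp at this
    omega⟩
  obtain ⟨ho₁, ho₂⟩ := Nat.odd_mul.1 hodd'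
  refine transfer (two_ne_zero_of_odd hodd) _ e P f₁ f₂ hf₁ hf₂ hT fun S _ => ?_
  have hb : 5 ≤ n₂ := by
    obtain ⟨i, hi⟩ := ho₂
    obtain ⟨j, hj⟩ := ho₁
    omega
  have h4 : n₁ = 4 → ∀ x y, S.f₁ x x = 0 → S.f₁ y y = 0 → S.f₁ x y = 0 →
      ∃ c : F, y = c • x ∨ x = c • y := fun h => absurd ho₁ (by rw [h]; decide)
  exact isMaximal S h1 hb h12 (big_of_hex hodd h1 hex) (Or.inl ho₁) (fun H hH => hK S H hH)
    fun M O hM hRo => hR S M O hM h1 hb (big_of_hex hodd h1 hex) h4 hRo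

/-- Minus type. -/
theorem minus_statement (hK : KronStep F) (hR : RootStep F) {n : ℕ} (hn : 13 ≤ n)
    (Q : (Fin n → F) → F) (hQ : Cfsg.Geo.IsNondegenerateQuadraticForm Q)
    (hodd : Odd (Fintype.card F)) (n₁ n₂ : ℕ) (h1 : 3 ≤ n₁) (h1o : Odd n₁) (h2 : 4 ≤ n₂)
    (h2e : Even n₂) (hex : ¬ (Fintype.card F = 3 ∧ n₁ = 3)) (e : (Fin n) ≃ Fin n₁ × Fin n₂)
    (P : Matrix.GeneralLinearGroup (Fin n) F) (f₁ : (Fin n₁ → F) → (Fin n₁ → F) → F)
    (f₂ : (Fin n₂ → F) → (Fin n₂ → F) → F) (hf₁ : Cfsg.Geo.IsSymmetricForm f₁)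
    (hf₂ : Cfsg.Geo.IsSymmetricForm f₂)
    (hf₂m : ¬ Cfsg.Geo.IsPlusTypeOn (fun v : Fin n₂ → F => f₂ v v) ⊤)
    (hT : Cfsg.Geo.IsTensorFormStructure id (QuadraticMap.polar Q) f₁ f₂ e P) :
    Cfsg.Geo.IsMaximalIn (Cfsg.Geo.omegaGL Q)
      (Cfsg.Geo.tensorProductSubgroup n₁ n₂ e P ⊓ Cfsg.Geo.omegaGL Q) := by
  obtain ⟨Qf, rfl, -⟩ := OrthStab.exists_form hQ
  have h20 := two_ne_zero_of_odd hodd
  have hn' : n = n₁ * n₂ := by simpa using Fintype.card_congr e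
  obtain ⟨i, hi⟩ := h1o
  obtain ⟨j, hj⟩ := h2e
  rcases Nat.lt_or_ge n₁ n₂ with h12 | h12
  · refine transfer h20 Qf e P f₁ f₂ hf₁ hf₂ hT fun S _ => ?_
    have hb : 5 ≤ n₂ := by
      by_contra hb
      have : n₁ * n₂ ≤ 3 * 4 := Nat.mul_le_mul (by omega) (by omega)
      omega
    exact isMaximal S h1 hb h12 (big_of_hex hodd h1 hex) (Or.inl ⟨i, hi⟩) (fun H hH => hK S H hH)
      fun M O hM hRo => hR S M O hM h1 hb (big_of_hex hodd h1 hex) (fun h => by omega) hRo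
  rw [← tensorProductSubgroup_swap e P]
  refine transfer h20 Qf _ P f₂ f₁ hf₂ hf₁ (tensorFormStructure_swap hT) fun S hS => ?_
  obtain ⟨c, hc, hS⟩ := hS
  have h4 : n₂ = 4 → ∀ x y, S.f₁ x x = 0 → S.f₁ y y = 0 → S.f₁ x y = 0 →
      ∃ d : F, y = d • x ∨ x = d • y := by
    intro h x y hx hy hxy
    by_contra hcon
    push Not at hcon
    have hli : LinearIndependent F ![x, y] := (LinearIndependent.pair_iff' fun h0 =>
      (hcon 0).2 (by rw [h0, zero_smul])).2 fun d hd => (hcon d).1 hd.symm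
    refine hf₂m ⟨Submodule.span F (Set.range ![x, y]), le_top, fun w hw => ?_, ?_⟩
    · obtain ⟨d, rfl⟩ := (Submodule.mem_span_range_iff_exists_fun F).1 hw
      have h0 : c * f₂ (∑ k, d k • ![x, y] k) (∑ k, d k • ![x, y] k) = 0 := by
        rw [← hS]
        simp [Fin.sum_univ_two, hx, hy, hxy, S.comm₁ x y]
      exact (mul_eq_zero.1 h0).resolve_left hc
    · rw [finrank_span_eq_card hli, finrank_top, Module.finrank_fin_fun, Fintype.card_fin, h]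
  exact isMaximal S (by omega) (by omega) (by omega) (Or.inl h2) (Or.inr ⟨i, hi⟩)
    (fun H hH => hK S H hH)
    fun M O hM hRo => hR S M O hM (by omega) (by omega) (Or.inl h2) h4 hRo

end Cfsg.Agent.TensorOO
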