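import Cfsg.Agent.TensorOO.Six
import Cfsg.Agent.TensorOO.Conj
import Cfsg.Agent.TensorOO.Finish
import Cfsg.Agent.TensorOO.Glue

/-!
The two steps of the orthogonal-by-orthogonal tensor argument (helper19).
-/

set_option autoImplicit false

namespace Cfsg.Agent.TensorOO

variable {F : Type*} [Field F] [Finite F]

/-- Groups without root elements are in the tensor stabiliser. -/
theorem kronStep : KronStep F := by
  intro a b S H hS
  have hJ := conjK hS (lineK hS)
  have hG := goodK hS hJ
  by_cases h6 : b = 6
  · exact le_kron_six hS hJ hG (centAll hS hJ hG) h6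
  · exact le_kron_of_ne_six hS hJ hG h6

/-- Root elements generate. -/
theorem rootStep : RootStep F :=
  fun _ _ O hM ha hb hbig h4 hR => omega_le_of_root O hM ha hb hbig h4 hR

end Cfsg.Agent.TensorOO
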