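import Mathlib.GroupTheory.OrderOfElement
import Mathlib.Algebra.Group.Subgroup.Basic
import Mathlib.Tactic.Group

/-!
A subgroup controlling two involutions with no common conjugate is everything: the dihedral
argument (helper19).
-/

set_option autoImplicit false

namespace Cfsg.Agent.TensorOO

variable {Γ : Type*} [Group Γ] [Finite Γ]

/-- If `K` controls the conjugates of two involutions `j`, `j''` of `G`, which are not conjugate
modulo the central subgroup `Z` of exponent two, and contains the centralisers of the relevant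
products, then `G ≤ K`. -/
theorem le_of_dihedral {G K Z : Subgroup Γ} {j j'' : Γ}
    (hZc : ∀ z ∈ Z, ∀ g ∈ G, g * z = z * g) (hZ2 : ∀ z ∈ Z, z * z = 1)
    (hjG : j ∈ G) (hjK : j ∈ K) (hj : j * j = 1)
    (hjG'' : j'' ∈ G) (hjK'' : j'' ∈ K) (hj'' : j'' * j'' = 1)
    (tj : ∀ g ∈ G, g * j * g⁻¹ ∈ K → g ∈ K) (tj'' : ∀ g ∈ G, g * j'' * g⁻¹ ∈ K → g ∈ K)
    (n1 : ∀ g ∈ G, g ∈ K → ∀ ζ ∈ Z, g * j * g⁻¹ ≠ ζ * j'')
    (n2 : ∀ g ∈ G, g ∈ K → ∀ ζ ∈ Z, g * j * g⁻¹ = ζ * j → ζ = 1)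
    (p : ∀ c ∈ G, c ∈ K → ∀ x, (x = j ∨ x = j'') → c * j * c⁻¹ * x = x * (c * j * c⁻¹) →
      c * j * c⁻¹ * x ∉ Z → ∀ g ∈ G, g * (c * j * c⁻¹ * x) = c * j * c⁻¹ * x * g → g ∈ K) :
    G ≤ K := by
  intro h hh
  have hji : j⁻¹ = j := inv_eq_of_mul_eq_one_right hj
  have hj''i : j''⁻¹ = j'' := inv_eq_of_mul_eq_one_right hj''
  set j' := h * j'' * h⁻¹ with hj'def
  have hj'G : j' ∈ G := mul_mem (mul_mem hh hjG'') (inv_mem hh)
  have hj'i : j'⁻¹ = j' := by rw [hj'def]; simp [mul_assoc, hj''i]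
  have hj' : j' * j' = 1 := by nth_rw 1 [← hj'i]; exact inv_mul_cancel _
  set r := j * j' with hr
  have hrG : r ∈ G := mul_mem hjG hj'G
  have hflip : ∀ k : ℕ, j * (r ^ k)⁻¹ = r ^ k * j := by
    intro k
    have : j * r⁻¹ * j⁻¹ = r := by rw [hr, mul_inv_rev, hji, hj'i]; simp [mul_assoc, hj]
    conv_rhs => rw [← this]
    rw [conj_pow, inv_pow, hji]
    simp [mul_assoc, hj]
  have hflip' : ∀ k : ℕ, r ^ k * j * (r ^ k)⁻¹ = r ^ (k + k) * j := fun k => by
    rw [mul_assoc, hflip, ← mul_assoc, pow_add]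
  have hex : ∃ m, 0 < m ∧ r ^ m ∈ Z :=
    ⟨orderOf r, orderOf_pos r, by rw [pow_orderOf_eq_one]; exact one_mem Z⟩
  classical
  obtain ⟨hm0, hmZ⟩ := Nat.find_spec hex
  have hmin : ∀ k, 0 < k → k < Nat.find hex → r ^ k ∉ Z := fun k hk hlt hZ =>
    Nat.find_min hex hlt ⟨hk, hZ⟩
  generalize Nat.find hex = m at hm0 hmZ hmin
  have hz0K : r ^ m ∈ K := by
    refine tj _ (pow_mem hrG m) ?_
    rwa [← hZc _ hmZ j hjG, mul_inv_cancel_right]
  rcases Nat.even_or_odd' m with ⟨i, rfl | rfl⟩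
  · -- even order
    set z := r ^ i with hz
    have hzG : z ∈ G := pow_mem hrG i
    have hzZ : z ∉ Z := hmin i (by omega) (by omega)
    have hzj : z * j * z⁻¹ = r ^ (2 * i) * j := by rw [hflip', two_mul]
    have hz1 : r ^ (2 * i) = 1 :=
      n2 z hzG (tj z hzG (by rw [hzj]; exact mul_mem hz0K hjK)) _ hmZ hzj
    rw [hz1, one_mul] at hzj
    have hzK : z ∈ K := tj z hzG (by rw [hzj]; exact hjK)
    have hzj' : z * j = j * z := by
      conv_rhs => rw [← hzj]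
      rw [inv_mul_cancel_right]
    have hzr : z * j' = j' * z := by
      have e : j' = j * r := by rw [hr, ← mul_assoc, hj, one_mul]
      rw [e, ← mul_assoc, hzj', mul_assoc, mul_assoc]
      congr 1
      exact (Commute.pow_self r i).eq
    rcases Nat.even_or_odd' i with ⟨l, hl | hl⟩
    · have hw : r ^ l * j * (r ^ l)⁻¹ = z * j := by rw [hflip', hz, hl, two_mul]
      have hcK : r ^ l ∈ K := tj _ (pow_mem hrG l) (by rw [hw]; exact mul_mem hzK hjK)
      have e : r ^ l * j * (r ^ l)⁻¹ * j = z := by rw [hw, mul_assoc, hj, mul_one]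
      have hj'K : j' ∈ K := p _ (pow_mem hrG l) hcK j (Or.inl rfl)
        (by rw [hw, ← mul_assoc j, ← hzj', mul_assoc z j j]) (by rwa [e]) j' hj'G (by rw [e, hzr])
      exact tj'' h hh hj'K
    · set x := h⁻¹ * z * h with hx
      have hxj : x * j'' = j'' * x := by
        calc x * j'' = h⁻¹ * (z * j') * h := by rw [hx, hj'def]; group
          _ = h⁻¹ * (j' * z) * h := by rw [hzr]
          _ = j'' * x := by rw [hx, hj'def]; group
      have hxG : x ∈ G := mul_mem (mul_mem (inv_mem hh) hzG) hh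
      have hxK : x ∈ K := tj'' x hxG (by rw [hxj, mul_inv_cancel_right]; exact hjK'')
      have hxZ : x ∉ Z := fun hZ => hzZ (by
        have : z = x := by
          calc z = h * x * h⁻¹ := by rw [hx]; group
            _ = x * h * h⁻¹ := by rw [hZc x hZ h hh]
            _ = x := mul_inv_cancel_right x h
        rwa [this])
      have hw : h⁻¹ * r ^ l * j * (h⁻¹ * r ^ l)⁻¹ = x * j'' := by
        have e : r ^ l * j * (r ^ l)⁻¹ = z * j' := by
          rw [hflip', hz, hl, show 2 * l + 1 = l + l + 1 by omega, pow_succ]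
          simp [hr, mul_assoc, hj']
        calc h⁻¹ * r ^ l * j * (h⁻¹ * r ^ l)⁻¹ = h⁻¹ * (r ^ l * j * (r ^ l)⁻¹) * h := by group
          _ = h⁻¹ * (z * j') * h := by rw [e]
          _ = x * j'' := by rw [hx, hj'def]; group
      have hcG : h⁻¹ * r ^ l ∈ G := mul_mem (inv_mem hh) (pow_mem hrG l)
      have hcK : h⁻¹ * r ^ l ∈ K := tj _ hcG (by rw [hw]; exact mul_mem hxK hjK'')
      have e : h⁻¹ * r ^ l * j * (h⁻¹ * r ^ l)⁻¹ * j'' = x := by rw [hw, mul_assoc, hj'', mul_one]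
      have hK : h⁻¹ * j * h ∈ K := p _ hcG hcK j'' (Or.inr rfl)
        (by rw [hw, ← mul_assoc j'', ← hxj, mul_assoc x j'' j'']) (by rwa [e]) _
        (mul_mem (mul_mem (inv_mem hh) hjG) hh) (by
          rw [e, hx]
          calc h⁻¹ * j * h * (h⁻¹ * z * h) = h⁻¹ * (j * z) * h := by group
            _ = h⁻¹ * (z * j) * h := by rw [hzj']
            _ = h⁻¹ * z * h * (h⁻¹ * j * h) := by group)
      exact inv_mem_iff.1 (tj h⁻¹ (inv_mem hh) (by rwa [inv_inv]))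
  · -- odd order
    exfalso
    have hgG : h⁻¹ * r ^ i ∈ G := mul_mem (inv_mem hh) (pow_mem hrG i)
    have e : h⁻¹ * r ^ i * j * (h⁻¹ * r ^ i)⁻¹ = r ^ (2 * i + 1) * j'' := by
      have e1 : r ^ i * j * (r ^ i)⁻¹ = r ^ (2 * i + 1) * j' := by
        rw [hflip', pow_succ, two_mul]
        simp [hr, mul_assoc, hj']
      calc h⁻¹ * r ^ i * j * (h⁻¹ * r ^ i)⁻¹ = h⁻¹ * (r ^ i * j * (r ^ i)⁻¹) * h := by group
        _ = h⁻¹ * (r ^ (2 * i + 1) * j') * h := by rw [e1]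
        _ = h⁻¹ * r ^ (2 * i + 1) * h * j'' := by rw [hj'def]; group
        _ = r ^ (2 * i + 1) * j'' := by
          rw [mul_assoc h⁻¹ (r ^ (2 * i + 1)) h, ← hZc _ hmZ h hh, inv_mul_cancel_left]
    exact n1 _ hgG (tj _ hgG (by rw [e]; exact mul_mem hz0K hjK'')) _ hmZ e

end Cfsg.Agent.TensorOO
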