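import Cfsg.Agent.TensorOO.Members

/-!
The elements fixing a singular line pointwise and acting trivially on its orthogonal modulo the
line (helper19).
-/

set_option autoImplicit false
set_option linter.unusedSectionVars false
set_option linter.unusedSimpArgs false

namespace Cfsg.Agent.TensorOO

open Matrix hiding col
open Cfsg.Agent.MaxSub Cfsg.Agent.TensorMax Cfsg.Agent.TensorInv Module

variable {F : Type*} [Field F] {a b : ℕ}

/-- A singular pair of the second factor. -/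
structure Hyp (S : OForm F a b) (n n' : Fin b → F) : Prop where
  nn : S.f₂ n n = 0
  n'n' : S.f₂ n' n' = 0
  nn' : S.f₂ n n' = 1

/-- The elements of the radical of a line. -/
def InRad (S : OForm F a b) (n : Fin b → F) (u : GL (Fin a × Fin b) F) : Prop :=
  u ∈ MaxSub.isom S.om ∧ (∀ x, act u (emb n x) = emb n x) ∧
    ∀ z, S.pi n z = 0 → ∃ y, act u z = z + emb n y

/-- The displacement of the partner line. -/
def dmap (n' : Fin b → F) (u : GL (Fin a × Fin b) F) : (Fin a → F) →ₗ[F] V F a b :=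
  act u ∘ₗ emb n' - emb n'

theorem dmap_apply (n' : Fin b → F) (u : GL (Fin a × Fin b) F) (x : Fin a → F) :
    dmap n' u x = act u (emb n' x) - emb n' x := rfl

theorem act_dmap (n' : Fin b → F) (u : GL (Fin a × Fin b) F) (x : Fin a → F) :
    act u (emb n' x) = emb n' x + dmap n' u x := by rw [dmap_apply]; abel

/-- The block of `t`. -/
def blockT (S : OForm F a b) (n' : Fin b → F) (u : GL (Fin a × Fin b) F) (t : Fin b → F) :
    (Fin a → F) →ₗ[F] (Fin a → F) := S.pi t ∘ₗ dmap n' u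

variable {S : OForm F a b} {n n' : Fin b → F}

theorem blockT_add (u : GL (Fin a × Fin b) F) (s t : Fin b → F) :
    blockT S n' u (s + t) = blockT S n' u s + blockT S n' u t :=
  LinearMap.ext fun _ => S.pi_add _ _ _

theorem blockT_smul (u : GL (Fin a × Fin b) F) (c : F) (t : Fin b → F) :
    blockT S n' u (c • t) = c • blockT S n' u t :=
  LinearMap.ext fun _ => S.pi_smul _ _ _

namespace Hyp

variable (P : Hyp S n n')
include P

theorem n'n : S.f₂ n' n = 1 := by rw [S.comm₂, P.nn']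

theorem ne : n ≠ 0 := fun h => one_ne_zero (by
  rw [← P.nn', h, map_zero, LinearMap.zero_apply])

theorem pi_n' (x : Fin a → F) : S.pi n (emb n' x) = x := by rw [S.pi_emb, P.nn', one_smul]

/-- The projection to the orthogonal space of the pair. -/
theorem decomp (d : Fin b → F) : S.f₂ n (d - S.f₂ n' d • n - S.f₂ n d • n') = 0 ∧
    S.f₂ n' (d - S.f₂ n' d • n - S.f₂ n d • n') = 0 := by
  simp [P.nn, P.n'n', P.nn', P.n'n]

theorem el_inRad (hf : Sym S.f₂) {w : Fin b → F} (hw : S.f₂ n w = 0) :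
    InRad S n (kr (1 : GL (Fin a) F) (el S.f₂ n w)) := by
  have hwn : S.f₂ w n = 0 := by rw [hf.symm, hw]
  refine ⟨S.kr_mem_isom (fun x y => by rw [act_one, act_one]) (el_form hf P.nn hw), fun x => ?_,
    fun z hz => ⟨-S.pi w z, ?_⟩⟩
  · rw [act_kr, act_one, el_apply hf P.nn hw, P.nn, hwn]
    simp
  · have key : ∀ z : V F a b, act (kr (1 : GL (Fin a) F) (el S.f₂ n w)) z =
        z + emb w (S.pi n z) - emb n (S.pi w z) - emb n ((S.f₂ w w / 2) • S.pi n z) := fun z => by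
      refine ext_emb (f := act (kr (1 : GL (Fin a) F) (el S.f₂ n w)))
        (g := LinearMap.id + emb w ∘ₗ S.pi n - emb n ∘ₗ S.pi w -
          emb n ∘ₗ ((S.f₂ w w / 2) • S.pi n)) (fun v x => ?_) z
      simp only [act_kr, act_one, el_apply hf P.nn hw, LinearMap.add_apply, LinearMap.sub_apply,
        LinearMap.id_apply, LinearMap.comp_apply, LinearMap.smul_apply, S.pi_emb, emb_add_left,
        emb_sub_left, emb_smul_left, map_smul, smul_smul]
    rw [key, hz]
    simp [map_neg, sub_eq_add_neg]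

end Hyp

theorem el_apply_n' (P : Hyp S n n') {w : Fin b → F} (hw : S.f₂ n w = 0) (hw' : S.f₂ n' w = 0)
    (x : Fin a → F) : dmap n' (kr (1 : GL (Fin a) F) (el S.f₂ n w)) x =
      emb w x - (S.f₂ w w / 2) • emb n x := by
  have e : S.f₂ w n' = 0 := by rw [S.comm₂, hw']
  rw [dmap_apply, act_kr, act_one, el_apply S.h₂ P.nn hw, P.nn', e]
  simp only [one_smul, zero_smul, sub_zero, mul_one, emb_add_left, emb_sub_left, emb_smul_left]
  abel

theorem blockT_el (P : Hyp S n n') {w : Fin b → F} (hw : S.f₂ n w = 0) (hw' : S.f₂ n' w = 0)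
    {t : Fin b → F} (ht : S.f₂ n t = 0) (x : Fin a → F) :
    blockT S n' (kr (1 : GL (Fin a) F) (el S.f₂ n w)) t x = S.f₂ t w • x := by
  show S.pi t _ = _
  rw [el_apply_n' P hw hw', map_sub, map_smul, S.pi_emb, S.pi_emb, show S.f₂ t n = 0 by rw [S.comm₂, ht]]
  simp

namespace InRad

variable (P : Hyp S n n') {u u' : GL (Fin a × Fin b) F}
include P

omit P in
theorem pi_eq (hu : InRad S n u) (z : V F a b) : S.pi n (act u z) = S.pi n z :=
  S.pi_fix hu.1 hu.2.1 z

omit P in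
theorem pi_dmap (hu : InRad S n u) (x : Fin a → F) : S.pi n (dmap n' u x) = 0 := by
  rw [dmap_apply, map_sub, hu.pi_eq, sub_self]

theorem mul (hu : InRad S n u) (hu' : InRad S n u') : InRad S n (u * u') := by
  refine ⟨mul_mem hu.1 hu'.1, fun x => by rw [act_mul, hu'.2.1, hu.2.1], fun z hz => ?_⟩
  obtain ⟨y, hy⟩ := hu'.2.2 z hz
  obtain ⟨y', hy'⟩ := hu.2.2 z hz
  refine ⟨y + y', ?_⟩
  rw [act_mul, hy, map_add, hu.2.1, hy', map_add]
  abel

omit P in
theorem inv (hu : InRad S n u) : InRad S n u⁻¹ := by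
  have hfix : ∀ x, act u⁻¹ (emb n x) = emb n x := fun x => by
    conv_lhs => rw [← hu.2.1 x]
    rw [act_inv_act]
  refine ⟨inv_mem hu.1, hfix, fun z hz => ?_⟩
  obtain ⟨y, hy⟩ := hu.2.2 z hz
  refine ⟨-y, act_injective u ?_⟩
  rw [act_act_inv, map_add, hu.2.1, hy, map_neg]
  abel

theorem dmap_mul (hu : InRad S n u) (hu' : InRad S n u') (x : Fin a → F) :
    ∃ y, dmap n' (u * u') x = dmap n' u x + dmap n' u' x + emb n y := by
  obtain ⟨y, hy⟩ := hu.2.2 _ (hu'.pi_dmap (n' := n') x)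
  refine ⟨y, ?_⟩
  rw [dmap_apply n' (u * u'), act_mul, act_dmap n' u', map_add, act_dmap n' u, hy]
  abel

theorem blockT_mul (hu : InRad S n u) (hu' : InRad S n u') {t : Fin b → F} (ht : S.f₂ n t = 0) :
    blockT S n' (u * u') t = blockT S n' u t + blockT S n' u' t := by
  refine LinearMap.ext fun x => ?_
  obtain ⟨y, hy⟩ := InRad.dmap_mul P hu hu' x
  show S.pi t _ = S.pi t _ + S.pi t _
  rw [hy, map_add, map_add, S.pi_emb, show S.f₂ t n = 0 by rw [S.comm₂, ht], zero_smul, add_zero]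

theorem blockT_inv (hu : InRad S n u) {t : Fin b → F} (ht : S.f₂ n t = 0) :
    blockT S n' u⁻¹ t = -blockT S n' u t := by
  refine eq_neg_of_add_eq_zero_left ?_
  rw [← InRad.blockT_mul P hu.inv hu ht, inv_mul_cancel]
  refine LinearMap.ext fun x => ?_
  show S.pi t (dmap n' 1 x) = 0
  rw [dmap_apply, act_one, sub_self, map_zero]

omit P in
/-- The pairing of displacements controls the commutator. -/
theorem om_dmap_swap (hu : InRad S n u) (hu' : InRad S n u') (x x' : Fin a → F) :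
    S.om (emb n' x') (act u' (dmap n' u x) - dmap n' u x) =
      -S.om (dmap n' u' x') (dmap n' u x) := by
  obtain ⟨y, hy⟩ := hu'.2.2 _ (hu.pi_dmap (n' := n') x)
  have h := S.om_act hu'.1 (emb n' x') (dmap n' u x)
  rw [act_dmap, S.om_add_left] at h
  have e : S.om (dmap n' u' x') (act u' (dmap n' u x)) = S.om (dmap n' u' x') (dmap n' u x) := by
    rw [hy, S.om_add_right, S.om_emb_right, hu'.pi_dmap, map_zero, add_zero]
  rw [e] at h
  rw [S.om_sub_right]
  linear_combination h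

theorem sym_of_comm (hu : InRad S n u) (hu' : InRad S n u') (h : u * u' = u' * u)
    (x x' : Fin a → F) :
    S.om (dmap n' u' x') (dmap n' u x) = S.om (dmap n' u x') (dmap n' u' x) := by
  have e := congrArg (fun g => act g (emb n' x)) h
  simp only [act_mul] at e
  rw [act_dmap n' u', act_dmap n' u, map_add, map_add, act_dmap n' u, act_dmap n' u'] at e
  have e2 : act u (dmap n' u' x) - dmap n' u' x = act u' (dmap n' u x) - dmap n' u x := by
    linear_combination (norm := module) e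
  have := congrArg (S.om (emb n' x')) e2
  rw [om_dmap_swap hu hu', om_dmap_swap hu' hu] at this
  linear_combination this

/-- An element of the radical is determined by its central part and blocks. -/
theorem central_of_block (hu : InRad S n u)
    (h : ∀ t, S.f₂ n t = 0 → S.f₂ n' t = 0 → blockT S n' u t = 0) :
    ∃ ψ : (Fin a → F) →ₗ[F] (Fin a → F), (∀ x y, S.f₁ y (ψ x) = -S.f₁ x (ψ y)) ∧
      ∀ z, act u z = z + emb n (ψ (S.pi n z)) := by
  set ψ := blockT S n' u n'
  have hD : ∀ x, dmap n' u x = emb n (ψ x) := fun x => by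
    refine S.eq_of_pi fun d => ?_
    obtain ⟨h1, h2⟩ := P.decomp d
    have e0 : S.pi (d - S.f₂ n' d • n - S.f₂ n d • n') (dmap n' u x) = 0 :=
      LinearMap.congr_fun (h _ h1 h2) x
    rw [S.pi_sub, S.pi_sub, S.pi_smul, S.pi_smul, hu.pi_dmap, smul_zero, sub_zero, sub_eq_zero] at e0
    rw [e0, S.pi_emb, S.comm₂ n d]
    rfl
  have hperp : ∀ t, S.f₂ n t = 0 → S.f₂ n' t = 0 → ∀ x, act u (emb t x) = emb t x := fun t ht ht' x => by
    obtain ⟨y, hy⟩ := hu.2.2 (emb t x) (by rw [S.pi_emb, ht, zero_smul])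
    suffices y = 0 by rw [hy, this, map_zero, add_zero]
    refine S.eq₁ fun x' => ?_
    have e := S.om_act hu.1 (emb n' x') (emb t x)
    rw [act_dmap, hD, hy, S.om_add_left, S.om_add_right, S.om_add_right, S.om_emb_emb, S.om_emb_emb,
      S.om_emb_emb, S.om_emb_emb, ht', P.n'n, ht, P.nn] at e
    rw [map_zero]
    linear_combination e
  refine ⟨ψ, fun x y => ?_, fun z => ?_⟩
  · have e := S.om_act hu.1 (emb n' x) (emb n' y)
    rw [act_dmap, act_dmap, hD, hD] at e
    simp only [S.om_add_left, S.om_add_right, S.om_emb_emb, P.n'n', P.n'n, P.nn', P.nn,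
      mul_zero, mul_one, zero_add, add_zero] at e
    rw [S.comm₁ (ψ x) y] at *
    linear_combination e
  · refine ext_emb (f := act u) (g := LinearMap.id + emb n ∘ₗ ψ ∘ₗ S.pi n) (fun v x => ?_) z
    simp only [LinearMap.add_apply, LinearMap.id_apply, LinearMap.comp_apply, S.pi_emb, map_smul]
    obtain ⟨h1, h2⟩ := P.decomp v
    have ev : v = (v - S.f₂ n' v • n - S.f₂ n v • n') + S.f₂ n' v • n + S.f₂ n v • n' := by abel
    conv_lhs => rw [ev, emb_add_left, emb_add_left, emb_smul_left, emb_smul_left, map_add, map_add,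
      map_smul, map_smul, hperp _ h1 h2, hu.2.1, act_dmap, hD]
    conv_rhs => arg 1; rw [ev, emb_add_left, emb_add_left, emb_smul_left, emb_smul_left]
    module

end InRad

section Main

variable [Finite F] {H : Subgroup (GL (Fin a × Fin b) F)} (O : Over S H) (hR : ¬ Root S H)
  (P : Hyp S n n')
include O hR P

/-- The elements of the radical in `H` commute. -/
theorem rad_comm {u u' : GL (Fin a × Fin b) F} (hu : InRad S n u) (huH : u ∈ H)
    (hu' : InRad S n u') (hu'H : u' ∈ H) : u * u' = u' * u := by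
  have h := InRad.mul P hu hu'
  have h' := InRad.mul P hu' hu
  obtain ⟨ψ, -, hψ⟩ := InRad.central_of_block P (InRad.mul P h h'.inv) fun t ht _ => by
    rw [InRad.blockT_mul P h h'.inv ht, InRad.blockT_inv P h' ht, InRad.blockT_mul P hu hu' ht,
      InRad.blockT_mul P hu' hu ht]
    abel
  by_contra hne
  refine hR ⟨n, ψ, P.ne, P.nn, fun h0 => hne (mul_inv_eq_one.1 (gl_ext fun z => ?_)),
    _, mul_mem (mul_mem huH hu'H) (inv_mem (mul_mem hu'H huH)), hψ⟩
  show act _ z = act 1 z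
  rw [hψ, h0, LinearMap.zero_apply, map_zero, add_zero, act_one]

/-- Conjugation of the blocks by a Kronecker element fixing the pair. -/
theorem blockT_conj {u : GL (Fin a × Fin b) F} (hu : InRad S n u) (huH : u ∈ H)
    {g : GL (Fin a) F} {k : GL (Fin b) F} (hgk : kr g k ∈ H)
    (hg : ∀ x y, S.f₁ (act g x) (act g y) = S.f₁ x y)
    (hk : ∀ v w, S.f₂ (act k v) (act k w) = S.f₂ v w) (hkn : act k n = n) (hkn' : act k n' = n') :
    InRad S n (kr g k * u * (kr g k)⁻¹) ∧ kr g k * u * (kr g k)⁻¹ ∈ H ∧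
      ∀ t x, blockT S n' (kr g k * u * (kr g k)⁻¹) t x =
        act g (blockT S n' u (act k⁻¹ t) (act g⁻¹ x)) := by
  have hki : act k⁻¹ n = n := by conv_lhs => rw [← hkn, act_inv_act]
  have hki' : act k⁻¹ n' = n' := by conv_lhs => rw [← hkn', act_inv_act]
  refine ⟨⟨O.isom (mul_mem (mul_mem hgk huH) (inv_mem hgk)), fun x => ?_, fun z hz => ?_⟩,
    mul_mem (mul_mem hgk huH) (inv_mem hgk), fun t x => ?_⟩
  · rw [kr_inv, act_mul, act_mul, act_kr, hki, hu.2.1, act_kr, hkn, act_act_inv]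
  · have hw : S.pi n (act (kr g k)⁻¹ z) = 0 := by
      have := S.pi_kr g hk n (act (kr g k)⁻¹ z)
      rw [act_act_inv, hz, hki] at this
      exact act_injective g (by rw [← this, map_zero])
    obtain ⟨y, hy⟩ := hu.2.2 _ hw
    refine ⟨act g y, ?_⟩
    rw [act_mul, act_mul, hy, map_add, act_act_inv, act_kr, hkn]
  · show S.pi t _ = act g (S.pi _ _)
    rw [← S.pi_kr g hk, dmap_apply, dmap_apply, map_sub (act (kr g k)), act_mul, act_mul, act_kr,
      kr_inv, act_kr, hki', act_act_inv, hkn']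

variable (ha : 3 ≤ a) (hb : 5 ≤ b) (hbig : 4 ≤ a ∨ ∃ t : F, t ≠ 0 ∧ t ^ 2 ≠ 1)
include ha hb hbig

omit hR hbig in
/-- Blocks concentrated on a singular vector. -/
theorem exists_shape {u : GL (Fin a × Fin b) F} (hu : InRad S n u) (huH : u ∈ H) {p w : Fin b → F}
    (hp0 : p ≠ 0) (hp : S.f₂ p p = 0) (hpw : S.f₂ p w = 0) (hnp : S.f₂ n p = 0)
    (hn'p : S.f₂ n' p = 0) (hnw : S.f₂ n w = 0) (hn'w : S.f₂ n' w = 0) (hR' : ¬ Root S H) :
    ∃ u', InRad S n u' ∧ u' ∈ H ∧ ∀ t, S.f₂ n t = 0 → S.f₂ n' t = 0 →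
      blockT S n' u' t = S.f₂ p t • ((-S.f₂ w w) • blockT S n' u p) := by
  have hf := S.h₂
  have key : ∀ w, S.f₂ p w = 0 → S.f₂ n w = 0 → S.f₂ n' w = 0 →
      ∃ v, InRad S n v ∧ v ∈ H ∧ ∀ t, blockT S n' v t = blockT S n' u (act (el S.f₂ p (-w)) t) := by
    intro w hpw hnw hn'w
    have hfix : ∀ {m}, S.f₂ p m = 0 → S.f₂ w m = 0 → act (el S.f₂ p w) m = m := fun {m} h1 h2 => by
      rw [el_apply hf hp hpw, h1, h2]
      simp
    obtain ⟨h1, h2, h3⟩ := blockT_conj O hR' P hu huH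
      (O.elB (by omega) hp0 hp hpw) (fun x y => by rw [act_one, act_one]) (el_form hf hp hpw)
      (hfix (by rw [S.comm₂, hnp]) (by rw [S.comm₂, hnw]))
      (hfix (by rw [S.comm₂, hn'p]) (by rw [S.comm₂, hn'w]))
    refine ⟨_, h1, h2, fun t => LinearMap.ext fun x => ?_⟩
    rw [h3, el_inv hf hp hpw, inv_one, act_one, act_one]
  obtain ⟨v₁, r₁, m₁, e₁⟩ := key w hpw hnw hn'w
  obtain ⟨v₂, r₂, m₂, e₂⟩ := key (-w) (by rw [map_neg, hpw, neg_zero]) (by rw [map_neg, hnw, neg_zero])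
    (by rw [map_neg, hn'w, neg_zero])
  refine ⟨v₁ * v₂ * (u * u)⁻¹, InRad.mul P (InRad.mul P r₁ r₂) (InRad.mul P hu hu).inv,
    mul_mem (mul_mem m₁ m₂) (inv_mem (mul_mem huH huH)), fun t ht ht' => ?_⟩
  rw [InRad.blockT_mul P (InRad.mul P r₁ r₂) (InRad.mul P hu hu).inv ht, InRad.blockT_mul P r₁ r₂ ht,
    InRad.blockT_inv P (InRad.mul P hu hu) ht, InRad.blockT_mul P hu hu ht, e₁, e₂, neg_neg,
    el_apply hf hp (by rw [map_neg, hpw, neg_zero]), el_apply hf hp hpw]
  simp only [sub_eq_add_neg, ← neg_smul, blockT_add, blockT_smul, map_neg, LinearMap.neg_apply,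
    neg_neg, ← neg_one_smul F w]
  have h2 := S.two
  match_scalars <;> (try simp only [map_smul, LinearMap.smul_apply, smul_eq_mul]) <;> field_simp <;> ring

omit hR hbig in
theorem eq_shape {u : GL (Fin a × Fin b) F} (hu : InRad S n u) {p : Fin b → F} (hnp : S.f₂ n p = 0)
    (hn'p : S.f₂ n' p = 0) {B : (Fin a → F) →ₗ[F] (Fin a → F)}
    (h : ∀ t, S.f₂ n t = 0 → S.f₂ n' t = 0 → blockT S n' u t = S.f₂ p t • B) (x : Fin a → F) :
    ∃ y, dmap n' u x = emb p (B x) + emb n y := by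
  refine ⟨blockT S n' u n' x, S.eq_of_pi fun d => ?_⟩
  obtain ⟨h1, h2⟩ := P.decomp d
  have e0 : S.pi (d - S.f₂ n' d • n - S.f₂ n d • n') (dmap n' u x) =
      S.f₂ p (d - S.f₂ n' d • n - S.f₂ n d • n') • B x := LinearMap.congr_fun (h _ h1 h2) x
  rw [S.pi_sub, S.pi_sub, S.pi_smul, S.pi_smul, hu.pi_dmap, smul_zero, sub_zero] at e0
  simp only [map_sub, map_smul, smul_eq_mul, S.comm₂ n p, S.comm₂ n' p, hnp, hn'p, mul_zero,
    sub_zero] at e0
  rw [map_add, S.pi_emb, S.pi_emb, S.comm₂ d p] at *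
  rw [S.comm₂ n d]
  show _ = _ + S.f₂ n d • S.pi n' _
  linear_combination (norm := module) e0

/-- The blocks of an element of the radical in `H` are scalar. -/
theorem blockT_scalar {u : GL (Fin a × Fin b) F} (hu : InRad S n u) (huH : u ∈ H) {t : Fin b → F}
    (ht : S.f₂ n t = 0) (ht' : S.f₂ n' t = 0) :
    ∃ l : F, ∀ x, blockT S n' u t x = l • x := by
  have hf := S.h₂
  have h2 := S.two
  have hE : S.f₂ (n + ((1 : F) / 2) • n') (n + ((1 : F) / 2) • n') ≠ 0 := by
    rw [hyp_value hf P.nn P.n'n' P.nn']; exact one_ne_zero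
  have hE' : S.f₂ (n + ((-1 : F) / 2) • n') (n + ((-1 : F) / 2) • n') ≠ 0 := by
    rw [hyp_value hf P.nn P.n'n' P.nn']; simp
  have hperp : ∀ {x}, S.f₂ (n + ((1 : F) / 2) • n') x = 0 → S.f₂ (n + ((-1 : F) / 2) • n') x = 0 →
      S.f₂ n x = 0 ∧ S.f₂ n' x = 0 := fun {x} a1 a2 => by
    simp only [map_add, map_smul, LinearMap.add_apply, LinearMap.smul_apply, smul_eq_mul] at a1 a2
    field_simp at a1 a2
    have : S.f₂ n' x = 0 :=
      (mul_eq_zero.1 (show (2 : F) * S.f₂ n' x = 0 by linear_combination a1 - a2)).resolve_left h2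
    refine ⟨(mul_eq_zero.1 (show (2 : F) * S.f₂ n x = 0 by linear_combination a1 - this)).resolve_left h2, this⟩
  have hfam := hf.fam_two hE hE' (by simp [P.nn, P.n'n', P.nn', P.n'n]; field_simp; ring)
  obtain ⟨p, p', w, hp0, hp, hp', hpp', hw, hpw, hp'w, hFp, hFp', hFw⟩ :=
    exists_hyp_perp hf hfam (by omega)
  obtain ⟨hnp, hn'p⟩ := hperp (hFp 0) (hFp 1)
  obtain ⟨hnp', hn'p'⟩ := hperp (hFp' 0) (hFp' 1)
  obtain ⟨hnw, hn'w⟩ := hperp (hFw 0) (hFw 1)
  have hp'p : S.f₂ p' p = 1 := by rw [S.comm₂, hpp']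
  -- the shapes form an invariant commutative set
  let Sh : ((Fin a → F) →ₗ[F] (Fin a → F)) → Prop := fun B => ∃ v, InRad S n v ∧ v ∈ H ∧
    ∀ s, S.f₂ n s = 0 → S.f₂ n' s = 0 → blockT S n' v s = S.f₂ p s • B
  have hsc : ∀ B, Sh B → ∃ l : F, ∀ x, B x = l • x := by
    intro B hB
    refine scalar_of_commuting S.h₁ ha hbig Sh ?_ ?_ ?_ ?_ ?_ ?_ hB
    · rintro B B' ⟨v, rv, mv, ev⟩ ⟨v', rv', mv', ev'⟩
      exact ⟨v * v', InRad.mul P rv rv', mul_mem mv mv', fun s hs hs' => by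
        rw [InRad.blockT_mul P rv rv' hs, ev s hs hs', ev' s hs hs', smul_add]⟩
    · rintro B ⟨v, rv, mv, ev⟩
      exact ⟨v⁻¹, rv.inv, inv_mem mv, fun s hs hs' => by
        rw [InRad.blockT_inv P rv hs, ev s hs hs', smul_neg]⟩
    · rintro e r B hee her ⟨v, rv, mv, ev⟩
      by_cases he0 : e = 0
      · have h1 : el S.f₁ e r = 1 := act_ext fun x => by
          rw [el_apply S.h₁ hee her, act_one, he0]; simp
        refine ⟨v, rv, mv, fun s hs hs' => ?_⟩
        rw [h1, inv_one, ev s hs hs']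
        congr 1
        exact LinearMap.ext fun x => by simp [act_one]
      obtain ⟨r1, m1, e1⟩ := blockT_conj O hR P rv mv (O.elA ha he0 hee her)
        (el_form S.h₁ hee her) (fun x y => by rw [act_one, act_one]) (act_one _) (act_one _)
      refine ⟨_, r1, m1, fun s hs hs' => LinearMap.ext fun x => ?_⟩
      rw [e1, inv_one, act_one, ev s hs hs', LinearMap.smul_apply, LinearMap.smul_apply, map_smul]
      rfl
    · rintro c B hc ⟨v, rv, mv, ev⟩
      obtain ⟨k, hk, hki, hkp, hkfix⟩ := exists_torus O hp hp' hpp' hc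
      obtain ⟨r1, m1, e1⟩ := blockT_conj O hR P rv mv hk (fun x y => by rw [act_one, act_one]) hki
        (hkfix n (by rw [S.comm₂, hnp]) (by rw [S.comm₂, hnp']))
        (hkfix n' (by rw [S.comm₂, hn'p]) (by rw [S.comm₂, hn'p']))
      refine ⟨_, r1, m1, fun s hs hs' => LinearMap.ext fun x => ?_⟩
      have hk1 : ∀ m, S.f₂ p m = 0 → S.f₂ p' m = 0 → S.f₂ m (act k⁻¹ s) = S.f₂ m s := fun m a1 a2 => by
        rw [← hki m, act_act_inv, hkfix m a1 a2]
      have a1 : S.f₂ n (act k⁻¹ s) = 0 := by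
        rw [hk1 n (by rw [S.comm₂, hnp]) (by rw [S.comm₂, hnp']), hs]
      have a2 : S.f₂ n' (act k⁻¹ s) = 0 := by
        rw [hk1 n' (by rw [S.comm₂, hn'p]) (by rw [S.comm₂, hn'p']), hs']
      have a3 : S.f₂ p (act k⁻¹ s) = c ^ 2 * S.f₂ p s := by
        rw [← hki p, act_act_inv, hkp, map_smul, LinearMap.smul_apply, smul_eq_mul]
      rw [e1, inv_one, act_one, act_one, ev _ a1 a2, a3]
      simp [smul_smul, mul_comm]
    · rintro B ⟨v, rv, mv, ev⟩ x y
      have h := InRad.sym_of_comm (n' := n') P rv (P.el_inRad hf hnp')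
        (rad_comm O hR P rv mv (P.el_inRad hf hnp') (O.elB (by omega) P.ne P.nn hnp')) x y
      simp only [el_apply_n' P hnp' hn'p', hp', zero_div, zero_smul, sub_zero, S.om_emb,
        S.om_emb_right] at h
      have e := fun z => LinearMap.congr_fun (ev p' hnp' hn'p') z
      simp only [blockT, LinearMap.comp_apply, LinearMap.smul_apply, hpp', one_smul] at e
      rw [e, e] at h
      exact h
    · rintro B B' ⟨v, rv, mv, ev⟩ ⟨v', rv', mv', ev'⟩ x
      -- move the second one to the partner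
      obtain ⟨v'', rv'', mv'', ev''⟩ := exists_shape O P ha hb rv' mv' (w := w)
        (fun h0 => by simp [h0] at hpp') hp' hp'w hnp' hn'p' hnw hn'w hR
      rw [ev' p' hnp' hn'p', hpp', one_smul] at ev''
      refine S.eq₁ fun y => ?_
      have hsym : ∀ (B : (Fin a → F) →ₗ[F] (Fin a → F)), Sh B → ∀ x y, S.f₁ x (B y) = S.f₁ (B x) y := by
        intro B hB x y
        obtain ⟨v, rv, mv, ev⟩ := hB
        have h := InRad.sym_of_comm (n' := n') P rv (P.el_inRad hf hnp')
          (rad_comm O hR P rv mv (P.el_inRad hf hnp') (O.elB (by omega) P.ne P.nn hnp')) y x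
        simp only [el_apply_n' P hnp' hn'p', hp', zero_div, zero_smul, sub_zero, S.om_emb,
          S.om_emb_right] at h
        have e := fun z => LinearMap.congr_fun (ev p' hnp' hn'p') z
        simp only [blockT, LinearMap.comp_apply, LinearMap.smul_apply, hpp', one_smul] at e
        rw [e, e] at h
        rw [h, S.comm₁]
      have hS := hsym B ⟨v, rv, mv, ev⟩
      have hS' := hsym B' ⟨v', rv', mv', ev'⟩
      have h := InRad.sym_of_comm (n' := n') P rv rv'' (rad_comm O hR P rv mv rv'' mv'') x y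
      obtain ⟨y1, d1⟩ := eq_shape O P ha hb rv hnp hn'p ev x
      obtain ⟨y2, d2⟩ := eq_shape O P ha hb rv hnp hn'p ev y
      obtain ⟨y3, d3⟩ := eq_shape O P ha hb rv'' hnp' hn'p' ev'' x
      obtain ⟨y4, d4⟩ := eq_shape O P ha hb rv'' hnp' hn'p' ev'' y
      rw [d1, d2, d3, d4] at h
      simp only [S.om_add_left, S.om_add_right, S.om_smul_left, S.om_smul_right, S.om_emb_emb, hpp', hp'p, P.nn, hnp, hnp',
        S.comm₂ n p, S.comm₂ n p', mul_zero, add_zero, mul_one, LinearMap.smul_apply, map_smul,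
        smul_eq_mul] at h
      rw [hS y, hS' y]
      refine mul_left_cancel₀ (neg_ne_zero.2 hw) ?_
      linear_combination -h + 0 * S.comm₁ (B y) (B' x)
  -- blocks at singular vectors
  have hsing : ∀ q q', S.f₂ q q = 0 → S.f₂ q q' = 0 → S.f₂ q' q' ≠ 0 → q ≠ 0 → S.f₂ n q = 0 →
      S.f₂ n' q = 0 → S.f₂ n q' = 0 → S.f₂ n' q' = 0 → S.f₂ q p ≠ 0 →
      ∃ l : F, ∀ x, blockT S n' u q x = l • x := by
    intro q q' hq hqq' hq' hq0 a1 a2 a3 a4 hqp
    obtain ⟨v, rv, mv, ev⟩ := exists_shape O P ha hb hu huH hq0 hq hqq' a1 a2 a3 a4 hR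
    obtain ⟨v', rv', mv', ev'⟩ := exists_shape O P ha hb rv mv hp0 hp hpw hnp hn'p hnw hn'w hR
    obtain ⟨l, hl⟩ := hsc _ ⟨v', rv', mv', fun s hs hs' => ev' s hs hs'⟩
    refine ⟨l / ((-S.f₂ w w) * S.f₂ q p * (-S.f₂ q' q')), fun x => ?_⟩
    have e := hl x
    rw [ev p hnp hn'p] at e
    simp only [LinearMap.smul_apply, smul_smul] at e
    rw [div_eq_mul_inv, mul_comm l, ← smul_smul, ← e, smul_smul, ← mul_assoc (-(S.f₂ w) w),
      inv_mul_cancel₀ (mul_ne_zero (mul_ne_zero (neg_ne_zero.2 hw) hqp) (neg_ne_zero.2 hq')), one_smul]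
  have hw0' : w ≠ 0 := fun h => hw (by rw [h, map_zero])
  obtain ⟨l', hl'⟩ := hsing p' w hp' hp'w hw (fun h0 => by simp [h0] at hpp') hnp' hn'p' hnw hn'w
    (by rw [hp'p]; exact one_ne_zero)
  obtain ⟨l₀, hl₀⟩ : ∃ l : F, ∀ x, blockT S n' u p x = l • x := by
    set q := p + w - (S.f₂ w w / 2) • p'
    have hwp : S.f₂ w p = 0 := by rw [S.comm₂, hpw]
    have hwp' : S.f₂ w p' = 0 := by rw [S.comm₂, hp'w]
    have hq : S.f₂ q q = 0 := by
      simp [q, hp, hp', hpp', hp'p, hpw, hp'w, hwp, hwp']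
      field_simp
      ring
    set q' := w + S.f₂ w w • (-p')
    obtain ⟨l₁, h₁⟩ := hsing q q' hq
      (by simp [q, q', hp, hp', hpp', hp'p, hpw, hp'w, hwp, hwp'])
      (by simp [q', hp', hp'w, hwp', hw])
      (fun h0 => by
        have := congrArg (S.f₂ p') h0
        simp [q, hp', hp'p, hp'w] at this)
      (by simp [q, hnp, hnp', hnw]) (by simp [q, hn'p, hn'p', hn'w])
      (by simp [q', hnp', hnw]) (by simp [q', hn'p', hn'w])
      (by simp [q, hp, hp'p, hwp]; exact ⟨hw, h2⟩)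
    obtain ⟨l₂, h₂⟩ := hsing (p - w - (S.f₂ w w / 2) • p') (w + S.f₂ w w • p')
      (by simp [hp, hp', hpp', hp'p, hpw, hp'w, hwp, hwp']; field_simp; ring)
      (by simp [hp, hp', hpp', hp'p, hpw, hp'w, hwp, hwp'])
      (by simp [hp', hp'w, hwp', hw])
      (fun h0 => by
        have := congrArg (S.f₂ p') h0
        simp [hp', hp'p, hp'w] at this)
      (by simp [hnp, hnp', hnw]) (by simp [hn'p, hn'p', hn'w])
      (by simp [hnp', hnw]) (by simp [hn'p', hn'w])
      (by simp [hp, hp'p, hwp]; exact ⟨hw, h2⟩)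
    refine ⟨(2 : F)⁻¹ * (l₁ + l₂) + S.f₂ w w / 2 * l', fun x => ?_⟩
    have a1 := h₁ x
    have a2 := h₂ x
    simp only [q, sub_eq_add_neg, blockT_add, ← neg_smul, blockT_smul, LinearMap.add_apply,
      LinearMap.smul_apply, hl', show blockT S n' u (-w) x = -blockT S n' u w x by
        rw [← neg_one_smul F w, blockT_smul]; simp] at a1 a2
    linear_combination (norm := (match_scalars <;> field_simp <;> ring)) (2 : F)⁻¹ • a1 + (2 : F)⁻¹ • a2
  set s := t - S.f₂ p' t • p - S.f₂ p t • p'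
  have hs : S.f₂ p s = 0 ∧ S.f₂ p' s = 0 := by simp [s, hp, hp', hpp', hp'p]
  set q := p' + s - (S.f₂ s s / 2) • p
  have hq : S.f₂ q q = 0 := by
    simp [q, hp, hp', hpp', hp'p, hs.1, hs.2, S.comm₂ p s, S.comm₂ p' s]
    field_simp
    ring
  have hns : S.f₂ n s = 0 ∧ S.f₂ n' s = 0 := by simp [s, ht, ht', hnp, hnp', hn'p, hn'p']
  obtain ⟨l₃, h₃⟩ := hsing q (w - S.f₂ s w • p) hq
    (by simp [q, hp, hp', hp'p, hpw, hp'w, hs.1, hs.2, S.comm₂ p s])
    (by simp [hp, hpw, S.comm₂ p w, hw])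
    (fun h0 => by
      have := congrArg (S.f₂ p) h0
      simp [q, hp, hpp', hs.1] at this)
    (by simp [q, hnp, hnp', hns.1]) (by simp [q, hn'p, hn'p', hns.2])
    (by simp [hnp, hnw]) (by simp [hn'p, hn'w])
    (by simp [q, hp, hp'p, hs.1, S.comm₂ p s])
  refine ⟨l₃ + S.f₂ p' t * l₀ + S.f₂ p t * l' - l' + S.f₂ s s / 2 * l₀, fun x => ?_⟩
  have a3 := h₃ x
  simp only [q, sub_eq_add_neg, ← neg_smul, blockT_add, blockT_smul, LinearMap.add_apply,
    LinearMap.smul_apply, hl', hl₀] at a3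
  have et : t = s + S.f₂ p' t • p + S.f₂ p t • p' := by simp only [s]; abel
  conv_lhs => rw [et]
  simp only [blockT_add, blockT_smul, LinearMap.add_apply, LinearMap.smul_apply, hl', hl₀]
  linear_combination (norm := module) a3

/-- A translation with the given scalar blocks. -/
theorem exists_translation {u : GL (Fin a × Fin b) F} (hu : InRad S n u)
    (h : ∀ t, S.f₂ n t = 0 → S.f₂ n' t = 0 → ∃ l : F, ∀ x, blockT S n' u t x = l • x) :
    ∃ τ, S.f₂ n τ = 0 ∧ S.f₂ n' τ = 0 ∧ ∀ t, S.f₂ n t = 0 → S.f₂ n' t = 0 →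
      blockT S n' (u * (kr (1 : GL (Fin a) F) (el S.f₂ n τ))⁻¹) t = 0 := by
  obtain ⟨v₀, hv₀⟩ := S.h₁.exists_aniso (show 1 ≤ a by omega)
  let L : (Fin b → F) →ₗ[F] (Fin b → F) :=
    LinearMap.id - (S.f₂ n').smulRight n - (S.f₂ n).smulRight n'
  let χ : (Fin b → F) →ₗ[F] F :=
    { toFun := fun d => S.f₁ v₀ (blockT S n' u (L d) v₀) / S.f₁ v₀ v₀
      map_add' := fun d d' => by rw [map_add, blockT_add, LinearMap.add_apply, map_add, add_div]
      map_smul' := fun c d => by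
        rw [map_smul, blockT_smul, LinearMap.smul_apply, map_smul, smul_eq_mul, mul_div_assoc]
        rfl }
  have hinj : Function.Injective S.f₂ := (injective_iff_map_eq_zero _).2 fun u hu =>
    S.h₂.nd u fun x => LinearMap.congr_fun hu x
  obtain ⟨τ, hτ⟩ := (LinearMap.injective_iff_surjective_of_finrank_eq_finrank
    (by rw [Subspace.dual_finrank_eq])).mp hinj χ
  have hτ' : ∀ d, S.f₂ τ d = χ d := fun d => LinearMap.congr_fun hτ d
  have hχ0 : ∀ d, L d = 0 → χ d = 0 := fun d hd => by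
    show S.f₁ v₀ (blockT S n' u (L d) v₀) / S.f₁ v₀ v₀ = 0
    rw [hd, ← zero_smul F (0 : Fin b → F), blockT_smul, zero_smul, LinearMap.zero_apply, map_zero,
      zero_div]
  have hτn : S.f₂ n τ = 0 := by
    rw [S.comm₂, hτ', hχ0 n (by simp [L, P.nn, P.n'n])]
  have hτn' : S.f₂ n' τ = 0 := by
    rw [S.comm₂, hτ', hχ0 n' (by simp [L, P.n'n', P.nn'])]
  refine ⟨τ, hτn, hτn', fun t ht ht' => LinearMap.ext fun x => ?_⟩
  obtain ⟨l, hl⟩ := h t ht ht'
  have hLt : L t = t := by simp [L, ht, ht']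
  have hχ : χ t = l := by
    show S.f₁ v₀ (blockT S n' u (L t) v₀) / S.f₁ v₀ v₀ = l
    rw [hLt, hl, map_smul, smul_eq_mul, mul_div_cancel_right₀ _ hv₀]
  rw [InRad.blockT_mul P hu (P.el_inRad S.h₂ hτn).inv ht, InRad.blockT_inv P (P.el_inRad S.h₂ hτn) ht,
    LinearMap.add_apply, LinearMap.neg_apply, hl, blockT_el P hτn hτn' ht, S.comm₂ τ t, hτ', hχ,
    add_neg_cancel, LinearMap.zero_apply]

/-- The radical part of `H` consists of translations. -/
theorem rad_eq {u : GL (Fin a × Fin b) F} (hu : InRad S n u) (huH : u ∈ H) :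
    ∃ τ, S.f₂ n τ = 0 ∧ S.f₂ n' τ = 0 ∧ u = kr (1 : GL (Fin a) F) (el S.f₂ n τ) := by
  obtain ⟨τ, hτ, hτ', h0⟩ := exists_translation O hR P ha hb hbig hu
    fun t ht ht' => blockT_scalar O hR P ha hb hbig hu huH ht ht'
  refine ⟨τ, hτ, hτ', ?_⟩
  obtain ⟨ψ, -, hψ⟩ := InRad.central_of_block P (InRad.mul P hu (P.el_inRad S.h₂ hτ).inv) h0
  by_contra hne
  refine hR ⟨n, ψ, P.ne, P.nn, fun h0 => hne (mul_inv_eq_one.1 (gl_ext fun z => ?_)), _,
    mul_mem huH (inv_mem (O.elB (by omega) P.ne P.nn hτ)), hψ⟩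
  show act _ z = act 1 z
  rw [hψ, h0, LinearMap.zero_apply, map_zero, add_zero, act_one]

end Main

end Cfsg.Agent.TensorOO
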