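import Cfsg.Agent.TensorOO.Defs
import Cfsg.Agent.TensorOO.Radical

/-!
An element sending a singular line to a line is in the tensor stabiliser (helper19).
-/

set_option autoImplicit false
set_option linter.unusedSectionVars false
set_option linter.unusedSimpArgs false

namespace Cfsg.Agent.TensorOO

open Matrix hiding col
open Cfsg.Agent.MaxSub Cfsg.Agent.TensorMax Cfsg.Agent.TensorInv Module

variable {F : Type*} [Field F] {a b m : ℕ}

/-- The invertible matrix of an injective map. -/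
theorem exists_gl (φ : (Fin m → F) →ₗ[F] (Fin m → F)) (h : Function.Injective φ) :
    ∃ g : GL (Fin m) F, ∀ x, act g x = φ x := by
  let e := LinearEquiv.ofInjectiveEndo φ h
  exact ⟨mkGL e.toLinearMap e.symm.toLinearMap e.apply_symm_apply e.symm_apply_apply,
    fun x => mkGL_mulVec _ _ _ _ x⟩

/-- The conjugate of a Siegel element by a similitude. -/
theorem el_conj_sim [Finite F] {f : (Fin m → F) →ₗ[F] (Fin m → F) →ₗ[F] F} (hf : Sym f)
    {n u : Fin m → F} (hn : f n n = 0) (hu : f n u = 0) {g : GL (Fin m) F} {ν : F} (hν : ν ≠ 0)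
    (hg : ∀ x y, f (act g x) (act g y) = ν * f x y) :
    g * el f n u * g⁻¹ = el f (act g n) (ν⁻¹ • act g u) := by
  refine act_ext fun w => ?_
  obtain ⟨w, rfl⟩ : ∃ x, act g x = w := ⟨_, act_act_inv g w⟩
  rw [act_mul, act_mul, act_inv_act, el_apply hf hn hu,
    el_apply hf (by rw [hg, hn, mul_zero]) (by rw [map_smul, hg, hu, mul_zero, smul_zero])]
  simp only [map_smul, map_sub, map_add, LinearMap.smul_apply, hg, smul_eq_mul, smul_smul]
  match_scalars <;> field_simp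

variable {S : OForm F a b} {n n' : Fin b → F}

/-- The action of a Siegel element on the orthogonal space of its line. -/
theorem kr_el_ker (P : Hyp S n n') {w : Fin b → F} (hw : S.f₂ n w = 0) {z : V F a b}
    (hz : S.pi n z = 0) :
    act (kr (1 : GL (Fin a) F) (el S.f₂ n w)) z = z - emb n (S.pi w z) := by
  have key : act (kr (1 : GL (Fin a) F) (el S.f₂ n w)) z =
      z + emb w (S.pi n z) - emb n (S.pi w z) - emb n ((S.f₂ w w / 2) • S.pi n z) := by
    refine ext_emb (f := act (kr (1 : GL (Fin a) F) (el S.f₂ n w)))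
      (g := LinearMap.id + emb w ∘ₗ S.pi n - emb n ∘ₗ S.pi w -
        emb n ∘ₗ ((S.f₂ w w / 2) • S.pi n)) (fun v x => ?_) z
    simp only [act_kr, act_one, el_apply S.h₂ P.nn hw, LinearMap.add_apply, LinearMap.sub_apply,
      LinearMap.id_apply, LinearMap.comp_apply, LinearMap.smul_apply, S.pi_emb, emb_add_left,
      emb_sub_left, emb_smul_left, map_smul, smul_smul]
  rw [key, hz]
  simp

/-- An isometry preserving the line preserves its orthogonal space. -/
theorem pi_line {g : GL (Fin a × Fin b) F} (hg : g ∈ MaxSub.isom S.om) {L : GL (Fin a) F}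
    (hL : ∀ x, act g (emb n x) = emb n (act L x)) (z : V F a b) (x : Fin a → F) :
    S.f₁ (act L x) (S.pi n (act g z)) = S.f₁ x (S.pi n z) := by
  rw [← S.om_emb, ← S.om_emb, ← hL, S.om_act hg]

/-- An isometry preserving the line normalises its radical. -/
theorem inRad_conj_line {g u : GL (Fin a × Fin b) F} (hg : g ∈ MaxSub.isom S.om) {L : GL (Fin a) F}
    (hL : ∀ x, act g (emb n x) = emb n (act L x)) (hu : InRad S n u) :
    InRad S n (g * u * g⁻¹) := by
  refine ⟨mul_mem (mul_mem hg hu.1) (inv_mem hg), fun x => ?_, fun z hz => ?_⟩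
  · obtain ⟨x, rfl⟩ : ∃ y, act L y = x := ⟨_, act_act_inv L x⟩
    rw [← hL, act_mul, act_mul, act_inv_act, hu.2.1]
  · obtain ⟨z, rfl⟩ : ∃ y, act g y = z := ⟨_, act_act_inv g z⟩
    have hz' : S.pi n z = 0 := S.eq₁ fun x => by
      rw [← pi_line hg hL z x, hz, map_zero, map_zero]
    obtain ⟨y, hy⟩ := hu.2.2 z hz'
    exact ⟨act L y, by rw [act_mul, act_mul, act_inv_act, hy, map_add, hL]⟩

/-- A skew map commuting with all Siegel elements vanishes. -/
theorem eq_zero_of_skew_comm [Finite F] {f : (Fin m → F) →ₗ[F] (Fin m → F) →ₗ[F] F} (hf : Sym f)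
    (hm : 3 ≤ m) {ψ : (Fin m → F) →ₗ[F] (Fin m → F)} (hψ : ∀ x y, f y (ψ x) = -f x (ψ y))
    (hc : ∀ e r, f e e = 0 → e ≠ 0 → f e r = 0 → ∀ w,
      ψ (act (el f e r) w) = act (el f e r) (ψ w)) :
    ∀ x, ψ x = 0 := by
  have h2 := hf.two
  have hself : ∀ x, f x (ψ x) = 0 := fun x =>
    (mul_eq_zero.1 (show (2 : F) * f x (ψ x) = 0 by linear_combination hψ x x)).resolve_left h2
  have heig : ∀ e e', e ≠ 0 → f e e = 0 → f e e' = 1 → ψ e = f e' (ψ e) • e := by
    intro e e' he hee hee'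
    refine sub_eq_zero.1 (hf.nd _ fun y => ?_)
    rw [hf.symm]
    have hperp : ∀ r, f e r = 0 → f r (ψ e) = 0 := by
      intro r hr
      have h := hc e r hee he hr e
      rw [el_apply hf hee hr, el_apply hf hee hr, hee, hself, show f r e = 0 by rw [hf.symm, hr]] at h
      simp only [zero_smul, add_zero, sub_zero, mul_zero] at h
      have h' : f r (ψ e) • e = 0 := by linear_combination (norm := module) h
      exact (smul_eq_zero.1 h').resolve_right he
    have e1 : f y (ψ e) = f e y * f e' (ψ e) := by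
      have := hperp (y - f e y • e') (by simp [hee'])
      simp only [map_sub, map_smul, LinearMap.sub_apply, LinearMap.smul_apply, smul_eq_mul] at this
      linear_combination this
    rw [map_sub, map_smul, e1, smul_eq_mul, hf.symm e y]
    ring
  have hsing : ∀ e e' r, e ≠ 0 → f e e = 0 → f e' e' = 0 → f e e' = 1 → f e r = 0 → f e' r = 0 →
      f r r ≠ 0 → ψ e = 0 ∧ ψ e' = 0 ∧ ψ r = 0 := by
    intro e e' r he hee he'e' hee' her he'r hrr
    have he'e : f e' e = 1 := by rw [hf.symm, hee']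
    have hre : f r e = 0 := by rw [hf.symm, her]
    have hre' : f r e' = 0 := by rw [hf.symm, he'r]
    obtain ⟨κ, hκ⟩ : ∃ κ, κ = f e' (ψ e) := ⟨_, rfl⟩
    have e1 : ψ e = κ • e := hκ ▸ heig e e' he hee hee'
    have hne : ∀ v, f e v = 1 → v ≠ 0 := fun v hv h0 => by simp [h0] at hv
    set e'' := e' + r - (f r r / 2) • e with he''
    have h1 : f e e'' = 1 := by simp [he'', hee', her, hee]
    have h1' : f e'' e = 1 := by rw [hf.symm, h1]
    have h3 : f e'' e'' = 0 := by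
      simp [he'', he'e', he'r, hre', he'e, hee', hre, her, hee]
      field_simp
      ring
    have e2 : ψ e' = (-κ) • e' := by
      rw [heig e' e (hne e' hee') he'e' he'e, hψ, hκ]
    have e3 : ψ e'' = (-κ) • e'' := by
      rw [heig e'' e (hne e'' h1) h3 h1', hψ, e1, map_smul, smul_eq_mul, h1', mul_one]
    have e4 : ψ r = (-κ) • r + (f r r * κ) • e := by
      simp only [he'', map_sub, map_add, map_smul, e1, e2] at e3
      linear_combination (norm := skip) e3
      match_scalars <;> field_simp <;> ring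
    have hκ0 : κ = 0 := by
      have := hself r
      rw [e4, map_add, map_smul, map_smul, hre, smul_zero, add_zero, smul_eq_mul] at this
      exact neg_eq_zero.1 ((mul_eq_zero.1 this).resolve_right hrr)
    exact ⟨by rw [e1, hκ0, zero_smul], by rw [e2, hκ0, neg_zero, zero_smul],
      by rw [e4, hκ0]; simp⟩
  obtain ⟨e, he, hee⟩ := hf.exists_singular hm
  obtain ⟨e', he'e', hee'⟩ := exists_partner hf.two hf.symm hf.nd he hee
  obtain ⟨s, hes, he's, hss⟩ := hf.exists_aniso_pair hm hee he'e' hee'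
  obtain ⟨k1, k2, -⟩ := hsing e e' s he hee he'e' hee' hes he's hss
  intro x
  set r := x - f e' x • e - f e x • e' with hr
  have her : f e r = 0 := by simp [hr, hee, hee']
  have he'r : f e' r = 0 := by simp [hr, he'e', show f e' e = 1 by rw [hf.symm, hee']]
  have hr0 : ψ r = 0 := by
    by_cases hrr : f r r = 0
    swap
    · exact (hsing e e' r he hee he'e' hee' her he'r hrr).2.2
    by_cases hr00 : r = 0
    · rw [hr00, map_zero]
    obtain ⟨r', hr'r', hrr'⟩ := exists_partner hf.two hf.symm hf.nd hr00 hrr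
    obtain ⟨t, ht, ht', htt⟩ := hf.exists_aniso_pair hm hrr hr'r' hrr'
    exact (hsing r r' t hr00 hrr hr'r' hrr' ht ht' htt).1
  have ex : x = r + f e' x • e + f e x • e' := by rw [hr]; abel
  rw [ex, map_add, map_add, map_smul, map_smul, hr0, k1, k2]
  simp

variable [Finite F] {H : Subgroup (GL (Fin a × Fin b) F)}

/-- The element preserves the line and maps the radical to itself: it is in the tensor stabiliser. -/
theorem mem_of_line_self (hS : Std S H) (P : Hyp S n n') {h : GL (Fin a × Fin b) F} (hh : h ∈ H)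
    {L : GL (Fin a) F} (hL : ∀ x, act h (emb n x) = emb n (act L x)) :
    h ∈ Cfsg.Geo.kroneckerSubgroup a b F := by
  have O := hS.ov
  have hR := hS.noRoot
  have ha := hS.ha
  have hb := hS.hb
  have hbig := hS.big
  have hi := O.isom hh
  have hf := S.h₂
  have h2 := S.two
  let Pj : (Fin b → F) →ₗ[F] (Fin b → F) :=
    LinearMap.id - (S.f₂ n').smulRight n - (S.f₂ n).smulRight n'
  have hPj : ∀ d, S.f₂ n (Pj d) = 0 ∧ S.f₂ n' (Pj d) = 0 := P.decomp
  have hPjt : ∀ t, S.f₂ n t = 0 → S.f₂ n' t = 0 → Pj t = t := fun t h1 h3 => by simp [Pj, h1, h3]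
  -- the translations
  have hτ : ∀ w, S.f₂ n w = 0 → ∃ τ, S.f₂ n τ = 0 ∧ S.f₂ n' τ = 0 ∧
      h * kr 1 (el S.f₂ n w) * h⁻¹ = kr 1 (el S.f₂ n τ) := fun w hw =>
    rad_eq O hR P ha hb hbig (inRad_conj_line hi hL (P.el_inRad hf hw))
      (mul_mem (mul_mem hh (O.elB (by omega) P.ne P.nn hw)) (inv_mem hh))
  choose τ hτn hτn' hτe using hτ
  have hker : ∀ z, S.pi n z = 0 → S.pi n (act h z) = 0 := fun z hz => S.eq₁ fun x => by
    obtain ⟨x, rfl⟩ : ∃ y, act L y = x := ⟨_, act_act_inv L x⟩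
    rw [pi_line hi hL, hz, map_zero, map_zero]
  have hkey : ∀ w (hw : S.f₂ n w = 0) z, S.pi n z = 0 →
      S.pi (τ w hw) (act h z) = act L (S.pi w z) := by
    intro w hw z hz
    have e : act h (act (kr 1 (el S.f₂ n w)) z) = act (kr 1 (el S.f₂ n (τ w hw))) (act h z) := by
      rw [← hτe w hw, act_mul, act_mul, act_inv_act]
    rw [kr_el_ker P hw hz, kr_el_ker P (hτn w hw) (hker z hz), map_sub, hL, sub_right_inj] at e
    have := congrArg (S.pi n') e
    rwa [S.pi_emb, S.pi_emb, P.n'n, one_smul, one_smul, eq_comm] at this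
  -- the map of the second factor
  obtain ⟨x₀, hx₀⟩ := S.h₁.exists_aniso (show 1 ≤ a by omega)
  have hLx₀ : act L x₀ ≠ 0 := fun h0 => hx₀ (by
    rw [show x₀ = 0 from act_injective L (by rw [h0, map_zero]), map_zero])
  obtain ⟨y₀, hy₀⟩ : ∃ y, S.f₁ y (act L x₀) ≠ 0 := by
    by_contra hc
    push Not at hc
    exact hLx₀ (S.eq₁ fun y => by rw [hc, map_zero])
  let φ : (Fin a → F) →ₗ[F] F := (S.f₁ y₀ (act L x₀))⁻¹ • S.f₁ y₀
  have hφ : φ (act L x₀) = 1 := inv_mul_cancel₀ hy₀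
  let colL : V F a b →ₗ[F] (Fin b → F) := LinearMap.pi fun j => φ ∘ₗ col j
  have hcol : ∀ d z, S.f₂ d (colL z) = φ (S.pi d z) := fun d z => by
    conv_lhs => rw [pi_eq_sum_univ' (colL z)]
    conv_rhs => rw [eq_sum_emb z]
    simp [colL, map_sum, S.pi_emb, mul_comm]
  let M : (Fin b → F) →ₗ[F] (Fin b → F) := Pj ∘ₗ colL ∘ₗ act h ∘ₗ embR x₀
  have hM : ∀ t d, S.f₂ n d = 0 → S.f₂ n' d = 0 → S.f₂ d (M t) = φ (S.pi d (act h (emb t x₀))) := by
    intro t d h1 h3
    rw [← hcol]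
    show S.f₂ d (Pj _) = S.f₂ d _
    simp [Pj, S.comm₂ n d, S.comm₂ n' d, h1, h3]
    rfl
  have hMp : ∀ t, S.f₂ n (M t) = 0 ∧ S.f₂ n' (M t) = 0 := fun t => hPj _
  have hτM : ∀ s (hs : S.f₂ n s = 0) t, S.f₂ n t = 0 → S.f₂ (τ s hs) (M t) = S.f₂ s t := by
    intro s hs t ht
    rw [hM t _ (hτn s hs) (hτn' s hs), hkey s hs _ (by rw [S.pi_emb, ht, zero_smul]), S.pi_emb,
      map_smul, map_smul, hφ, smul_eq_mul, mul_one]
  have hsurj : ∀ d, S.f₂ n d = 0 → S.f₂ n' d = 0 → ∃ s, ∃ hs : S.f₂ n s = 0,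
      S.f₂ n' s = 0 ∧ τ s hs = d := by
    let τ' : {w // S.f₂ n w = 0 ∧ S.f₂ n' w = 0} → {w // S.f₂ n w = 0 ∧ S.f₂ n' w = 0} :=
      fun w => ⟨τ w.1 w.2.1, hτn _ _, hτn' _ _⟩
    have hinj : Function.Injective τ' := fun w w' e => by
      have e1 : τ w.1 w.2.1 = τ w'.1 w'.2.1 := congrArg Subtype.val e
      refine Subtype.ext (sub_eq_zero.1 (S.eq₂ fun d => ?_))
      rw [map_zero, map_sub, sub_eq_zero]
      obtain ⟨h1, h3⟩ := hPj d
      have a1 := hτM _ w.2.1 (Pj d) h1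
      rw [e1, hτM _ w'.2.1 (Pj d) h1] at a1
      simp only [Pj, LinearMap.sub_apply, LinearMap.id_apply, LinearMap.smulRight_apply, map_sub,
        map_smul, S.comm₂ n w.1, S.comm₂ n w'.1, S.comm₂ n' w.1, S.comm₂ n' w'.1, w.2.1, w.2.2,
        w'.2.1, w'.2.2, smul_zero, sub_zero] at a1
      rw [S.comm₂ w.1, S.comm₂ w'.1] at *
      exact a1.symm
    intro d h1 h3
    obtain ⟨s, hs⟩ := Finite.surjective_of_injective hinj ⟨d, h1, h3⟩
    exact ⟨s.1, s.2.1, s.2.2, congrArg Subtype.val hs⟩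
  have hblock : ∀ t, S.f₂ n t = 0 → S.f₂ n' t = 0 → ∀ x, ∃ y,
      act h (emb t x) = emb (M t) (act L x) + emb n y := by
    intro t ht ht' x
    refine ⟨S.pi n' (act h (emb t x)), S.eq_of_pi fun d => ?_⟩
    have h0 := hker (emb t x) (by rw [S.pi_emb, ht, zero_smul])
    obtain ⟨h1, h3⟩ := hPj d
    obtain ⟨s, hs, -, es⟩ := hsurj _ h1 h3
    have a1 : S.pi (Pj d) (act h (emb t x)) = S.f₂ (Pj d) (M t) • act L x := by
      rw [← es, hτM s hs t ht, hkey s hs _ (by rw [S.pi_emb, ht, zero_smul]), S.pi_emb, map_smul]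
    have a3 : S.f₂ (Pj d) (M t) = S.f₂ d (M t) := by
      simp [Pj, (hMp t).1, (hMp t).2]
    rw [a3] at a1
    simp only [Pj, LinearMap.sub_apply, LinearMap.id_apply, LinearMap.smulRight_apply, S.pi_sub,
      S.pi_smul, h0, smul_zero, sub_zero] at a1
    rw [map_add, S.pi_emb, S.pi_emb, S.comm₂ n d]
    linear_combination (norm := module) a1
  have hom : ∀ t s, S.f₂ n t = 0 → S.f₂ n' t = 0 → S.f₂ n s = 0 → S.f₂ n' s = 0 → ∀ x y,
      S.f₁ (act L x) (act L y) * S.f₂ (M t) (M s) = S.f₁ x y * S.f₂ t s := by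
    intro t s ht ht' hs hs' x y
    obtain ⟨y1, e1⟩ := hblock t ht ht' x
    obtain ⟨y2, e2⟩ := hblock s hs hs' y
    have := S.om_act hi (emb t x) (emb s y)
    rw [e1, e2, S.om_emb_emb t s] at this
    simpa [S.om_add_left, S.om_add_right, S.om_emb_emb, (hMp t).1, (hMp s).1, S.comm₂ n (M t),
      P.nn] using this
  obtain ⟨t₀, ht₀, ht₀', htt₀⟩ := hf.exists_aniso_pair (by omega) P.nn P.n'n' P.nn'
  have hne := hom t₀ t₀ ht₀ ht₀' ht₀ ht₀' x₀ x₀
  set A₀ := S.f₁ (act L x₀) (act L x₀) with hA₀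
  set B₀ := S.f₂ (M t₀) (M t₀) with hB₀
  have hA₀0 : A₀ ≠ 0 := left_ne_zero_of_mul (hne ▸ mul_ne_zero hx₀ htt₀)
  have hB₀0 : B₀ ≠ 0 := right_ne_zero_of_mul (hne ▸ mul_ne_zero hx₀ htt₀)
  set ν := S.f₁ x₀ x₀ / A₀ with hνdef
  have hν : ν ≠ 0 := div_ne_zero hx₀ hA₀0
  have hMν : ∀ t s, S.f₂ n t = 0 → S.f₂ n' t = 0 → S.f₂ n s = 0 → S.f₂ n' s = 0 →
      S.f₂ (M t) (M s) = ν * S.f₂ t s := fun t s h1 h3 h4 h5 => by
    have := hom t s h1 h3 h4 h5 x₀ x₀
    rw [hνdef]
    field_simp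
    linear_combination this
  have hLμ : ∀ x y, S.f₁ (act L x) (act L y) = ν⁻¹ * S.f₁ x y := fun x y => by
    have := hom t₀ t₀ ht₀ ht₀' ht₀ ht₀' x y
    rw [hMν t₀ t₀ ht₀ ht₀' ht₀ ht₀'] at this
    field_simp
    exact mul_right_cancel₀ htt₀ (by linear_combination this)
  let kM : (Fin b → F) →ₗ[F] (Fin b → F) :=
    M ∘ₗ Pj + (S.f₂ n').smulRight n + (S.f₂ n).smulRight (ν • n')
  have hkM : ∀ v w, S.f₂ (kM v) (kM w) = ν * S.f₂ v w := fun v w => by
    obtain ⟨a1, a2⟩ := hPj v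
    obtain ⟨a3, a4⟩ := hPj w
    obtain ⟨b1, b2⟩ := hMp (Pj v)
    obtain ⟨b3, b4⟩ := hMp (Pj w)
    have e := hMν _ _ a1 a2 a3 a4
    have e' : S.f₂ (Pj v) (Pj w) =
        S.f₂ v w - S.f₂ n' w * S.f₂ n v - S.f₂ n w * S.f₂ n' v := by
      simp [Pj, P.nn, P.n'n', P.nn', P.n'n, S.comm₂ n v, S.comm₂ n' v]
    simp only [kM, LinearMap.add_apply, LinearMap.comp_apply, LinearMap.smulRight_apply, map_add,
      map_smul, LinearMap.smul_apply, smul_eq_mul, e, e', b1, b2, b3, b4, S.comm₂ n (M (Pj v)),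
      S.comm₂ n' (M (Pj v)), P.nn, P.n'n', P.nn', P.n'n]
    ring
  obtain ⟨k, hk⟩ := exists_gl kM fun v w e => S.eq₂ fun d => by
    have := congrArg (fun z => S.f₂ (kM d) z) e
    simp only [hkM] at this
    exact mul_left_cancel₀ hν this
  have hkν : ∀ v w, S.f₂ (act k v) (act k w) = ν * S.f₂ v w := fun v w => by rw [hk, hk, hkM]
  have hPn : Pj n = 0 := by simp [Pj, P.nn, P.n'n]
  have hkn : act k n = n := by
    rw [hk]; simp [kM, hPn, P.nn, P.n'n]
  have hkt : ∀ t, S.f₂ n t = 0 → S.f₂ n' t = 0 → act k t = M t := fun t h1 h3 => by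
    rw [hk]; simp [kM, h1, h3, hPjt t h1 h3]
  have hki : ∀ v w, S.f₂ v (act k⁻¹ w) = ν⁻¹ * S.f₂ (act k v) w := fun v w => by
    conv_rhs => rw [← act_act_inv k w, hkν]
    field_simp
  set q := kr L k with hq
  have hqL : ∀ x, act q (emb n x) = emb n (act L x) := fun x => by rw [hq, act_kr, hkn]
  have hqi : q ∈ MaxSub.isom S.om := S.mem_isom_of_emb fun v x w y => by
    rw [hq, act_kr, act_kr, S.om_emb_emb, hLμ, hkν]
    field_simp
  set h₁ := q⁻¹ * h with hh₁
  have hh : h = q * h₁ := by rw [hh₁, mul_inv_cancel_left]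
  have hfix : ∀ x, act h₁ (emb n x) = emb n x := fun x => by
    rw [hh₁, act_mul, hL, ← hqL, act_inv_act]
  have hu₁ : InRad S n h₁ := by
    refine ⟨mul_mem (inv_mem hqi) hi, hfix, fun z hz => ?_⟩
    let D : V F a b →ₗ[F] V F a b := act h₁ - LinearMap.id
    let Q : V F a b →ₗ[F] V F a b := LinearMap.id - emb n' ∘ₗ S.pi n
    have hD : ∀ v x, (D ∘ₗ Q) (emb v x) = (emb n ∘ₗ S.pi n' ∘ₗ D ∘ₗ Q) (emb v x) := by
      intro v x
      obtain ⟨a1, a2⟩ := hPj v
      have eQ : Q (emb v x) = emb (Pj v) x + S.f₂ n' v • emb n x := by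
        simp [Q, Pj, S.pi_emb, emb_sub_left, emb_smul_left]
        abel
      obtain ⟨y, hy⟩ := hblock _ a1 a2 x
      have eD : D (emb (Pj v) x) = emb n (act L⁻¹ y) := by
        show act h₁ _ - _ = _
        rw [hh₁, act_mul, hy, map_add, ← hkt _ a1 a2, ← act_kr, ← hq, act_inv_act,
          show emb n y = act q (emb n (act L⁻¹ y)) by rw [hqL, act_act_inv], act_inv_act]
        simp
      have eD' : D (emb n x) = 0 := by simp [D, hfix]
      simp only [LinearMap.comp_apply, eQ, map_add, map_smul, eD, eD', smul_zero, add_zero,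
        S.pi_emb, P.n'n, one_smul]
    have := ext_emb hD z
    simp only [LinearMap.comp_apply, show Q z = z by simp [Q, hz]] at this
    exact ⟨S.pi n' (D z), by rw [← this]; simp [D]⟩
  -- `h₁` commutes with the translations
  have hconjk : ∀ w, S.f₂ n w = 0 → q * kr 1 (el S.f₂ n w) * q⁻¹ =
      kr 1 (el S.f₂ n (ν⁻¹ • act k w)) := fun w hw => by
    rw [hq, kr_inv, kr_mul, kr_mul, mul_one, mul_inv_cancel, el_conj_sim hf P.nn hw hν hkν, hkn]
  have hcomm : ∀ w, S.f₂ n w = 0 → S.f₂ n' w = 0 →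
      h₁ * kr 1 (el S.f₂ n w) = kr 1 (el S.f₂ n w) * h₁ := by
    intro w hw hw'
    have e : τ w hw = ν⁻¹ • act k w := by
      refine sub_eq_zero.1 (S.h₂.nd _ fun e => ?_)
      obtain ⟨d, rfl⟩ : ∃ d, act k d = e := ⟨_, act_act_inv k e⟩
      rw [map_sub, LinearMap.sub_apply, map_smul, LinearMap.smul_apply, smul_eq_mul, hkν, hk]
      simp only [kM, LinearMap.add_apply, LinearMap.comp_apply, LinearMap.smulRight_apply, map_add,
        map_smul, S.comm₂ n (τ w hw), S.comm₂ n' (τ w hw), hτn, hτn', smul_zero, add_zero,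
        hτM w hw _ (hPj d).1]
      rw [← mul_assoc, inv_mul_cancel₀ hν, one_mul, sub_eq_zero]
      simp [Pj, S.comm₂ n w, S.comm₂ n' w, hw, hw']
    have e1 := hτe w hw
    rw [e, ← hconjk w hw, hh] at e1
    have e2 : q * (h₁ * kr 1 (el S.f₂ n w) * h₁⁻¹) * q⁻¹ = q * kr 1 (el S.f₂ n w) * q⁻¹ := by
      rw [← e1]; group
    exact mul_inv_eq_iff_eq_mul.1 (mul_left_cancel (mul_right_cancel e2))
  -- conjugation by the Siegel elements of the first factor
  have hA : ∀ e r, S.f₁ e e = 0 → e ≠ 0 → S.f₁ e r = 0 →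
      q * (h₁ * kr (el S.f₁ e r) 1 * h₁⁻¹ * (kr (el S.f₁ e r) 1)⁻¹) * q⁻¹ ∈ H := by
    intro e r hee he her
    have hg : q * (kr (el S.f₁ e r) 1)⁻¹ * q⁻¹ = kr (el S.f₁ (act L e) (ν • act L (-r))) 1 := by
      rw [hq, kr_inv, kr_inv, kr_mul, kr_mul, inv_one, mul_one, mul_inv_cancel, el_inv S.h₁ hee her,
        el_conj_sim S.h₁ hee (by rw [map_neg, her, neg_zero]) (inv_ne_zero hν) hLμ, inv_inv]
    have e2 : q * (h₁ * kr (el S.f₁ e r) 1 * h₁⁻¹ * (kr (el S.f₁ e r) 1)⁻¹) * q⁻¹ =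
        h * kr (el S.f₁ e r) 1 * h⁻¹ * (q * (kr (el S.f₁ e r) 1)⁻¹ * q⁻¹) := by rw [hh]; group
    rw [e2, hg]
    refine mul_mem (mul_mem (mul_mem ‹h ∈ H› (O.elA ha he hee her)) (inv_mem ‹h ∈ H›))
      (O.elA ha ?_ (by rw [hLμ, hee, mul_zero]) (by rw [map_smul, hLμ, map_neg, her]; simp))
    exact fun h0 => he (act_injective L (by rw [h0, map_zero]))
  -- the blocks are scalar
  have hconjA : ∀ g : GL (Fin a) F, (∀ x y, S.f₁ (act g x) (act g y) = S.f₁ x y) →
      ∀ u, InRad S n u → InRad S n (kr g 1 * u * (kr g 1)⁻¹) ∧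
        ∀ t x, blockT S n' (kr g 1 * u * (kr g 1)⁻¹) t x =
          act g (blockT S n' u t (act g⁻¹ x)) := by
    intro g hg u hu
    refine ⟨inRad_conj_line (L := g) (S.kr_mem_isom hg fun v w => by rw [act_one, act_one])
      (fun x => by rw [act_kr, act_one]) hu, fun t x => ?_⟩
    show S.pi t _ = act g (S.pi t _)
    have := S.pi_kr g (k := (1 : GL (Fin b) F)) (fun v w => by rw [act_one, act_one]) t
      (dmap n' u (act g⁻¹ x))
    rw [inv_one, act_one] at this
    rw [← this, dmap_apply, dmap_apply, map_sub (act (kr g 1)), act_mul, act_mul, act_kr, kr_inv,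
      act_kr, inv_one, act_one, act_act_inv]
  have hscal : ∀ t, S.f₂ n t = 0 → S.f₂ n' t = 0 → ∃ l : F, ∀ x, blockT S n' h₁ t x = l • x := by
    intro t ht ht'
    have hsy : ∀ x y, S.f₁ y (blockT S n' h₁ t x) = S.f₁ x (blockT S n' h₁ t y) := by
      intro x y
      have h := InRad.sym_of_comm (n' := n') P hu₁ (P.el_inRad hf ht) (hcomm t ht ht') x y
      simp only [el_apply_n' P ht ht', S.om_sub_left, S.om_sub_right, S.om_smul_left, S.om_smul_right,
        S.om_emb, S.om_emb_right, hu₁.pi_dmap, map_zero, mul_zero, sub_zero] at h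
      exact h
    refine scalar_of_singular S.h₁ ha hbig hsy fun e hee => ?_
    by_cases he : e = 0
    · rw [he]; simp
    obtain ⟨e', he'e', hee'⟩ := exists_partner h2 S.h₁.symm S.h₁.nd he hee
    obtain ⟨r, her, he'r, hrr⟩ := S.h₁.exists_aniso_pair ha hee he'e' hee'
    set T := blockT S n' h₁ t
    have hl : ∀ r, S.f₁ e r = 0 → ∃ l : F, ∀ x,
        T x - act (el S.f₁ e r) (T (act (el S.f₁ e r)⁻¹ x)) = l • x := by
      intro r her
      have hg := el_form S.h₁ hee her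
      obtain ⟨hr1, hr3⟩ := hconjA _ hg _ hu₁.inv
      have hc := InRad.mul P hu₁ hr1
      have ec : h₁ * (kr (el S.f₁ e r) 1 * h₁⁻¹ * (kr (el S.f₁ e r) 1)⁻¹) =
          h₁ * kr (el S.f₁ e r) 1 * h₁⁻¹ * (kr (el S.f₁ e r) 1)⁻¹ := by group
      have hcH := hA e r hee he her
      rw [← ec] at hcH
      obtain ⟨τ', h1, h3, h4⟩ := rad_eq O hR P ha hb hbig (inRad_conj_line hqi hqL hc) hcH
      set σ := ν • act k⁻¹ τ' with hσ
      have hσn : S.f₂ n σ = 0 := by rw [hσ, map_smul, hki, hkn, h1]; simp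
      have hσn' : S.f₂ n' σ = 0 := by
        rw [hσ, map_smul, hki, hk]
        simp [kM, Pj, P.n'n', P.nn', h3]
      have e5 : h₁ * (kr (el S.f₁ e r) 1 * h₁⁻¹ * (kr (el S.f₁ e r) 1)⁻¹) =
          kr 1 (el S.f₂ n σ) := by
        refine mul_left_cancel (a := q) (mul_right_cancel (b := q⁻¹) ?_)
        rw [h4, hconjk σ hσn, hσ, map_smul, act_act_inv, smul_smul, inv_mul_cancel₀ hν, one_smul]
      refine ⟨S.f₂ t σ, fun x => ?_⟩
      have := blockT_el P hσn hσn' ht x
      rw [← e5, InRad.blockT_mul P hu₁ hr1 ht, LinearMap.add_apply, hr3,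
        InRad.blockT_inv P hu₁ ht, LinearMap.neg_apply, map_neg] at this
      rw [← this, sub_eq_add_neg]
    obtain ⟨l₁, h₁'⟩ := hl r her
    obtain ⟨l₂, h₂'⟩ := hl (r + r) (by rw [map_add, her, add_zero])
    have hval : ∀ r, S.f₁ e r = 0 → S.f₁ e' r = 0 → ∀ l : F,
        (∀ x, T x - act (el S.f₁ e r) (T (act (el S.f₁ e r)⁻¹ x)) = l • x) →
        l = S.f₁ e (T r) + S.f₁ r r / 2 * S.f₁ e (T e) := by
      intro r her he'r l hl
      have he0 : act (el S.f₁ e r) e = e := by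
        rw [el_apply S.h₁ hee her, hee, show S.f₁ r e = 0 by rw [S.comm₁, her]]
        simp
      have := congrArg (S.f₁ e) (hl e')
      rw [map_sub, map_smul, hee', smul_eq_mul, mul_one] at this
      have e6 := el_form S.h₁ hee her e (T (act (el S.f₁ e r)⁻¹ e'))
      rw [he0] at e6
      rw [e6, el_inv S.h₁ hee her, el_apply S.h₁ hee (by rw [map_neg, her, neg_zero])] at this
      simp only [map_neg, LinearMap.neg_apply, neg_neg, hee', one_smul, map_add, map_sub, map_smul,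
        smul_eq_mul, mul_one, S.comm₁ e' r, he'r, neg_zero, zero_smul, zero_mul, sub_zero] at this
      linear_combination -this
    have hdbl : l₂ = l₁ + l₁ := by
      have hz : ∀ x, T x - act (el S.f₁ e (r + r)) (T (act (el S.f₁ e (r + r))⁻¹ x)) =
          (l₁ + l₁) • x := fun x => by
        rw [← el_mul S.h₁ hee her her, _root_.mul_inv_rev, act_mul, act_mul]
        have a1 := h₁' x
        have a2 := congrArg (act (el S.f₁ e r)) (h₁' (act (el S.f₁ e r)⁻¹ x))
        rw [map_sub, map_smul, act_act_inv] at a2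
        linear_combination (norm := module) a1 + a2
      have := congrArg (S.f₁ e') ((h₂' e).symm.trans (hz e))
      rwa [map_smul, map_smul, show S.f₁ e' e = 1 by rw [S.comm₁, hee'], smul_eq_mul, smul_eq_mul,
        mul_one, mul_one] at this
    have v₁ := hval r her he'r l₁ h₁'
    have v₂ := hval (r + r) (by rw [map_add, her, add_zero]) (by rw [map_add, he'r, add_zero]) l₂ h₂'
    rw [hdbl, v₁] at v₂
    simp only [map_add, LinearMap.add_apply] at v₂
    have hz : S.f₁ r r * S.f₁ e (T e) = 0 := by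
      field_simp at v₂
      refine mul_left_cancel₀ h2 ?_
      linear_combination -v₂
    exact (mul_eq_zero.1 hz).resolve_left hrr
  obtain ⟨σ, hσn, hσn', hσ0⟩ := exists_translation O hR P ha hb hbig hu₁ hscal
  have hu₂ := InRad.mul P hu₁ (P.el_inRad hf hσn).inv
  obtain ⟨ψ, hψ, hψu⟩ := InRad.central_of_block P hu₂ hσ0
  set h₂ := h₁ * (kr (1 : GL (Fin a) F) (el S.f₂ n σ))⁻¹ with hh₂
  have hψ0 : ∀ x, ψ x = 0 := by
    refine eq_zero_of_skew_comm S.h₁ ha hψ fun e r hee he her w => ?_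
    set g := el S.f₁ e r
    have hg := el_form S.h₁ hee her
    have ecomm : kr g (1 : GL (Fin b) F) * kr 1 (el S.f₂ n σ) = kr 1 (el S.f₂ n σ) * kr g 1 := by
      rw [kr_mul, kr_mul, one_mul, mul_one, one_mul, mul_one]
    have e7 : h₁ * kr g 1 * h₁⁻¹ = h₂ * kr g 1 * h₂⁻¹ := by
      rw [hh₂]
      calc h₁ * kr g 1 * h₁⁻¹ = h₁ * (kr 1 (el S.f₂ n σ))⁻¹ *
            (kr 1 (el S.f₂ n σ) * kr g 1) * h₁⁻¹ := by group
        _ = h₁ * (kr 1 (el S.f₂ n σ))⁻¹ * (kr g 1 * kr 1 (el S.f₂ n σ)) * h₁⁻¹ := by rw [ecomm]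
        _ = _ := by group
    have hcH := hA e r hee he her
    rw [e7] at hcH
    let φ : (Fin a → F) →ₗ[F] (Fin a → F) := ψ - act g ∘ₗ ψ ∘ₗ act g⁻¹
    have hinv : ∀ z, act h₂⁻¹ z = z - emb n (ψ (S.pi n z)) := fun z => act_injective h₂ (by
      rw [act_act_inv, hψu, map_sub, S.pi_emb, P.nn, zero_smul, sub_zero]
      abel)
    have hpg : ∀ (g : GL (Fin a) F) z, S.pi n (act (kr g 1) z) = act g (S.pi n z) := fun g z => by
      rw [S.pi_kr g (fun v w => by rw [act_one, act_one]), inv_one, act_one]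
    have hcen : ∀ z, act (h₂ * kr g 1 * h₂⁻¹ * (kr g 1)⁻¹) z = z + emb n (φ (S.pi n z)) := by
      intro z
      rw [act_mul, act_mul, act_mul, hinv, map_sub, act_kr, act_one, act_act_inv, hψu,
        map_sub, S.pi_emb, P.nn, zero_smul, sub_zero, kr_inv, inv_one, hpg]
      simp [φ]
      abel
    have hcq : ∀ z, act (q * (h₂ * kr g 1 * h₂⁻¹ * (kr g 1)⁻¹) * q⁻¹) z =
        z + emb n (((ν⁻¹ : F) • (act L ∘ₗ φ ∘ₗ act L⁻¹)) (S.pi n z)) := by
      intro z
      obtain ⟨z, rfl⟩ : ∃ y, act q y = z := ⟨_, act_act_inv q z⟩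
      rw [act_mul, act_mul, act_inv_act, hcen, map_add, hqL]
      congr 2
      have e8 : S.pi n (act q z) = ν • act L (S.pi n z) := S.eq₁ fun x => by
        obtain ⟨x, rfl⟩ : ∃ y, act L y = x := ⟨_, act_act_inv L x⟩
        rw [pi_line hqi hqL, map_smul, hLμ, smul_eq_mul, ← mul_assoc, mul_inv_cancel₀ hν, one_mul]
      simp only [LinearMap.smul_apply, LinearMap.comp_apply, e8, map_smul, act_inv_act, smul_smul,
        inv_mul_cancel₀ hν, mul_inv_cancel₀ hν, one_smul]
    have hφ0 : φ = 0 := by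
      by_contra hne
      refine hR ⟨n, _, P.ne, P.nn, fun h0 => hne (LinearMap.ext fun x => ?_), _, hcH, hcq⟩
      have := LinearMap.congr_fun h0 (act L x)
      simp only [LinearMap.smul_apply, LinearMap.comp_apply, act_inv_act, LinearMap.zero_apply,
        smul_eq_zero, inv_eq_zero, hν, false_or] at this
      exact act_injective L (by rw [this, LinearMap.zero_apply, map_zero])
    have := LinearMap.congr_fun hφ0 (act g w)
    simp only [φ, LinearMap.sub_apply, LinearMap.comp_apply, act_inv_act, LinearMap.zero_apply,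
      sub_eq_zero] at this
    exact this
  have hh₂1 : h₂ = 1 := gl_ext fun z => by
    show act h₂ z = act 1 z
    rw [hψu, hψ0, map_zero, add_zero, act_one]
  rw [hh, show h₁ = kr 1 (el S.f₂ n σ) from mul_inv_eq_one.1 hh₂1, hq, kr_mul]
  exact kr_mem _ _

/-- An element sending a singular line to a line is in the tensor stabiliser. -/
theorem lineK (hS : Std S H) : LineK S H := by
  intro h hh n m hn0 hn hy
  have O := hS.ov
  have hm0 : m ≠ 0 := by
    rintro rfl
    obtain ⟨x, hx⟩ := S.h₁.exists_aniso (show 1 ≤ a by have := hS.ha; omega)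
    obtain ⟨y, hy⟩ := hy x
    obtain ⟨d, hd⟩ : ∃ d, S.f₂ d n ≠ 0 := by
      by_contra hc
      push Not at hc
      exact hn0 (S.eq₂ fun d => by rw [hc, map_zero])
    rw [emb_zero_left, ← map_zero (act h)] at hy
    have := congrArg (S.pi d) (act_injective h hy)
    rw [S.pi_emb, map_zero, smul_eq_zero] at this
    exact hx (by rw [this.resolve_left hd, map_zero])
  obtain ⟨c, hc⟩ : ∃ c, S.f₂ c m = 1 := by
    obtain ⟨d, hd, -⟩ := exists_both S.h₂.nd hm0 hm0
    exact ⟨(S.f₂ m d)⁻¹ • d, by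
      rw [map_smul, LinearMap.smul_apply, S.comm₂ m d, smul_eq_mul, inv_mul_cancel₀ hd]⟩
  let L₀ : (Fin a → F) →ₗ[F] (Fin a → F) := S.pi c ∘ₗ act h ∘ₗ emb n
  have hL₀ : ∀ x, act h (emb n x) = emb m (L₀ x) := fun x => by
    obtain ⟨y, hy⟩ := hy x
    simp [L₀, hy, S.pi_emb, hc]
  obtain ⟨d, hd⟩ : ∃ d, S.f₂ d n ≠ 0 := by
    by_contra hc
    push Not at hc
    exact hn0 (S.eq₂ fun d => by rw [hc, map_zero])
  obtain ⟨L, hL⟩ := exists_gl L₀ fun x y e => by
    have := congrArg (S.pi d) (act_injective h (show act h (emb n x) = act h (emb n y) by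
      rw [hL₀, hL₀, e]))
    rw [S.pi_emb, S.pi_emb] at this
    exact smul_right_injective _ hd this
  have hmm : S.f₂ m m = 0 := by
    obtain ⟨x, hx⟩ := S.h₁.exists_aniso (show 1 ≤ a by have := hS.ha; omega)
    obtain ⟨x, rfl⟩ : ∃ y, act L y = x := ⟨_, act_act_inv L x⟩
    have := S.om_act (O.isom hh) (emb n x) (emb n x)
    rw [hL₀, ← hL, S.om_emb_emb, S.om_emb_emb, hn, mul_zero, mul_eq_zero] at this
    exact this.resolve_left hx
  obtain ⟨g, hgH, -, hgm⟩ := exists_move O hS.hb hn0 hm0 hn hmm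
  obtain ⟨n', hn'n', hnn'⟩ := exists_partner S.two S.h₂.symm S.h₂.nd hn0 hn
  have hP : Hyp S n n' := ⟨hn, hn'n', hnn'⟩
  have := mem_of_line_self hS hP (mul_mem hgH hh) (L := L) fun x => by
    rw [act_mul, hL₀, ← hL, act_kr, act_one, hgm]
  exact (Subgroup.mul_mem_cancel_left _ (kr_mem 1 g)).mp this

/-- An element fixing a singular line pointwise is in the tensor stabiliser. -/
theorem mem_of_fix_singular (hS : Std S H) {g : GL (Fin a × Fin b) F} (hg : g ∈ H) {v : Fin b → F}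
    (hv0 : v ≠ 0) (hv : S.f₂ v v = 0) (hfix : ∀ x, act g (emb v x) = emb v x) :
    g ∈ Cfsg.Geo.kroneckerSubgroup a b F :=
  lineK hS g hg v v hv0 hv fun x => ⟨x, hfix x⟩

end Cfsg.Agent.TensorOO
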