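import Cfsg.Agent.TensorOO.Defs
import Cfsg.Agent.TensorOO.Line
import Cfsg.Agent.TensorOO.Dihedral

/-!
Eigenbases of involutions of the second factor and centralisers with large eigenspaces (helper19).
-/

set_option autoImplicit false
set_option linter.unusedSectionVars false
set_option linter.unusedSimpArgs false

namespace Cfsg.Agent.TensorOO

open Matrix hiding col
open Cfsg.Agent.MaxSub Cfsg.Agent.TensorMax Cfsg.Agent.TensorInv Module

variable {F : Type*} [Field F] {a b m k : ℕ}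

/-- An orthogonal eigenbasis. -/
structure Frame (f : (Fin m → F) →ₗ[F] (Fin m → F) →ₗ[F] F) (t : GL (Fin m) F)
    (e : Fin m → Fin m → F) (s : Fin m → F) : Prop where
  fam : Fam f e
  eig : ∀ i, act t (e i) = s i • e i
  sgn : ∀ i, s i * s i = 1

theorem sgn_eq {x y : F} (hx : x * x = 1) (hy : y * y = 1) (h : x ≠ y) : x = -y := by
  have : (x - y) * (x + y) = 0 := by linear_combination hx - hy
  exact eq_neg_of_add_eq_zero_left ((mul_eq_zero.1 this).resolve_left (sub_ne_zero.2 h))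

theorem sgn_two {x y z : F} (hx : x * x = 1) (hy : y * y = 1) (hz : z * z = 1) (h : x ≠ y) :
    z = x ∨ z = y := by
  by_contra hc
  push Not at hc
  exact h ((sgn_eq hx hz (Ne.symm hc.1)).trans (sgn_eq hy hz (Ne.symm hc.2)).symm)

section

variable {f : (Fin m → F) →ₗ[F] (Fin m → F) →ₗ[F] F} (hf : Sym f)
include hf

theorem Invo.act_act {t : GL (Fin m) F} (ht : Invo f t) (x : Fin m → F) : act t (act t x) = x := by
  rw [← act_mul, ht.sq, act_one]

theorem Invo.adj {t : GL (Fin m) F} (ht : Invo f t) (x y : Fin m → F) :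
    f x (act t y) = f (act t x) y := by
  conv_rhs => rw [← ht.act_act hf y, ht.isom]

theorem Invo.exists_frame {t : GL (Fin m) F} (ht : Invo f t) {w : Fin k → Fin m → F} (hw : Fam f w)
    (hk : k ≤ m) (hσ : ∀ i, ∃ σ : F, act t (w i) = σ • w i) :
    ∃ e s, Frame f t e s ∧ ∃ ι : Fin k → Fin m, Function.Injective ι ∧ ∀ i, e (ι i) = w i := by
  choose σ hσ using hσ
  have hσ' : ∀ i, σ i * σ i = 1 := fun i => by
    have := ht.isom (w i) (w i)
    rw [hσ, map_smul, map_smul, LinearMap.smul_apply, smul_eq_mul, smul_eq_mul, ← mul_assoc] at this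
    exact mul_right_cancel₀ (hw.aniso i) (by linear_combination this)
  obtain ⟨e, s, ι, he, hs, hs', hι, -, hinj⟩ :=
    hf.exists_eigen_basis hw hk (act t) ht.isom (fun x => ht.act_act hf x) σ hσ hσ'
  exact ⟨e, s, ⟨he, hs, hs'⟩, ι, hinj, hι⟩

theorem Frame.eigen {t : GL (Fin m) F} (ht : Invo f t) {e : Fin m → Fin m → F} {s : Fin m → F}
    (hE : Frame f t e s) {σ : F} {v : Fin m → F} (hv : ∀ l, s l ≠ σ → f (e l) v = 0) :
    act t v = σ • v := by
  refine sub_eq_zero.1 (hf.eq_zero_of_basis hE.fam fun l => ?_)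
  rw [map_sub, map_smul, ht.adj hf, hE.eig, map_smul, LinearMap.smul_apply, smul_eq_mul,
    smul_eq_mul, ← sub_mul]
  by_cases hl : s l = σ
  · rw [hl, sub_self, zero_mul]
  · rw [hv l hl, mul_zero]

theorem el_comm [Finite F] {t : GL (Fin m) F} (ht : Invo f t) {σ : F} (hσ : σ * σ = 1)
    {n u : Fin m → F} (hn : f n n = 0) (hu : f n u = 0) (htn : act t n = σ • n)
    (htu : act t u = σ • u) : t * el f n u = el f n u * t := by
  refine mul_inv_eq_iff_eq_mul.1 ?_
  rw [el_conj hf hn hu ht.isom, htn, htu]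
  refine act_ext fun w => ?_
  rw [el_apply hf hn hu, el_apply hf (by simp [hn]) (by simp [hu])]
  simp only [map_smul, LinearMap.smul_apply, smul_eq_mul, smul_smul]
  match_scalars <;> first
    | ring1
    | linear_combination (f n w) * hσ
    | linear_combination -(f u w) * hσ - f u u / 2 * f n w * (σ * σ + 1) * hσ
    | linear_combination (f u w) * hσ + f u u / 2 * f n w * (σ * σ + 1) * hσ

end

variable {S : OForm F a b}

theorem act_x1 (t : GL (Fin b) F) (v : Fin b → F) (x : Fin a → F) :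
    act (kr (1 : GL (Fin a) F) t) (emb v x) = emb (act t v) x := by rw [act_kr, act_one]

theorem pi_x1 {t : GL (Fin b) F} (ht : Invo S.f₂ t) (d : Fin b → F) (z : V F a b) :
    S.pi d (act (kr (1 : GL (Fin a) F) t) z) = S.pi (act t d) z := by
  rw [S.pi_kr _ ht.isom, act_one, inv_eq_of_mul_eq_one_right ht.sq]

variable [Finite F] {H : Subgroup (GL (Fin a × Fin b) F)}

/-- A centralising element conjugates a Siegel element of one eigenspace to one fixing the other
eigenspace pointwise. -/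
theorem fix_conj_side {t : GL (Fin b) F} (ht : Invo S.f₂ t) {σ : F} (hσ : σ * σ = 1)
    {n u : Fin b → F} (hn : S.f₂ n n = 0) (hu : S.f₂ n u = 0) (htn : act t n = σ • n)
    (htu : act t u = σ • u) {g : GL (Fin a × Fin b) F}
    (hg : g * kr 1 t = kr 1 t * g) {v : Fin b → F} (hv : act t v = -σ • v) (x : Fin a → F) :
    act (g * kr 1 (el S.f₂ n u) * g⁻¹) (emb v x) = emb v x := by
  obtain ⟨z, hz⟩ : ∃ z, act g z = emb v x := ⟨_, act_act_inv g _⟩
  have hz' : act (kr (1 : GL (Fin a) F) t) z = -σ • z := by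
    refine act_injective g ?_
    rw [← act_mul, hg, act_mul, hz, act_x1, hv, emb_smul_left, map_smul, hz]
  have hpi : ∀ d, act t d = σ • d → S.pi d z = 0 := by
    intro d hd
    have h1 := congrArg (S.pi d) hz'
    rw [pi_x1 ht, hd, S.pi_smul, map_smul, neg_smul, eq_neg_iff_add_eq_zero, ← two_smul F,
      smul_smul, smul_eq_zero] at h1
    exact h1.resolve_left (mul_ne_zero S.two (left_ne_zero_of_mul (hσ ▸ one_ne_zero)))
  rw [← hz, act_mul, act_mul, act_inv_act]
  congr 1
  have key : act (kr (1 : GL (Fin a) F) (el S.f₂ n u)) z =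
      z + emb u (S.pi n z) - emb n (S.pi u z) - emb n ((S.f₂ u u / 2) • S.pi n z) := by
    refine ext_emb (f := act (kr (1 : GL (Fin a) F) (el S.f₂ n u)))
      (g := LinearMap.id + emb u ∘ₗ S.pi n - emb n ∘ₗ S.pi u -
        emb n ∘ₗ ((S.f₂ u u / 2) • S.pi n)) (fun v x => ?_) z
    simp only [act_kr, act_one, el_apply S.h₂ hn hu, LinearMap.add_apply, LinearMap.sub_apply,
      LinearMap.id_apply, LinearMap.comp_apply, LinearMap.smul_apply, S.pi_emb, emb_add_left,
      emb_sub_left, emb_smul_left, map_smul, smul_smul]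
  rw [key, hpi n htn, hpi u htu]
  simp

/-- Three eigenvectors of one sign give a Siegel element. -/
theorem exists_config {t : GL (Fin b) F} (ht : Invo S.f₂ t) {e : Fin b → Fin b → F} {s : Fin b → F}
    (hE : Frame S.f₂ t e s) {i j l : Fin b} (hij : i ≠ j) (hil : i ≠ l) (hjl : j ≠ l)
    (hj : s j = s i) (hl : s l = s i) :
    ∃ n u, n ≠ 0 ∧ S.f₂ n n = 0 ∧ S.f₂ n u = 0 ∧ S.f₂ u u ≠ 0 ∧ act t n = s i • n ∧
      act t u = s i • u := by
  have hfam := S.h₂.fam_three (hE.fam.aniso i) (hE.fam.aniso j) (hE.fam.aniso l) (hE.fam.orth i j hij)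
    (hE.fam.orth i l hil) (hE.fam.orth j l hjl)
  obtain ⟨u, n, hu, hn0, hn, hun, hperp⟩ := S.h₂.exists_good_three hfam
  have hp : ∀ q, s q ≠ s i → ∀ c, S.f₂ (e q) (![e i, e j, e l] c) = 0 := by
    intro q hq c
    fin_cases c
    · exact hE.fam.orth q i (fun h => hq (by rw [h]))
    · exact hE.fam.orth q j (fun h => hq (by rw [h, hj]))
    · exact hE.fam.orth q l (fun h => hq (by rw [h, hl]))
  exact ⟨n, u, hn0, hn, by rw [S.comm₂]; exact hun, hu,
    hE.eigen S.h₂ ht fun q hq => (hperp _ (hp q hq)).2,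
    hE.eigen S.h₂ ht fun q hq => (hperp _ (hp q hq)).1⟩

variable (hS : Std S H) (hJ : ConjK S H)
include hS hJ

/-- A centraliser is small if a Siegel element and a vector fixing whose line suffices are separated. -/
theorem cent_of_fix {t : GL (Fin b) F} (ht : Invo S.f₂ t) {σ : F} (hσ : σ * σ = 1)
    {n u : Fin b → F} (hn0 : n ≠ 0) (hn : S.f₂ n n = 0) (hu : S.f₂ n u = 0) (huu : S.f₂ u u ≠ 0)
    (htn : act t n = σ • n) (htu : act t u = σ • u)
    (hfix : ∀ y ∈ H, (∀ v, act t v = -σ • v → ∀ x, act y (emb v x) = emb v x) →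
      y ∈ Cfsg.Geo.kroneckerSubgroup a b F) : Cent H (kr 1 t) := by
  intro g hg hgt
  exact hJ g hg n u hn0 hn hu huu (hfix _
    (mul_mem (mul_mem hg (hS.ov.elB (by have := hS.hb; omega) hn0 hn hu)) (inv_mem hg))
    fun v hv x => fix_conj_side ht hσ hn hu htn htu hgt hv x)

/-- Three eigenvectors of a sign and a singular one of the other. -/
theorem cent_sing {t : GL (Fin b) F} (ht : Invo S.f₂ t) {e : Fin b → Fin b → F} {s : Fin b → F}
    (hE : Frame S.f₂ t e s) {i j l : Fin b} (hij : i ≠ j) (hil : i ≠ l) (hjl : j ≠ l)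
    (hj : s j = s i) (hl : s l = s i) {z : Fin b → F} (hz0 : z ≠ 0) (hz : S.f₂ z z = 0)
    (htz : act t z = -s i • z) : Cent H (kr 1 t) := by
  obtain ⟨n, u, hn0, hn, hu, huu, htn, htu⟩ := exists_config ht hE hij hil hjl hj hl
  exact cent_of_fix hS hJ ht (hE.sgn i) hn0 hn hu huu htn htu fun y hy hfix =>
    mem_of_fix_singular hS hy hz0 hz (hfix z htz)

/-- Three eigenvectors of each sign. -/
theorem cent_three {t : GL (Fin b) F} (ht : Invo S.f₂ t) {e : Fin b → Fin b → F} {s : Fin b → F}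
    (hE : Frame S.f₂ t e s) {i j l i' j' l' : Fin b} (hij : i ≠ j) (hil : i ≠ l) (hjl : j ≠ l)
    (hj : s j = s i) (hl : s l = s i) (hij' : i' ≠ j') (hil' : i' ≠ l') (hjl' : j' ≠ l')
    (hj' : s j' = s i') (hl' : s l' = s i') (hne : s i' ≠ s i) : Cent H (kr 1 t) := by
  obtain ⟨z, u, hz0, hz, -, -, htz, -⟩ := exists_config ht hE hij' hil' hjl' hj' hl'
  exact cent_sing hS hJ ht hE hij hil hjl hj hl hz0 hz
    (by rw [htz, sgn_eq (hE.sgn i') (hE.sgn i) hne])

end Cfsg.Agent.TensorOO
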