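import Cfsg.Agent.TensorOO.Counting

/-!
Centralisers of all involutions of the second factor, and the conclusion when the second factor
does not have dimension six (helper19).
-/

set_option autoImplicit false
set_option linter.unusedSectionVars false
set_option linter.unusedSimpArgs false

namespace Cfsg.Agent.TensorOO

open Matrix hiding col
open Cfsg.Agent.MaxSub Cfsg.Agent.TensorMax Cfsg.Agent.TensorInv Module

variable {F : Type*} [Field F] [Finite F] {a b : ℕ} {S : OForm F a b}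
  {H : Subgroup (GL (Fin a × Fin b) F)}

theorem isSquare_mul_of_not {x y : F} (hx : ¬IsSquare x) (hy : ¬IsSquare y) : IsSquare (x * y) := by
  classical
  cases nonempty_fintype F
  have hx0 : x ≠ 0 := fun h => hx (h ▸ IsSquare.zero)
  have hy0 : y ≠ 0 := fun h => hy (h ▸ IsSquare.zero)
  rw [← quadraticChar_one_iff_isSquare (mul_ne_zero hx0 hy0), map_mul,
    quadraticChar_neg_one_iff_not_isSquare.2 hx, quadraticChar_neg_one_iff_not_isSquare.2 hy]
  norm_num

theorem fix_comm_refl {y : GL (Fin a × Fin b) F} (hy : y ∈ MaxSub.isom S.om) {v : Fin b → F}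
    (hv : ∀ x, act y (emb v x) = emb v x) :
    y * kr 1 (refl S.f₂ v) = kr 1 (refl S.f₂ v) * y := by
  have key : ∀ z, act (kr (1 : GL (Fin a) F) (refl S.f₂ v)) z =
      z - (2 / S.f₂ v v) • emb v (S.pi v z) := fun z => by
    refine ext_emb (f := act (kr (1 : GL (Fin a) F) (refl S.f₂ v)))
      (g := LinearMap.id - (2 / S.f₂ v v) • (emb v ∘ₗ S.pi v)) (fun w x => ?_) z
    simp only [LinearMap.sub_apply, LinearMap.id_apply, LinearMap.smul_apply, LinearMap.comp_apply,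
      act_kr, act_one, refl_apply, S.pi_emb, map_smul, emb_sub_left, emb_smul_left, smul_smul]
    rw [div_mul_eq_mul_div]
  refine gl_ext fun z => ?_
  show act (y * _) z = act (_ * y) z
  rw [act_mul, act_mul, key, key, map_sub, map_smul, hv, S.pi_fix hy hv]

/-- Preimages proportional to one vector of two orthogonal vectors. -/
theorem not_two_prop {g : GL (Fin b) F} {ν : F}
    (hg : ∀ v v', S.f₂ (act g v) (act g v') = ν * S.f₂ v v') {u x x' : Fin b → F} {c c' : F}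
    (hx : act g⁻¹ x = c • u) (hx' : act g⁻¹ x' = c' • u) (hxx : S.f₂ x x ≠ 0)
    (hxx' : S.f₂ x' x' ≠ 0) (h : S.f₂ x x' = 0) : False := by
  have e : x = c • act g u := by rw [← map_smul, ← hx, act_act_inv]
  have e' : x' = c' • act g u := by rw [← map_smul, ← hx', act_act_inv]
  rw [e, e'] at h
  rw [e] at hxx
  rw [e'] at hxx'
  simp only [map_smul, LinearMap.smul_apply, smul_eq_mul, hg] at h hxx hxx'
  rcases mul_eq_zero.1 h with h | h
  · exact hxx' (by rw [h, zero_mul])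
  · rcases mul_eq_zero.1 h with h | h
    · exact hxx (by rw [h, zero_mul])
    · exact hxx (by rw [h, mul_zero, mul_zero])

theorem pre_perp {g : GL (Fin b) F} {ν : F} (hν : ν ≠ 0)
    (hg : ∀ v v', S.f₂ (act g v) (act g v') = ν * S.f₂ v v') {v x : Fin b → F}
    (hc : ∃ c : F, act g v = c • v) (hx : S.f₂ v x = 0) : S.f₂ v (act g⁻¹ x) = 0 := by
  obtain ⟨c, hc⟩ := hc
  have := hg v (act g⁻¹ x)
  rw [act_act_inv, hc, map_smul, LinearMap.smul_apply, hx, smul_zero] at this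
  exact (mul_eq_zero.1 this.symm).resolve_left hν

/-- An eigenvector of a conjugate. -/
theorem pre_eig {g t t'' z : GL (Fin b) F} (e : g * t * g⁻¹ = z * t'') {x : Fin b → F} {σ ε : F}
    (ht : act t'' x = σ • x) (hz : act z x = ε • x) :
    act t (act g⁻¹ x) = (σ * ε) • act g⁻¹ x := by
  refine act_injective g ?_
  have := congrArg (fun g => act g x) e
  simp only [act_mul] at this
  rw [this, ht, map_smul, hz, map_smul, act_act_inv, smul_smul]

theorem not_scalar {t : GL (Fin b) F} {u x : Fin b → F} {ε : F} (htu : act t u = -u)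
    (htx : act t x = x) (hu : S.f₂ u u ≠ 0) (hx : S.f₂ x x ≠ 0) (h1 : act t u = ε • u)
    (h2 : act t x = ε • x) : False := by
  rw [htu] at h1
  rw [htx] at h2
  have a1 := congrArg (S.f₂ u) h1
  have a2 := congrArg (S.f₂ x) h2
  simp only [map_neg, map_smul, smul_eq_mul] at a1 a2
  have e2 : ε = 1 := mul_right_cancel₀ hx (by linear_combination -a2)
  rw [e2, one_mul] at a1
  exact mul_ne_zero S.two hu (by linear_combination -a1)

theorem fix_of_conj {g t z : GL (Fin b) F} {w : Fin b → F} (hc : ∃ c : F, act g w = c • w)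
    (hw : w ≠ 0) (e : g * t * g⁻¹ = z * t) {σ : F} (ht : act t w = σ • w) (hσ : σ * σ = 1) :
    act z w = w := by
  obtain ⟨c, hc⟩ := hc
  have h1 := congrArg (fun x => act x (act g w)) e
  rw [act_mul, act_mul, act_mul, act_inv_act, ht, map_smul, hc, map_smul, ht] at h1
  simp only [map_smul, smul_smul] at h1
  have hc0 : c ≠ 0 := fun h => hw (act_injective g (by rw [hc, h, zero_smul, map_zero]))
  refine smul_right_injective _ (mul_ne_zero hc0 (left_ne_zero_of_mul (hσ ▸ one_ne_zero))) ?_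
  show (c * σ) • act z w = (c * σ) • w
  rw [← h1]
  match_scalars
  ring

theorem kr_mem_four (O : Over S H) {p p' q q' : Fin b → F} (hw : Fam S.f₂ ![p, p', q, q'])
    (hp : S.f₂ p p = S.f₂ p' p') (hq : S.f₂ q q = S.f₂ q' q') :
    kr (1 : GL (Fin a) F) (fl S.f₂ ![p, p', q, q']) ∈ H := by
  rw [fl_four S.h₂ hw, ← kr_one_mul]
  exact mul_mem (O.rB p p' (hw.aniso 0) hp) (O.flPair (hw.aniso 2) (hw.orth 2 3 (by decide)) hq)

variable (hS : Std S H) (hJ : ConjK S H) (hG : GoodK S H)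
include hS hJ hG

set_option maxHeartbeats 800000 in
/-- An element fixing two orthogonal anisotropic lines pointwise is in the tensor stabiliser. -/
theorem mem_of_fix_plane {y : GL (Fin a × Fin b) F} (hy : y ∈ H) {v₁ v₂ : Fin b → F}
    (h1 : S.f₂ v₁ v₁ ≠ 0) (h2 : S.f₂ v₂ v₂ ≠ 0) (h12 : S.f₂ v₁ v₂ = 0)
    (hf1 : ∀ x, act y (emb v₁ x) = emb v₁ x) (hf2 : ∀ x, act y (emb v₂ x) = emb v₂ x) :
    y ∈ Cfsg.Geo.kroneckerSubgroup a b F := by
  classical
  have hf := S.h₂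
  have hb := hS.hb
  have h21 : S.f₂ v₂ v₁ = 0 := by rw [S.comm₂, h12]
  have hlin : ∀ (c c' : F) x, act y (emb (c • v₁ + c' • v₂) x) = emb (c • v₁ + c' • v₂) x := by
    intro c c' x
    rw [emb_add_left, emb_smul_left, emb_smul_left, map_add, map_smul, map_smul, hf1, hf2]
  by_cases hsq : IsSquare (-(S.f₂ v₁ v₁ * S.f₂ v₂ v₂))
  · obtain ⟨c, hc⟩ := hsq
    refine mem_of_fix_singular hS hy (v := c • v₁ + S.f₂ v₁ v₁ • v₂) (fun h0 => ?_) ?_ (hlin _ _)
    · have := congrArg (S.f₂ v₂) h0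
      simp [h21, h1, h2] at this
    · simp [h12, h21]
      linear_combination -(S.f₂ v₁ v₁) * hc
  -- choose the vectors
  obtain ⟨n, n', u, hn0, hn, hn', hnn', huu, hnu, hn'u, hwn, hwn', hwu⟩ :=
    exists_hyp_perp hf (hf.fam_two h1 h2 h12) (by omega)
  have hn'n : S.f₂ n' n = 1 := by rw [S.comm₂, hnn']
  obtain ⟨c₁, c₂, hcc⟩ := exists_value hf h1 h2 h12 (S.f₂ u u)
  set w₁ := c₁ • v₁ + c₂ • v₂ with hw₁
  set w₂ := (-(c₂ * S.f₂ v₂ v₂)) • v₁ + (c₁ * S.f₂ v₁ v₁) • v₂ with hw₂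
  have d1 : S.f₂ w₁ w₁ = S.f₂ u u := hcc
  have d2 : S.f₂ w₂ w₂ = S.f₂ v₁ v₁ * S.f₂ v₂ v₂ * S.f₂ u u := by
    rw [← hcc]
    simp [hw₁, hw₂, h12, h21]
    ring
  have hw12 : S.f₂ w₁ w₂ = 0 := by
    simp [hw₁, hw₂, h12, h21]
    ring
  have g1 : S.f₂ w₁ w₁ ≠ 0 := by rw [d1]; exact huu
  have g2 : S.f₂ w₂ w₂ ≠ 0 := by rw [d2]; exact mul_ne_zero (mul_ne_zero h1 h2) huu
  have hns : ¬IsSquare (-(S.f₂ w₁ w₁ * S.f₂ w₂ w₂)) := by
    rintro ⟨r, hr⟩
    refine hsq ⟨r / S.f₂ u u, ?_⟩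
    rw [d1, d2] at hr
    field_simp
    linear_combination hr
  have hperp : ∀ c c' {x}, S.f₂ v₁ x = 0 → S.f₂ v₂ x = 0 → S.f₂ (c • v₁ + c' • v₂) x = 0 :=
    fun c c' x hx hx' => by
      rw [map_add, LinearMap.add_apply, map_smul, map_smul, LinearMap.smul_apply, LinearMap.smul_apply,
        hx, hx', smul_zero, smul_zero, add_zero]
  have hw1n : S.f₂ w₁ n = 0 := hperp _ _ (hwn 0) (hwn 1)
  have hw1n' : S.f₂ w₁ n' = 0 := hperp _ _ (hwn' 0) (hwn' 1)
  have hw1u : S.f₂ w₁ u = 0 := hperp _ _ (hwu 0) (hwu 1)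
  have hw2n : S.f₂ w₂ n = 0 := hperp _ _ (hwn 0) (hwn 1)
  have hw2n' : S.f₂ w₂ n' = 0 := hperp _ _ (hwn' 0) (hwn' 1)
  have hw2u : S.f₂ w₂ u = 0 := hperp _ _ (hwu 0) (hwu 1)
  set d := S.f₂ w₂ w₂ with hd
  set u'' := n + (d / 2) • n' with hu''
  set x := n + (-d / 2) • n' with hxdef
  have hu''v : S.f₂ u'' u'' = d := hyp_value hf hn hn' hnn' d
  have hxv : S.f₂ x x = -d := hyp_value hf hn hn' hnn' (-d)
  have hu''x : S.f₂ u'' x = 0 := by
    have := S.two
    simp [hu'', hxdef, hn, hn', hnn', hn'n]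
    field_simp
    ring
  have hu''0 : S.f₂ u'' u'' ≠ 0 := by rw [hu''v]; exact g2
  have hx0 : S.f₂ x x ≠ 0 := by rw [hxv]; exact neg_ne_zero.2 g2
  have hw1u'' : S.f₂ w₁ u'' = 0 := by simp [hu'', hw1n, hw1n']
  have hw2u'' : S.f₂ w₂ u'' = 0 := by simp [hu'', hw2n, hw2n']
  have hw1x : S.f₂ w₁ x = 0 := by simp [hxdef, hw1n, hw1n']
  have hw2x : S.f₂ w₂ x = 0 := by simp [hxdef, hw2n, hw2n']
  have huu'' : S.f₂ u u'' = 0 := by simp [hu'', S.comm₂ n u, S.comm₂ n' u, hnu, hn'u]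
  have hux : S.f₂ u x = 0 := by simp [hxdef, S.comm₂ n u, S.comm₂ n' u, hnu, hn'u]
  have hWfam := hf.fam_two g1 g2 hw12
  have hT := hf.fam_two g1 huu hw1u
  have huw2 : S.f₂ u w₂ = 0 := by rw [S.comm₂, hw2u]
  have hT'' : Fam S.f₂ ![w₁, u, w₂, u''] :=
    (hf.fam_three huu g2 hu''0 huw2 huu'' hw2u'').cons g1
      (fun i => by rw [S.comm₂]; fin_cases i <;> assumption) (fun i => by fin_cases i <;> assumption)
  set t := fl S.f₂ ![w₁, u] with ht
  set t'' := fl S.f₂ ![w₁, u, w₂, u''] with ht''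
  have tI := fl_invo hf hT
  have tI'' := fl_invo hf hT''
  have tw1 : act t w₁ = -w₁ := fl_mem hf hT 0
  have tu : act t u = -u := fl_mem hf hT 1
  have tfix : ∀ {z}, S.f₂ w₁ z = 0 → S.f₂ u z = 0 → act t z = z := fun h h' =>
    fl_perp hf hT fun i => by fin_cases i <;> assumption
  have tw2 := tfix hw12 (by rw [S.comm₂, hw2u])
  have t''x : act t'' x = x := fl_perp hf hT'' fun i => by fin_cases i <;> assumption
  have t''u : act t'' u = -u := fl_mem hf hT'' 1
  have t''u'' : act t'' u'' = -u'' := fl_mem hf hT'' 3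
  have hy1 : ∀ c c', ∀ z, act y (emb (c • v₁ + c' • v₂) z) = emb (c • v₁ + c' • v₂) z := hlin
  -- the small case
  have hA5 : b = 5 → ∀ u₀, S.f₂ u₀ u₀ ≠ 0 → S.f₂ w₁ u₀ = 0 → S.f₂ w₂ u₀ = 0 →
      (∃ z, z ≠ 0 ∧ S.f₂ z z = 0 ∧ S.f₂ w₁ z = 0 ∧ S.f₂ w₂ z = 0 ∧ S.f₂ u₀ z = 0) ∨
        IsSquare (-(S.f₂ w₂ w₂ * S.f₂ u₀ u₀)) := by
    intro hb5 u₀ hu₀ h10 h20
    set α := S.f₂ n' u₀
    set β := S.f₂ n u₀
    set γ := S.f₂ u u₀ / S.f₂ u u
    have hu₀e : u₀ = α • n + β • n' + γ • u := by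
      refine sub_eq_zero.1 ?_
      subst hb5
      have hfive : Fam S.f₂ ![w₁, w₂, u, u'', x] :=
        ((hf.fam_three huu hu''0 hx0 huu'' hux hu''x).cons g2
          (fun i => by rw [S.comm₂]; fin_cases i <;> assumption)
          (fun i => by fin_cases i <;> assumption)).cons g1
          (fun i => by rw [S.comm₂]; fin_cases i <;> assumption) (fun i => by fin_cases i <;> assumption)
      refine hf.eq_zero_of_basis hfive fun i => ?_
      fin_cases i
      · simp [h10, hw1n, hw1n', hw1u]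
      · simp [h20, hw2n, hw2n', hw2u]
      · simp [S.comm₂ n u, S.comm₂ n' u, hnu, hn'u, γ, huu]
      · simp [hu'', hn, hn', hnn', hn'n, hnu, hn'u, α, β]
      · simp [hxdef, hn, hn', hnn', hn'n, hnu, hn'u, α, β]
    have hQ : S.f₂ u₀ u₀ = 2 * α * β + γ ^ 2 * S.f₂ u u := by
      rw [hu₀e]
      simp [hn, hn', hnn', hn'n, hnu, hn'u, S.comm₂ n u, S.comm₂ n' u]
      ring
    by_cases hs : IsSquare (S.f₂ u u * S.f₂ u₀ u₀)
    swap
    · right
      have hns' : ¬IsSquare (-(S.f₂ w₁ w₁ * S.f₂ w₂ w₂)) := hns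
      obtain ⟨r, hr⟩ := isSquare_mul_of_not hs hns'
      refine ⟨r / S.f₂ u u, ?_⟩
      rw [d1] at hr
      field_simp
      linear_combination hr
    left
    by_cases hα : α = 0
    · exact ⟨n', fun h0 => by simp [h0] at hnn', hn', hw1n', hw2n', by rw [S.comm₂]; exact hα⟩
    by_cases hβ : β = 0
    · exact ⟨n, hn0, hn, hw1n, hw2n, by rw [S.comm₂]; exact hβ⟩
    obtain ⟨r, hr⟩ := hs
    obtain ⟨X, hX⟩ : ∃ X, X = (-(γ * S.f₂ u u) + r) / (2 * β) := ⟨_, rfl⟩
    have h2' := S.two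
    have hq : 2 * β * X ^ 2 + 2 * γ * S.f₂ u u * X - α * S.f₂ u u = 0 := by
      rw [hX]
      field_simp
      linear_combination (S.f₂ u u) * hQ - hr
    have hX0 : X ≠ 0 := fun h0 => mul_ne_zero hα huu (by rw [h0] at hq; linear_combination -hq)
    refine ⟨X • n + (-(S.f₂ u u) / (2 * X)) • n' + u, fun h0 => huu ?_, ?_, ?_, ?_, ?_⟩
    · have := congrArg (S.f₂ u) h0
      simpa [S.comm₂ n u, S.comm₂ n' u, hnu, hn'u] using this
    · simp [hn, hn', hnn', hn'n, hnu, hn'u, S.comm₂ n u, S.comm₂ n' u]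
      field_simp
      ring
    · simp [hw1n, hw1n', hw1u]
    · simp [hw2n, hw2n', hw2u]
    · rw [hu₀e]
      simp [hn, hn', hnn', hn'n, hnu, hn'u, S.comm₂ n u, S.comm₂ n' u]
      field_simp
      linear_combination hq
  have hW : ∀ i, ∃ c c' : F, (![w₁, w₂] : Fin 2 → Fin b → F) i = c • v₁ + c' • v₂ := fun i => by
    fin_cases i
    exacts [⟨_, _, rfl⟩, ⟨_, _, rfl⟩]
  refine le_level hS hG hWfam ?_ tI ?_ ?_ ?_ tI'' ?_ ?_ ?_ ?_ ?_ y hy fun i => ?_
  · -- the centralisers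
    intro t₀ ht₀ ht₀w ht₀Z
    obtain ⟨e, s, hE, ι, hι, hιe⟩ := ht₀.exists_frame hf hWfam (by omega) ht₀w
    obtain ⟨j, l, hj, hl, hjl⟩ := Frame.exists_mixed hf ht₀ ht₀w hWfam hE hιe (by omega) ht₀Z
    have hι01 : ι 0 ≠ ι 1 := fun h => absurd (hι h) (by decide)
    have key : ∀ σ₁ σ₂ : F, σ₁ * σ₁ = 1 → σ₂ * σ₂ = 1 → ∃ r ∈ ZSub S.f₂ ![w₁, w₂],
        Invo S.f₂ (t₀ * r) ∧ ∃ s', Frame S.f₂ (t₀ * r) e s' ∧ s' (ι 0) = σ₁ ∧ s' (ι 1) = σ₂ ∧
          ∀ i, i ≠ ι 0 → i ≠ ι 1 → s' i = s i := by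
      intro σ₁ σ₂ hs₁ hs₂
      obtain ⟨r, hr, hi, s', hE', e1, e2⟩ := hE.exists_flip hf hWfam ht₀ (hιe 0) hs₁
      obtain ⟨r', hr', hi', s'', hE'', e3, e4⟩ := hE'.exists_flip hf hWfam hi (hιe 1) hs₂
      refine ⟨r * r', mul_mem hr hr', by rwa [← mul_assoc], s'', by rwa [← mul_assoc],
        by rw [e4 _ hι01, e1], e3, fun i h h' => by rw [e4 _ h', e2 _ h]⟩
    have hjl' : j ≠ l := fun h => hjl (by rw [h])
    obtain ⟨r₁, hr₁⟩ := exists_new {ι 0, ι 1, j, l} (lt_of_le_of_lt (Finset.card_le_four) (by omega))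
    simp only [Finset.mem_insert, Finset.mem_singleton, not_or] at hr₁
    obtain ⟨hr10, hr11, hr1j, hr1l⟩ := hr₁
    by_cases hb6 : b = 5
    · -- one vector against two
      obtain ⟨j, l, hj, hl, hjl, hjl', hr1j, hr1l, hsr⟩ : ∃ j l, (∀ i, ι i ≠ j) ∧ (∀ i, ι i ≠ l) ∧
          s j ≠ s l ∧ j ≠ l ∧ r₁ ≠ j ∧ r₁ ≠ l ∧ s r₁ = s l := by
        rcases sgn_two (hE.sgn j) (hE.sgn l) (hE.sgn r₁) hjl with h | h
        · exact ⟨l, j, hl, hj, Ne.symm hjl, Ne.symm hjl', hr1l, hr1j, h⟩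
        · exact ⟨j, l, hj, hl, hjl, hjl', hr1j, hr1l, h⟩
      have hall : ∀ i, i = ι 0 ∨ i = ι 1 ∨ i = j ∨ i = l ∨ i = r₁ := by
        intro i
        by_contra hc
        push Not at hc
        obtain ⟨h1, h2, h3, h4, h5⟩ := hc
        have := Finset.card_le_univ ({i, ι 0, ι 1, j, l, r₁} : Finset (Fin b))
        rw [Fintype.card_fin] at this
        rw [Finset.card_insert_of_notMem (by simp [*]), Finset.card_insert_of_notMem (by
            simp [hι01, hj 0, hl 0, Ne.symm hr10]), Finset.card_insert_of_notMem (by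
            simp [hj 1, hl 1, Ne.symm hr11]), Finset.card_insert_of_notMem (by
            simp [hjl', Ne.symm hr1j]), Finset.card_insert_of_notMem (by
            simp [Ne.symm hr1l]), Finset.card_singleton] at this
        omega
      have h0 : e (ι 0) = w₁ := hιe 0
      have h1' : e (ι 1) = w₂ := hιe 1
      rcases hA5 hb6 (e j) (hE.fam.aniso j) (by rw [← h0]; exact hE.fam.orth _ _ (hj 0))
        (by rw [← h1']; exact hE.fam.orth _ _ (hj 1)) with ⟨z, hz0, hz, hz1, hz2, hzj⟩ | ⟨c, hc⟩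
      · obtain ⟨r, hr, hi, s', hE', e1, e2, e3⟩ := key (s j) (s j) (hE.sgn j) (hE.sgn j)
        have ej : s' j = s j := e3 j (Ne.symm (hj 0)) (Ne.symm (hj 1))
        have el' : s' l = s l := e3 l (Ne.symm (hl 0)) (Ne.symm (hl 1))
        have er : s' r₁ = s l := by rw [e3 r₁ hr10 hr11, hsr]
        refine ⟨r, hr, hi, cent_sing hS hJ hi hE' (Ne.symm (hj 0)) (Ne.symm (hj 1)) hι01
          (by rw [e1, ej]) (by rw [e2, ej]) hz0 hz (hE'.eigen hf hi fun i hi' => ?_)⟩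
        have hne : -s' j = s l := by rw [ej, sgn_eq (hE.sgn l) (hE.sgn j) (Ne.symm hjl)]
        rw [hne] at hi'
        rcases hall i with rfl | rfl | rfl | rfl | rfl
        · rw [h0, hz1]
        · rw [h1', hz2]
        · exact hzj
        · exact absurd el' hi'
        · exact absurd er hi'
      · obtain ⟨r, hr, hi, s', hE', e1, e2, e3⟩ := key (s l) (s j) (hE.sgn l) (hE.sgn j)
        have ej : s' j = s j := e3 j (Ne.symm (hj 0)) (Ne.symm (hj 1))
        have el' : s' l = s l := e3 l (Ne.symm (hl 0)) (Ne.symm (hl 1))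
        have er : s' r₁ = s l := by rw [e3 r₁ hr10 hr11, hsr]
        refine ⟨r, hr, hi, cent_sing hS hJ hi hE' (Ne.symm (hl 0)) (Ne.symm hr1l) (Ne.symm hr10)
          (by rw [e1, el']) (by rw [er, el']) (z := c • w₂ + S.f₂ w₂ w₂ • e j) ?_ ?_ ?_⟩
        · intro h0'
          have := congrArg (S.f₂ (e j)) h0'
          simp [← h1', hE.fam.orth j _ (Ne.symm (hj 1)), hE.fam.aniso j, hE.fam.aniso (ι 1)] at this
        · have e5 : S.f₂ w₂ (e j) = 0 := by rw [← h1']; exact hE.fam.orth _ _ (hj 1)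
          have e6 : S.f₂ (e j) w₂ = 0 := by rw [S.comm₂, e5]
          simp [e5, e6]
          linear_combination -(S.f₂ w₂ w₂) * hc
        · rw [el', map_add, map_smul, map_smul, ← h1', hE'.eig, hE'.eig, e2, ej,
            sgn_eq (hE.sgn j) (hE.sgn l) hjl]
          module
    · -- three against three
      obtain ⟨r₂, hr₂⟩ := exists_new {ι 0, ι 1, j, l, r₁} (lt_of_le_of_lt (Finset.card_le_five) (by omega))
      simp only [Finset.mem_insert, Finset.mem_singleton, not_or] at hr₂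
      obtain ⟨hr20, hr21, hr2j, hr2l, hr21'⟩ := hr₂
      rcases sgn_two (hE.sgn j) (hE.sgn l) (hE.sgn r₁) hjl with hA | hA <;>
        rcases sgn_two (hE.sgn j) (hE.sgn l) (hE.sgn r₂) hjl with hB | hB
      · obtain ⟨r, hr, hi, s', hE', e1, e2, e3⟩ := key (s l) (s l) (hE.sgn l) (hE.sgn l)
        have ej : s' j = s j := e3 j (Ne.symm (hj 0)) (Ne.symm (hj 1))
        have el' : s' l = s l := e3 l (Ne.symm (hl 0)) (Ne.symm (hl 1))
        have ea : s' r₁ = s r₁ := e3 r₁ hr10 hr11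
        have eb : s' r₂ = s r₂ := e3 r₂ hr20 hr21
        exact ⟨r, hr, hi, cent_three hS hJ hi hE' (Ne.symm hr1j) (Ne.symm hr2j) (Ne.symm hr21')
          (by rw [ea, ej, hA]) (by rw [eb, ej, hB]) (Ne.symm (hl 0)) (Ne.symm (hl 1)) hι01
          (by rw [e1, el']) (by rw [e2, el']) (by rw [el', ej]; exact Ne.symm hjl)⟩
      · obtain ⟨r, hr, hi, s', hE', e1, e2, e3⟩ := key (s j) (s l) (hE.sgn j) (hE.sgn l)
        have ej : s' j = s j := e3 j (Ne.symm (hj 0)) (Ne.symm (hj 1))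
        have el' : s' l = s l := e3 l (Ne.symm (hl 0)) (Ne.symm (hl 1))
        have ea : s' r₁ = s r₁ := e3 r₁ hr10 hr11
        have eb : s' r₂ = s r₂ := e3 r₂ hr20 hr21
        exact ⟨r, hr, hi, cent_three hS hJ hi hE' (Ne.symm hr1j) (Ne.symm (hj 0)) hr10
          (by rw [ea, ej, hA]) (by rw [e1, ej]) (Ne.symm hr2l) (Ne.symm (hl 1)) hr21
          (by rw [eb, el', hB]) (by rw [e2, el']) (by rw [el', ej]; exact Ne.symm hjl)⟩
      · obtain ⟨r, hr, hi, s', hE', e1, e2, e3⟩ := key (s j) (s l) (hE.sgn j) (hE.sgn l)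
        have ej : s' j = s j := e3 j (Ne.symm (hj 0)) (Ne.symm (hj 1))
        have el' : s' l = s l := e3 l (Ne.symm (hl 0)) (Ne.symm (hl 1))
        have ea : s' r₁ = s r₁ := e3 r₁ hr10 hr11
        have eb : s' r₂ = s r₂ := e3 r₂ hr20 hr21
        exact ⟨r, hr, hi, cent_three hS hJ hi hE' (Ne.symm hr2j) (Ne.symm (hj 0)) hr20
          (by rw [eb, ej, hB]) (by rw [e1, ej]) (Ne.symm hr1l) (Ne.symm (hl 1)) hr11
          (by rw [ea, el', hA]) (by rw [e2, el']) (by rw [el', ej]; exact Ne.symm hjl)⟩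
      · obtain ⟨r, hr, hi, s', hE', e1, e2, e3⟩ := key (s j) (s j) (hE.sgn j) (hE.sgn j)
        have ej : s' j = s j := e3 j (Ne.symm (hj 0)) (Ne.symm (hj 1))
        have el' : s' l = s l := e3 l (Ne.symm (hl 0)) (Ne.symm (hl 1))
        have ea : s' r₁ = s r₁ := e3 r₁ hr10 hr11
        have eb : s' r₂ = s r₂ := e3 r₂ hr20 hr21
        exact ⟨r, hr, hi, cent_three hS hJ hi hE' (Ne.symm hr1l) (Ne.symm hr2l) (Ne.symm hr21')
          (by rw [ea, el', hA]) (by rw [eb, el', hB]) (Ne.symm (hj 0)) (Ne.symm (hj 1)) hι01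
          (by rw [e1, ej]) (by rw [e2, ej]) (by rw [el', ej]; exact hjl)⟩
  · exact hS.ov.flPair g1 hw1u d1
  · intro i; fin_cases i
    · exact ⟨-1, by rw [neg_one_smul]; exact tw1⟩
    · exact ⟨1, by rw [one_smul]; exact tw2⟩
  · rintro ⟨-, ε, -, hε⟩
    have e1 := hε u fun i => by fin_cases i <;> assumption
    have e2 := hε x fun i => by fin_cases i <;> assumption
    exact not_scalar (S := S) tu (tfix hw1x hux) huu hx0 e1 e2
  · exact kr_mem_four hS.ov hT'' d1 hu''v.symm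
  · intro i; fin_cases i
    · exact ⟨-1, by rw [neg_one_smul]; exact fl_mem hf hT'' 0⟩
    · exact ⟨-1, by rw [neg_one_smul]; exact fl_mem hf hT'' 2⟩
  · rintro ⟨-, ε, -, hε⟩
    exact not_scalar (S := S) t''u t''x huu hx0 (hε u fun i => by fin_cases i <;> assumption)
      (hε x fun i => by fin_cases i <;> assumption)
  · -- not conjugate
    rintro g ν hν hg hl z ⟨-, ε, hε, hεp⟩ e
    have hpre : ∀ {x' σ}, S.f₂ w₁ x' = 0 → S.f₂ w₂ x' = 0 → act t'' x' = σ • x' → σ * ε = -1 →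
        ∃ c : F, act g⁻¹ x' = c • u := by
      intro x' σ h1' h2' hx' hσ
      have := pre_eig e hx' (hεp x' fun i => by fin_cases i <;> assumption)
      rw [hσ, neg_one_smul] at this
      have e2 := fl_neg_mem hf hT this
      rw [Fin.sum_univ_two] at e2
      simp only [Matrix.cons_val_zero, Matrix.cons_val_one,
        show S.f₂ w₁ (act g⁻¹ x') = 0 from pre_perp hν hg (hl 0) h1', mul_zero,
        zero_smul, zero_add] at e2
      exact ⟨_, e2⟩
    rcases sgn_cases hε with h | h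
    · obtain ⟨c, hc⟩ := hpre (σ := -1) hw1u hw2u (by rw [neg_one_smul]; exact t''u) (by rw [h]; ring)
      obtain ⟨c', hc'⟩ := hpre (σ := -1) hw1u'' hw2u'' (by rw [neg_one_smul]; exact t''u'') (by rw [h]; ring)
      exact not_two_prop hg hc hc' huu hu''0 huu''
    · obtain ⟨c, hc⟩ := hpre (σ := 1) hw1x hw2x (by rw [one_smul]; exact t''x) (by rw [h]; ring)
      obtain ⟨α, hα⟩ := hl 0
      simp only [Matrix.cons_val_zero] at hα
      have e3 := hg (act g⁻¹ x) (act g⁻¹ x)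
      rw [act_act_inv, hc, map_smul, map_smul, LinearMap.smul_apply, hxv, smul_eq_mul, smul_eq_mul] at e3
      have e4 := hg w₁ w₁
      rw [hα, map_smul, map_smul, LinearMap.smul_apply, smul_eq_mul, smul_eq_mul, ← mul_assoc] at e4
      have e5 := mul_right_cancel₀ g1 e4
      refine hns ⟨α * c * S.f₂ u u, ?_⟩
      rw [d1]
      linear_combination (S.f₂ u u) * e3 - (c ^ 2 * S.f₂ u u ^ 2) * e5
  · -- signs
    intro g ν hν hg hl z hz e
    obtain ⟨hzw, ε, hε, hεp⟩ := hz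
    have hzi : ∀ (i : Fin 2) (σ : F), act t ((![w₁, w₂] : Fin 2 → Fin b → F) i) =
        σ • (![w₁, w₂] : Fin 2 → Fin b → F) i → σ * σ = 1 →
        act z ((![w₁, w₂] : Fin 2 → Fin b → F) i) = (![w₁, w₂] : Fin 2 → Fin b → F) i := by
      intro i σ ht₀ hσ
      exact fix_of_conj (hl i) (fun h0 => hWfam.aniso i (by rw [h0, map_zero])) e ht₀ hσ
    have hpre : ∀ {x'}, S.f₂ w₁ x' = 0 → S.f₂ w₂ x' = 0 → act t x' = x' → ε = -1 →
        ∃ c : F, act g⁻¹ x' = c • u := by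
      intro x' h1' h2' hx' h
      have := pre_eig e (σ := 1) (by rw [one_smul]; exact hx')
        (hεp x' fun i => by fin_cases i <;> assumption)
      rw [h, one_mul, neg_one_smul] at this
      have e2 := fl_neg_mem hf hT this
      rw [Fin.sum_univ_two] at e2
      simp only [Matrix.cons_val_zero, Matrix.cons_val_one,
        show S.f₂ w₁ (act g⁻¹ x') = 0 from pre_perp hν hg (hl 0) h1', mul_zero,
        zero_smul, zero_add] at e2
      exact ⟨_, e2⟩
    have hε1 : ε = 1 := (sgn_cases hε).resolve_right fun h => by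
      obtain ⟨c, hc⟩ := hpre hw1u'' hw2u'' (tfix hw1u'' huu'') h
      obtain ⟨c', hc'⟩ := hpre hw1x hw2x (tfix hw1x hux) h
      exact not_two_prop hg hc hc' hu''0 hx0 hu''x
    refine act_ext fun x' => ext_fam hf hWfam (φ := act z) (χ := act 1) (fun i => ?_) (fun x' hx' => ?_) x'
    · rw [act_one]
      fin_cases i
      · exact hzi 0 (-1) (by rw [neg_one_smul]; exact tw1) (by ring)
      · exact hzi 1 1 (by rw [one_smul]; exact tw2) (by ring)
    · rw [act_one, hεp x' hx', hε1, one_smul]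
  · obtain ⟨c, c', hc⟩ := hW i
    exact fix_comm_refl (hS.ov.isom hy) fun z => by rw [hc]; exact hlin c c' z

end Cfsg.Agent.TensorOO
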