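import Cfsg.Agent.TensorOO.Cent

/-!
Centralisers of the involutions of the second factor, and the conclusion when its dimension is not
six (helper19).
-/

set_option autoImplicit false
set_option linter.unusedSectionVars false
set_option linter.unusedSimpArgs false

namespace Cfsg.Agent.TensorOO

open Matrix hiding col
open Cfsg.Agent.MaxSub Cfsg.Agent.TensorMax Cfsg.Agent.TensorInv Module

variable {F : Type*} [Field F] [Finite F] {a b : ℕ} {S : OForm F a b}
  {H : Subgroup (GL (Fin a × Fin b) F)}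

theorem exists_pair_perp {k : ℕ} {w : Fin k → Fin b → F} (hw : Fam S.f₂ w) (hk : k + 2 ≤ b) :
    ∃ x x', S.f₂ x x ≠ 0 ∧ S.f₂ x' x' ≠ 0 ∧ S.f₂ x x' = 0 ∧
      (∀ i, S.f₂ (w i) x = 0) ∧ ∀ i, S.f₂ (w i) x' = 0 := by
  obtain ⟨x, hx, ex⟩ := S.h₂.exists_aniso_fam hw (by omega)
  obtain ⟨x', hx', ex'⟩ := S.h₂.exists_aniso_fam (hw.cons hx ex fun i => by rw [S.comm₂, ex]) (by omega)
  exact ⟨x, x', hx, hx', by simpa using ex' 0, ex, fun i => by simpa using ex' i.succ⟩

variable (hS : Std S H) (hJ : ConjK S H) (hG : GoodK S H)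
include hS hJ hG

/-- Eigenspaces of dimensions at least three and two. -/
theorem cent_two {t : GL (Fin b) F} (ht : Invo S.f₂ t) {e : Fin b → Fin b → F} {s : Fin b → F}
    (hE : Frame S.f₂ t e s) {i j l i' j' : Fin b} (hij : i ≠ j) (hil : i ≠ l) (hjl : j ≠ l)
    (hj : s j = s i) (hl : s l = s i) (hij' : i' ≠ j') (hj' : s j' = s i') (hne : s i' ≠ s i) :
    Cent H (kr 1 t) := by
  obtain ⟨n, u, hn0, hn, hu, huu, htn, htu⟩ := exists_config ht hE hij hil hjl hj hl
  have e' : s i' = -s i := sgn_eq (hE.sgn i') (hE.sgn i) hne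
  exact cent_of_fix hS hJ ht (hE.sgn i) hn0 hn hu huu htn htu fun y hy hfix =>
    mem_of_fix_plane hS hJ hG hy (hE.fam.aniso i') (hE.fam.aniso j') (hE.fam.orth _ _ hij')
      (hfix _ (by rw [hE.eig, e'])) (hfix _ (by rw [hE.eig, hj', e']))

/-- The centraliser of a reflection is in the tensor stabiliser. -/
theorem mem_of_comm_refl {v : Fin b → F} (hv : S.f₂ v v ≠ 0) {g : GL (Fin a × Fin b) F} (hg : g ∈ H)
    (hgv : g * kr 1 (refl S.f₂ v) = kr 1 (refl S.f₂ v) * g) :
    g ∈ Cfsg.Geo.kroneckerSubgroup a b F := by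
  classical
  have hf := S.h₂
  have hb := hS.hb
  have hW := fam_one (f := S.f₂) hv
  obtain ⟨u, hu, hvu'⟩ := exists_value_perp hf hW (by omega) (S.f₂ v v)
  have hvu : S.f₂ v u = 0 := hvu' 0
  have huu : S.f₂ u u ≠ 0 := hu ▸ hv
  have hT := hf.fam_two hv huu hvu
  obtain ⟨u', hu', hp⟩ := exists_value_perp hf hT (by omega) (S.f₂ v v)
  have hvu1 : S.f₂ v u' = 0 := hp 0
  have huu' : S.f₂ u u' = 0 := hp 1
  have huu1 : S.f₂ u' u' ≠ 0 := hu' ▸ hv
  have hT'' := hf.fam_two huu huu1 huu'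
  obtain ⟨x, x', hx, hx', hxx', ex, ex'⟩ :=
    exists_pair_perp (hf.fam_three hv huu huu1 hvu hvu1 huu') (by omega)
  have hvx : S.f₂ v x = 0 := ex 0
  have hux : S.f₂ u x = 0 := ex 1
  have hu'x : S.f₂ u' x = 0 := ex 2
  have hvx' : S.f₂ v x' = 0 := ex' 0
  have hux' : S.f₂ u x' = 0 := ex' 1
  have hu'x' : S.f₂ u' x' = 0 := ex' 2
  set t := fl S.f₂ ![v, u] with ht
  set t'' := fl S.f₂ ![u, u'] with ht''
  have tI := fl_invo hf hT
  have tI'' := fl_invo hf hT''
  have tv : act t v = -v := fl_mem hf hT 0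
  have tu : act t u = -u := fl_mem hf hT 1
  have tfix : ∀ {z}, S.f₂ v z = 0 → S.f₂ u z = 0 → act t z = z := fun h h' =>
    fl_perp hf hT fun i => by fin_cases i <;> assumption
  have t''u : act t'' u = -u := fl_mem hf hT'' 0
  have t''u' : act t'' u' = -u' := fl_mem hf hT'' 1
  have t''fix : ∀ {z}, S.f₂ u z = 0 → S.f₂ u' z = 0 → act t'' z = z := fun h h' =>
    fl_perp hf hT'' fun i => by fin_cases i <;> assumption
  have t''v : act t'' v = v := t''fix (by rw [S.comm₂, hvu]) (by rw [S.comm₂, hvu1])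
  have hcon : ∀ (g : GL (Fin b) F) (ν : F), ν ≠ 0 →
      (∀ v v', S.f₂ (act g v) (act g v') = ν * S.f₂ v v') → (∃ c : F, act g v = c • v) →
      ∀ {x : Fin b → F}, S.f₂ v x = 0 → act t (act g⁻¹ x) = -act g⁻¹ x →
        ∃ c : F, act g⁻¹ x = c • u := by
    intro g ν hν hg hl x hx he
    have e2 := fl_neg_mem hf hT he
    rw [Fin.sum_univ_two] at e2
    simp only [Matrix.cons_val_zero, Matrix.cons_val_one,
      show S.f₂ v (act g⁻¹ x) = 0 from pre_perp hν hg hl hx, mul_zero, zero_smul, zero_add] at e2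
    exact ⟨_, e2⟩
  refine le_level hS hG hW ?_ tI ?_ ?_ ?_ tI'' ?_ ?_ ?_ ?_ ?_ g hg fun i => ?_
  · intro t₀ ht₀ ht₀w ht₀Z
    obtain ⟨e, s, hE, ι, hι, hιe⟩ := ht₀.exists_frame hf hW (by omega) ht₀w
    obtain ⟨j, l, hj, hl, hjl⟩ := Frame.exists_mixed hf ht₀ ht₀w hW hE hιe (by omega) ht₀Z
    obtain ⟨r₁, hr₁⟩ := exists_new {ι 0, j, l} (lt_of_le_of_lt Finset.card_le_three (by omega))
    simp only [Finset.mem_insert, Finset.mem_singleton, not_or] at hr₁
    obtain ⟨hr10, hr1j, hr1l⟩ := hr₁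
    obtain ⟨r₂, hr₂⟩ := exists_new {ι 0, j, l, r₁} (lt_of_le_of_lt Finset.card_le_four (by omega))
    simp only [Finset.mem_insert, Finset.mem_singleton, not_or] at hr₂
    obtain ⟨hr20, hr2j, hr2l, hr21⟩ := hr₂
    have key : ∀ σ : F, σ * σ = 1 → ∃ r ∈ ZSub S.f₂ ![v], Invo S.f₂ (t₀ * r) ∧ ∃ s',
        Frame S.f₂ (t₀ * r) e s' ∧ s' (ι 0) = σ ∧ ∀ i, i ≠ ι 0 → s' i = s i :=
      fun σ hσ => hE.exists_flip hf hW ht₀ (hιe 0) hσ
    rcases sgn_two (hE.sgn j) (hE.sgn l) (hE.sgn r₁) hjl with hA | hA <;>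
      rcases sgn_two (hE.sgn j) (hE.sgn l) (hE.sgn r₂) hjl with hB | hB
    · obtain ⟨r, hr, hi, s', hE', e1, e2⟩ := key (s l) (hE.sgn l)
      have ej : s' j = s j := e2 j (Ne.symm (hj 0))
      have el' : s' l = s l := e2 l (Ne.symm (hl 0))
      exact ⟨r, hr, hi, cent_two hS hJ hG hi hE' (Ne.symm hr1j) (Ne.symm hr2j) (Ne.symm hr21)
        (by rw [e2 r₁ hr10, ej, hA]) (by rw [e2 r₂ hr20, ej, hB]) (Ne.symm (hl 0))
        (by rw [e1, el']) (by rw [el', ej]; exact Ne.symm hjl)⟩
    · obtain ⟨r, hr, hi, s', hE', e1, e2⟩ := key (s j) (hE.sgn j)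
      have ej : s' j = s j := e2 j (Ne.symm (hj 0))
      have el' : s' l = s l := e2 l (Ne.symm (hl 0))
      exact ⟨r, hr, hi, cent_two hS hJ hG hi hE' (Ne.symm hr1j) (Ne.symm (hj 0)) hr10
        (by rw [e2 r₁ hr10, ej, hA]) (by rw [e1, ej]) (Ne.symm hr2l)
        (by rw [e2 r₂ hr20, el', hB]) (by rw [el', ej]; exact Ne.symm hjl)⟩
    · obtain ⟨r, hr, hi, s', hE', e1, e2⟩ := key (s j) (hE.sgn j)
      have ej : s' j = s j := e2 j (Ne.symm (hj 0))
      have el' : s' l = s l := e2 l (Ne.symm (hl 0))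
      exact ⟨r, hr, hi, cent_two hS hJ hG hi hE' (Ne.symm hr2j) (Ne.symm (hj 0)) hr20
        (by rw [e2 r₂ hr20, ej, hB]) (by rw [e1, ej]) (Ne.symm hr1l)
        (by rw [e2 r₁ hr10, el', hA]) (by rw [el', ej]; exact Ne.symm hjl)⟩
    · obtain ⟨r, hr, hi, s', hE', e1, e2⟩ := key (s j) (hE.sgn j)
      have ej : s' j = s j := e2 j (Ne.symm (hj 0))
      have el' : s' l = s l := e2 l (Ne.symm (hl 0))
      exact ⟨r, hr, hi, cent_two hS hJ hG hi hE' (Ne.symm hr1l) (Ne.symm hr2l) (Ne.symm hr21)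
        (by rw [e2 r₁ hr10, el', hA]) (by rw [e2 r₂ hr20, el', hB]) (Ne.symm (hj 0))
        (by rw [e1, ej]) (by rw [el', ej]; exact hjl)⟩
  · exact hS.ov.flPair hv hvu hu.symm
  · intro i; fin_cases i; exact ⟨-1, by rw [neg_one_smul]; exact tv⟩
  · rintro ⟨-, ε, -, hε⟩
    exact not_scalar (S := S) tu (tfix hvx hux) huu hx (hε u fun i => by fin_cases i; exact hvu)
      (hε x fun i => by fin_cases i; exact hvx)
  · exact hS.ov.flPair huu huu' (hu.trans hu'.symm)
  · intro i; fin_cases i; exact ⟨1, by rw [one_smul]; exact t''v⟩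
  · rintro ⟨-, ε, -, hε⟩
    exact not_scalar (S := S) t''u (t''fix hux hu'x) huu hx (hε u fun i => by fin_cases i; exact hvu)
      (hε x fun i => by fin_cases i; exact hvx)
  · rintro g ν hν hg hl z ⟨-, ε, hε, hεp⟩ e
    have hz : ∀ {y}, S.f₂ v y = 0 → act z y = ε • y := fun h =>
      hεp _ fun i => by fin_cases i; exact h
    rcases sgn_cases hε with h | h
    · have a1 := pre_eig e (σ := -1) (by rw [neg_one_smul]; exact t''u) (hz hvu)
      have a2 := pre_eig e (σ := -1) (by rw [neg_one_smul]; exact t''u') (hz hvu1)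
      rw [h, mul_one, neg_one_smul] at a1 a2
      obtain ⟨c, hc⟩ := hcon g ν hν hg (hl 0) hvu a1
      obtain ⟨c', hc'⟩ := hcon g ν hν hg (hl 0) hvu1 a2
      exact not_two_prop hg hc hc' huu huu1 huu'
    · have a1 := pre_eig e (σ := 1) (by rw [one_smul]; exact t''fix hux hu'x) (hz hvx)
      have a2 := pre_eig e (σ := 1) (by rw [one_smul]; exact t''fix hux' hu'x') (hz hvx')
      rw [h, one_mul, neg_one_smul] at a1 a2
      obtain ⟨c, hc⟩ := hcon g ν hν hg (hl 0) hvx a1
      obtain ⟨c', hc'⟩ := hcon g ν hν hg (hl 0) hvx' a2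
      exact not_two_prop hg hc hc' hx hx' hxx'
  · intro g ν hν hg hl z hz e
    obtain ⟨-, ε, hε, hεp⟩ := hz
    have hz : ∀ {y}, S.f₂ v y = 0 → act z y = ε • y := fun h =>
      hεp _ fun i => by fin_cases i; exact h
    have hε1 : ε = 1 := (sgn_cases hε).resolve_right fun h => by
      have a1 := pre_eig e (σ := 1) (by rw [one_smul]; exact tfix hvu1 huu') (hz hvu1)
      have a2 := pre_eig e (σ := 1) (by rw [one_smul]; exact tfix hvx hux) (hz hvx)
      rw [h, one_mul, neg_one_smul] at a1 a2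
      obtain ⟨c, hc⟩ := hcon g ν hν hg (hl 0) hvu1 a1
      obtain ⟨c', hc'⟩ := hcon g ν hν hg (hl 0) hvx a2
      exact not_two_prop hg hc hc' huu1 hx hu'x
    refine act_ext fun y => ext_fam hf hW (φ := act z) (χ := act 1) (fun i => ?_) (fun y hy => ?_) y
    · rw [act_one]
      fin_cases i
      exact fix_of_conj (hl 0) (fun h0 => hv (by
        rw [show v = 0 from h0, map_zero])) e (σ := -1) (by rw [neg_one_smul]; exact tv) (by ring)
    · rw [act_one, hεp y hy, hε1, one_smul]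
  · fin_cases i; exact hgv

/-- The centralisers of the non-scalar involutions of the second factor. -/
theorem centAll : CentAll S H := by
  classical
  intro t ht h1 hm1
  have hf := S.h₂
  have hb := hS.hb
  obtain ⟨e, s, hE, -⟩ := ht.exists_frame hf (fam_nil S.f₂) (Nat.zero_le b) (fun i => i.elim0)
  have hsc : ∀ c : F, (∀ i, s i = c) → ∀ x, act t x = c • x := fun c hc x =>
    hE.eigen hf ht fun l hl => absurd (hc l) hl
  obtain ⟨i, l, hil⟩ : ∃ i l, s i ≠ s l := by
    by_contra hc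
    push Not at hc
    rcases sgn_cases (hE.sgn ⟨0, by omega⟩) with h | h
    · exact h1 (act_ext fun x => by
        rw [hsc 1 (fun i => by rw [hc i ⟨0, by omega⟩, h]), one_smul, act_one])
    · exact hm1 (act_ext fun x => by
        rw [hsc (-1) (fun i => by rw [hc i ⟨0, by omega⟩, h]), neg_one_smul, act_apply, Units.val_neg,
          Units.val_one, neg_mulVec, one_mulVec])
  have huniq : ∀ i l, s i ≠ s l → (∀ i', i' ≠ i → s i' ≠ s i) → Cent H (kr 1 t) := by
    intro i l hil hu g hg hgt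
    have hi := fam_one (f := S.f₂) (hE.fam.aniso i)
    refine mem_of_comm_refl hS hJ hG (hE.fam.aniso i) hg ?_
    -- the involution is a signed reflection
    have hr : refl S.f₂ (e i) = (-1 : GL (Fin b) F) * t ∨ refl S.f₂ (e i) = t := by
      have hpl : ∀ x, (∀ q : Fin 1, S.f₂ ((![e i] : Fin 1 → _) q) x = 0) → act t x = (-s i) • x := by
        intro x hx
        refine hE.eigen hf ht fun q hq => ?_
        by_cases hqi : q = i
        · subst hqi; exact hx 0
        · exact absurd (sgn_eq (hE.sgn q) (hE.sgn i) (hu q hqi)) hq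
      rcases sgn_cases (hE.sgn i) with h | h
      · left
        refine act_ext fun x => ext_fam hf hi (φ := act (refl S.f₂ (e i)))
          (χ := act ((-1 : GL (Fin b) F) * t)) (fun q => ?_) (fun x hx => ?_) x
        · fin_cases q
          rw [act_mul, act_apply (g := (-1 : GL (Fin b) F)), Units.val_neg, Units.val_one, neg_mulVec,
            one_mulVec]
          show act (refl S.f₂ (e i)) (e i) = -act t (e i)
          rw [refl_self hf (hE.fam.aniso i), hE.eig, h, one_smul]
        · rw [act_mul, act_apply (g := (-1 : GL (Fin b) F)), Units.val_neg, Units.val_one, neg_mulVec,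
            one_mulVec, refl_fix hf (show S.f₂ (e i) x = 0 from hx 0), hpl x hx, h, neg_one_smul, neg_neg]
      · right
        refine act_ext fun x => ext_fam hf hi (φ := act (refl S.f₂ (e i)))
          (χ := act t) (fun q => ?_) (fun x hx => ?_) x
        · fin_cases q
          show act (refl S.f₂ (e i)) (e i) = act t (e i)
          rw [refl_self hf (hE.fam.aniso i), hE.eig, h, neg_one_smul]
        · rw [refl_fix hf (show S.f₂ (e i) x = 0 from hx 0), hpl x hx, h, neg_neg, one_smul]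
    rcases hr with hr | hr
    · have e' : kr (1 : GL (Fin a) F) ((-1 : GL (Fin b) F) * t) = -kr 1 t := by
        refine gl_ext_emb fun v x => ?_
        rw [act_x1, act_mul, act_apply (g := (-1 : GL (Fin b) F)), Units.val_neg, Units.val_one,
          neg_mulVec, one_mulVec, emb_neg_left, act_apply (g := -kr 1 t), Units.val_neg, neg_mulVec,
          ← act_apply, act_x1]
      rw [hr, e', mul_neg, neg_mul, hgt]
    · rw [hr, hgt]
  by_cases hi' : ∃ i', i' ≠ i ∧ s i' = s i
  swap
  · push Not at hi'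
    exact huniq i l hil hi'
  by_cases hl' : ∃ l', l' ≠ l ∧ s l' = s l
  swap
  · push Not at hl'
    exact huniq l i (Ne.symm hil) hl'
  obtain ⟨i', hii, hsi⟩ := hi'
  obtain ⟨l', hll, hsl⟩ := hl'
  obtain ⟨r, hr⟩ := exists_new {i, i', l, l'} (lt_of_le_of_lt Finset.card_le_four (by omega))
  simp only [Finset.mem_insert, Finset.mem_singleton, not_or] at hr
  obtain ⟨h1', h2', h3', h4'⟩ := hr
  rcases sgn_two (hE.sgn i) (hE.sgn l) (hE.sgn r) hil with h | h
  · exact cent_two hS hJ hG ht hE (Ne.symm hii) (Ne.symm h1') (Ne.symm h2') hsi h (Ne.symm hll) hsl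
      (Ne.symm hil)
  · exact cent_two hS hJ hG ht hE (Ne.symm hll) (Ne.symm h3') (Ne.symm h4') hsl h (Ne.symm hii) hsi hil

/-- The conclusion away from dimension six. -/
theorem le_kron_of_ne_six (hb6 : b ≠ 6) : H ≤ Cfsg.Geo.kroneckerSubgroup a b F := by
  classical
  have hf := S.h₂
  have hb := hS.hb
  have hW := fam_nil S.f₂
  obtain ⟨u, hu, -⟩ := exists_value_perp hf hW (by omega) (1 : F)
  have huu : S.f₂ u u ≠ 0 := hu ▸ one_ne_zero
  obtain ⟨u', hu', hp⟩ := exists_value_perp hf (fam_one huu) (by omega) (1 : F)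
  have huu' : S.f₂ u u' = 0 := hp 0
  have huu1 : S.f₂ u' u' ≠ 0 := hu' ▸ one_ne_zero
  have hT := hf.fam_two huu huu1 huu'
  obtain ⟨q, hq, hpq⟩ := exists_value_perp hf hT (by omega) (1 : F)
  have hqq : S.f₂ q q ≠ 0 := hq ▸ one_ne_zero
  have huq : S.f₂ u q = 0 := hpq 0
  have hu'q : S.f₂ u' q = 0 := hpq 1
  obtain ⟨q', hq', hpq'⟩ := exists_value_perp hf (hf.fam_three huu huu1 hqq huu' huq hu'q) (by omega) (1 : F)
  have hqq1 : S.f₂ q' q' ≠ 0 := hq' ▸ one_ne_zero
  have hT'' : Fam S.f₂ ![u, u', q, q'] :=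
    (hf.fam_three huu1 hqq hqq1 hu'q (hpq' 1) (hpq' 2)).cons huu
      (fun i => by
        rw [S.comm₂]
        fin_cases i
        exacts [huu', huq, hpq' 0])
      (fun i => by
        fin_cases i
        exacts [huu', huq, hpq' 0])
  have hT3 : Fam S.f₂ ![u, u', q] := hf.fam_three huu huu1 hqq huu' huq hu'q
  obtain ⟨x, hx, ex⟩ := hf.exists_aniso_fam hT'' (by omega)
  set t := fl S.f₂ ![u, u'] with ht
  set t'' := fl S.f₂ ![u, u', q, q'] with ht''
  have tI := fl_invo hf hT
  have tI'' := fl_invo hf hT''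
  have tu : act t u = -u := fl_mem hf hT 0
  have tq : act t q = q := fl_perp hf hT hpq
  have t''u : act t'' u = -u := fl_mem hf hT'' 0
  have t''x : act t'' x = x := fl_perp hf hT'' ex
  have hspan : ∀ {z : GL (Fin b) F} {g : GL (Fin b) F}, g * t * g⁻¹ = z * t'' → ∀ {σ ε : F} {y},
      act t'' y = σ • y → act z y = ε • y → σ * ε = -1 →
        act g⁻¹ y ∈ Submodule.span F (Set.range ![u, u']) := by
    intro z g e σ ε y h h' hs
    refine fl_neg_span hf hT ?_
    have := pre_eig e h h'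
    rwa [hs, neg_one_smul] at this
  refine fun g hg => le_level hS hG hW (fun t₀ ht₀ _ ht₀Z => ⟨1, one_mem _, by rwa [mul_one], ?_⟩)
    tI (hS.ov.flPair huu huu' (hu.trans hu'.symm)) (fun i => i.elim0) ?_ tI''
    (kr_mem_four hS.ov hT'' (hu.trans hu'.symm) (hq.trans hq'.symm)) (fun i => i.elim0) ?_ ?_ ?_ g hg
    (fun i => i.elim0)
  · rw [mul_one]
    refine centAll hS hJ hG t₀ ht₀ (fun h => ht₀Z (h ▸ one_mem _)) fun h => ht₀Z ?_
    exact ⟨fun i => i.elim0, -1, by ring, fun y _ => by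
      rw [h, act_apply, Units.val_neg, Units.val_one, neg_mulVec, one_mulVec, neg_one_smul]⟩
  · rintro ⟨-, ε, -, hε⟩
    exact not_scalar (S := S) tu tq huu hqq (hε u fun i => i.elim0) (hε q fun i => i.elim0)
  · rintro ⟨-, ε, -, hε⟩
    exact not_scalar (S := S) t''u t''x huu hx (hε u fun i => i.elim0) (hε x fun i => i.elim0)
  · rintro g ν hν hg hl z ⟨-, ε, hε, hεp⟩ e
    have hz : ∀ y, act z y = ε • y := fun y => hεp y fun i => i.elim0
    rcases sgn_cases hε with h | h
    · have := card_le_of_span hT3 (g := g⁻¹) (v := ![u, u']) fun i => hspan e (σ := -1) (by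
        fin_cases i <;> rw [neg_one_smul]
        exacts [fl_mem hf hT'' 0, fl_mem hf hT'' 1, fl_mem hf hT'' 2]) (hz _) (by rw [h]; ring)
      omega
    · rcases Nat.lt_or_ge b 7 with h7 | h7
      · -- dimension five
        obtain rfl : b = 5 := by omega
        have hfive := hT''.cons hx ex fun i => by rw [S.comm₂]; exact ex i
        have := card_le_of_span hT (g := g) (v := ![x]) fun i => ?_
        · omega
        set y := act g ((![u, u'] : Fin 2 → Fin 5 → F) i)
        have hy : act t'' y = y := by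
          have := congrArg (fun h => act h y) e
          simp only [act_mul, y, act_inv_act, fl_mem hf hT, map_neg, hz, h, neg_one_smul] at this
          exact (neg_injective this).symm
        have hperp := fl_fix_perp hf hT'' hy
        refine Submodule.mem_span_range_iff_exists_fun F |>.2 ⟨fun _ => (S.f₂ x x)⁻¹ * S.f₂ x y, ?_⟩
        rw [Fin.sum_univ_one]
        refine (sub_eq_zero.1 (hf.eq_zero_of_basis hfive fun q => ?_)).symm
        refine Fin.cases ?_ (fun q => ?_) q
        · show S.f₂ x _ = 0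
          simp [mul_comm, hx]
        · simp [hperp q, ex q, S.comm₂ x]
      · obtain ⟨w, hw, ew⟩ := hf.exists_three_fam hT'' (by omega)
        have := card_le_of_span hw (g := g⁻¹) (v := ![u, u']) fun i => hspan e (σ := 1)
          (by rw [one_smul]; exact fl_perp hf hT'' fun q => ew q i) (hz _) (by rw [h]; ring)
        omega
  · intro g ν hν hg hl z hz e
    obtain ⟨-, ε, hε, hεp⟩ := hz
    have hz : ∀ y, act z y = ε • y := fun y => hεp y fun i => i.elim0
    have hε1 : ε = 1 := (sgn_cases hε).resolve_right fun h => by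
      obtain ⟨w, hw, ew⟩ := hf.exists_three_fam hT (by omega)
      have := card_le_of_span hw (g := g⁻¹) (v := ![u, u']) fun i => fl_neg_span hf hT (by
        have := pre_eig e (σ := 1) (x := w i) (by rw [one_smul]; exact fl_perp hf hT fun q => ew q i) (hz _)
        rwa [h, one_mul, neg_one_smul] at this)
      omega
    exact act_ext fun y => by rw [hz, hε1, one_smul, act_one]

end Cfsg.Agent.TensorOO
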