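import Cfsg.Agent.TensorOO.Level

/-!
Eigenvectors of the involutions negating families, and flips of eigenbases (helper19).
-/

set_option autoImplicit false
set_option linter.unusedSectionVars false
set_option linter.unusedSimpArgs false

namespace Cfsg.Agent.TensorOO

open Matrix hiding col
open Cfsg.Agent.MaxSub Cfsg.Agent.TensorMax Cfsg.Agent.TensorInv Module

variable {F : Type*} [Field F] {m k p : ℕ} {f : (Fin m → F) →ₗ[F] (Fin m → F) →ₗ[F] F}

theorem sgn_cases {x : F} (h : x * x = 1) : x = 1 ∨ x = -1 :=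
  mul_self_eq_one_iff.1 h

/-- A new index. -/
theorem exists_new (A : Finset (Fin m)) (h : A.card < m) : ∃ i, i ∉ A := by
  by_contra hc
  push Not at hc
  have := Finset.card_le_card (show (Finset.univ : Finset (Fin m)) ⊆ A from fun i _ => hc i)
  rw [Finset.card_univ, Fintype.card_fin] at this
  omega

/-- Orthogonal vectors whose images lie in the span of fewer vectors do not exist. -/
theorem card_le_of_span {u : Fin p → Fin m → F} (hu : Fam f u) {g : GL (Fin m) F}
    {v : Fin k → Fin m → F} (h : ∀ i, act g (u i) ∈ Submodule.span F (Set.range v)) : p ≤ k := by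
  have hli : LinearIndependent F u := by
    rw [Fintype.linearIndependent_iff]
    intro c hc i
    have := congrArg (f (u i)) hc
    rw [map_sum, Finset.sum_eq_single i (fun j _ hj => by
      rw [map_smul, hu.orth i j (Ne.symm hj), smul_zero]) (by simp), map_smul, map_zero,
      smul_eq_mul] at this
    exact (mul_eq_zero.1 this).resolve_right (hu.aniso i)
  have hli' : LinearIndependent F (act g ∘ u) :=
    hli.map' (act g) (LinearMap.ker_eq_bot.2 (act_injective g))
  have h1 := finrank_span_eq_card hli'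
  rw [Fintype.card_fin] at h1
  have h2 : Submodule.span F (Set.range (act g ∘ u)) ≤ Submodule.span F (Set.range v) :=
    Submodule.span_le.2 (by rintro _ ⟨i, rfl⟩; exact h i)
  have h3 := Submodule.finrank_mono h2
  have h4 : (Set.range v).finrank F ≤ Fintype.card (Fin k) := finrank_range_le_card v
  rw [Fintype.card_fin] at h4
  simp only [Set.finrank] at h4
  omega

section

variable (hf : Sym f)
include hf

theorem fl_isom {w : Fin k → Fin m → F} (hw : Fam f w) (x y : Fin m → F) :
    f (act (fl f w) x) (act (fl f w) y) = f x y := by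
  simp only [fl, dif_pos (And.intro hf hw), act_apply, mkGL_mulVec, flMap, LinearMap.sub_apply,
    LinearMap.add_apply, LinearMap.id_apply, map_sub, map_add]
  have e1 := hf.famProj_adj hw x y
  have e2 := hf.famProj_adj hw y x
  rw [hf.symm x (famProj f w y), hf.symm (famProj f w x) (famProj f w y)] at e2
  linear_combination -2 * e1 - 2 * e2

theorem fl_sq {w : Fin k → Fin m → F} (hw : Fam f w) : fl f w * fl f w = 1 := by
  refine act_ext fun x => ext_fam hf hw (φ := act (fl f w * fl f w)) (χ := act 1) (fun i => ?_)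
    (fun x hx => ?_) x
  · rw [act_mul, act_one, fl_mem hf hw, map_neg, fl_mem hf hw, neg_neg]
  · rw [act_mul, act_one, fl_perp hf hw hx, fl_perp hf hw hx]

theorem fl_invo {w : Fin k → Fin m → F} (hw : Fam f w) : Invo f (fl f w) :=
  ⟨fl_isom hf hw, fl_sq hf hw⟩

theorem fl_neg_mem {w : Fin k → Fin m → F} (hw : Fam f w) {y : Fin m → F}
    (h : act (fl f w) y = -y) : y = ∑ i, ((f (w i) (w i))⁻¹ * f (w i) y) • w i := by
  rw [fl, dif_pos (And.intro hf hw), act_apply, mkGL_mulVec] at h
  simp only [flMap, LinearMap.sub_apply, LinearMap.add_apply, LinearMap.id_apply] at h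
  have h' : (2 : F) • famProj f w y = 0 := by linear_combination (norm := module) h
  have := (smul_eq_zero.1 h').resolve_left hf.two
  rwa [hf.famProj_apply, sub_eq_zero] at this

theorem fl_neg_span {w : Fin k → Fin m → F} (hw : Fam f w) {y : Fin m → F}
    (h : act (fl f w) y = -y) : y ∈ Submodule.span F (Set.range w) := by
  rw [fl_neg_mem hf hw h]
  exact Submodule.sum_mem _ fun i _ => Submodule.smul_mem _ _ (Submodule.subset_span ⟨i, rfl⟩)

theorem fl_fix_perp {w : Fin k → Fin m → F} (hw : Fam f w) {y : Fin m → F}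
    (h : act (fl f w) y = y) (i : Fin k) : f (w i) y = 0 := by
  rw [fl, dif_pos (And.intro hf hw), act_apply, mkGL_mulVec] at h
  simp only [flMap, LinearMap.sub_apply, LinearMap.add_apply, LinearMap.id_apply] at h
  have h' : (2 : F) • (famProj f w y - y) = 0 := by linear_combination (norm := module) h
  have e := (smul_eq_zero.1 h').resolve_left hf.two
  rw [sub_eq_zero] at e
  rw [← e]
  exact hf.famProj_perp hw y i

theorem fl_four [Finite F] {p p' q q' : Fin m → F} (hw : Fam f ![p, p', q, q']) :
    fl f ![p, p', q, q'] = refl f p * refl f p' * fl f ![q, q'] := by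
  have h12 : f p p' = 0 := hw.orth 0 1 (by decide)
  have hq : f q q' = 0 := hw.orth 2 3 (by decide)
  have w2 : Fam f ![q, q'] := hf.fam_two (hw.aniso 2) (hw.aniso 3) hq
  have w3 : Fam f ![p', q, q'] :=
    hf.fam_three (hw.aniso 1) (hw.aniso 2) (hw.aniso 3) (hw.orth 1 2 (by decide)) (hw.orth 1 3 (by decide)) hq
  rw [show (![p, p', q, q'] : Fin 4 → Fin m → F) = Fin.cons p ![p', q, q'] from rfl,
    fl_cons hf w3 (u := p) (hw.aniso 0) (fun i => by
      fin_cases i
      · exact hw.orth 1 0 (by decide)
      · exact hw.orth 2 0 (by decide)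
      · exact hw.orth 3 0 (by decide)),
    show (![p', q, q'] : Fin 3 → Fin m → F) = Fin.cons p' ![q, q'] from rfl,
    fl_cons hf w2 (u := p') (hw.aniso 1) (fun i => by
      fin_cases i
      · exact hw.orth 2 1 (by decide)
      · exact hw.orth 3 1 (by decide)), mul_assoc]

/-- A vector of a given value orthogonal to a family. -/
theorem exists_value_perp [Finite F] {w : Fin k → Fin m → F} (hw : Fam f w) (hk : k + 2 ≤ m)
    (c : F) : ∃ u, f u u = c ∧ ∀ i, f (w i) u = 0 := by
  obtain ⟨p, hp, ep⟩ := hf.exists_aniso_fam hw (by omega)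
  obtain ⟨q, hq, eq⟩ := hf.exists_aniso_fam (hw.cons hp ep fun i => by rw [hf.symm, ep]) (by omega)
  have hpq : f p q = 0 := by simpa using eq 0
  obtain ⟨s, t, hst⟩ := exists_value hf hp hq hpq c
  refine ⟨_, hst, fun i => ?_⟩
  have := eq i.succ
  simp only [Fin.cons_succ] at this
  simp [ep i, this]

theorem refl_mem_ZSub {w : Fin k → Fin m → F} (hw : Fam f w) (i : Fin k) :
    refl f (w i) ∈ ZSub f w := by
  refine ⟨fun j => ?_, 1, one_mul 1, fun x hx => by rw [refl_fix hf (hx i), one_smul]⟩
  by_cases h : i = j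
  · subst h
    exact ⟨-1, by ring, by rw [refl_self hf (hw.aniso i), neg_one_smul]⟩
  · exact ⟨1, one_mul 1, by rw [refl_fix hf (hw.orth i j h), one_smul]⟩

/-- The sign of one basis vector may be chosen. -/
theorem Frame.exists_flip {w : Fin k → Fin m → F} (hw : Fam f w) {t : GL (Fin m) F} (ht : Invo f t)
    {e : Fin m → Fin m → F} {s : Fin m → F} (hE : Frame f t e s) {i : Fin m} {i₀ : Fin k}
    (hi : e i = w i₀) {σ : F} (hσ : σ * σ = 1) :
    ∃ r ∈ ZSub f w, Invo f (t * r) ∧ ∃ s', Frame f (t * r) e s' ∧ s' i = σ ∧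
      ∀ l, l ≠ i → s' l = s l := by
  classical
  by_cases h : s i = σ
  · exact ⟨1, one_mem _, by rwa [mul_one], s, by rwa [mul_one], h, fun _ _ => rfl⟩
  have hl : ∀ l, act (refl f (e i)) (e l) = (if l = i then (-1 : F) else 1) • e l := fun l => by
    by_cases hli : l = i
    · subst hli
      rw [if_pos rfl, refl_self hf (hE.fam.aniso l), neg_one_smul]
    · rw [if_neg hli, refl_fix hf (hE.fam.orth i l (Ne.symm hli)), one_smul]
  refine ⟨refl f (w i₀), refl_mem_ZSub hf hw i₀, ⟨fun x y => ?_, ?_⟩,
    Function.update s i σ, ⟨hE.fam, fun l => ?_, fun l => ?_⟩, Function.update_self _ _ _,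
    fun l hl' => Function.update_of_ne hl' _ _⟩
  · rw [act_mul, act_mul, ht.isom, refl_form hf.symm (hw.aniso i₀)]
  · have hc := refl_comm (f := f) (hw.aniso i₀) one_ne_zero (fun x y => by rw [ht.isom, one_mul])
      (by rw [← hi, hE.eig])
    rw [mul_assoc, ← mul_assoc _ t, ← hc, mul_assoc, refl_refl, mul_one, ht.sq]
  · rw [act_mul, ← hi, hl, map_smul, hE.eig, smul_smul]
    congr 1
    by_cases hli : l = i
    · subst hli
      rw [if_pos rfl, Function.update_self, sgn_eq (hE.sgn l) hσ h]
      ring
    · rw [if_neg hli, Function.update_of_ne hli, one_mul]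
  · by_cases hli : l = i
    · subst hli; rw [Function.update_self]; exact hσ
    · rw [Function.update_of_ne hli]; exact hE.sgn l

/-- Off a signed map two basis vectors outside the family have different signs. -/
theorem Frame.exists_mixed {w : Fin k → Fin m → F} {t : GL (Fin m) F} (ht : Invo f t)
    (htw : ∀ i, ∃ σ : F, act t (w i) = σ • w i) (hw : Fam f w)
    {e : Fin m → Fin m → F} {s : Fin m → F} (hE : Frame f t e s) {ι : Fin k → Fin m}
    (hι : ∀ i, e (ι i) = w i) (hk : k < m) (htZ : t ∉ ZSub f w) :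
    ∃ j l, (∀ i, ι i ≠ j) ∧ (∀ i, ι i ≠ l) ∧ s j ≠ s l := by
  classical
  obtain ⟨j, hj⟩ := exists_new (Finset.univ.image ι) (lt_of_le_of_lt Finset.card_image_le (by simpa using hk))
  simp only [Finset.mem_image, Finset.mem_univ, true_and, not_exists] at hj
  by_contra hc
  push Not at hc
  refine htZ ⟨fun i => ?_, s j, hE.sgn j, fun x hx => hE.eigen hf ht fun l hl => ?_⟩
  · obtain ⟨σ, hσ⟩ := htw i
    refine ⟨σ, ?_, hσ⟩
    have := ht.isom (w i) (w i)
    rw [hσ, map_smul, map_smul, LinearMap.smul_apply, smul_eq_mul, smul_eq_mul, ← mul_assoc] at this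
    exact mul_right_cancel₀ (hw.aniso i) (by linear_combination this)
  · by_cases h : ∃ i, ι i = l
    · obtain ⟨i, rfl⟩ := h
      rw [hι]
      exact hx i
    · push Not at h
      exact absurd (hc j l hj h).symm hl

end

end Cfsg.Agent.TensorOO
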