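import Cfsg.Agent.TensorInv.Sym

/-!
The tensor product of two non-degenerate symmetric forms in odd characteristic and the groups of
isometries over the products of pairs of reflections of the factors (helper19).
-/

set_option autoImplicit false
set_option linter.unusedSectionVars false
set_option linter.unusedSimpArgs false

namespace Cfsg.Agent.TensorOO

open Matrix hiding col
open Cfsg.Agent.MaxSub Cfsg.Agent.TensorMax Cfsg.Agent.TensorInv Module

variable {F : Type*} [Field F] {a b : ℕ}

/-- Two non-degenerate symmetric forms. -/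
structure OForm (F : Type*) [Field F] (a b : ℕ) where
  f₁ : (Fin a → F) →ₗ[F] (Fin a → F) →ₗ[F] F
  f₂ : (Fin b → F) →ₗ[F] (Fin b → F) →ₗ[F] F
  h₁ : Sym f₁
  h₂ : Sym f₂

namespace OForm

variable (S : OForm F a b)

include S in
theorem two : (2 : F) ≠ 0 := Sym.two S.h₁

theorem comm₁ (x y : Fin a → F) : S.f₁ y x = S.f₁ x y := S.h₁.symm x y

theorem comm₂ (x y : Fin b → F) : S.f₂ y x = S.f₂ x y := S.h₂.symm x y

theorem eq₁ {x x' : Fin a → F} (h : ∀ y, S.f₁ y x = S.f₁ y x') : x = x' :=
  sub_eq_zero.1 (S.h₁.nd _ fun y => by rw [← S.comm₁, map_sub, h, sub_self])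

theorem eq₂ {v v' : Fin b → F} (h : ∀ w, S.f₂ w v = S.f₂ w v') : v = v' :=
  sub_eq_zero.1 (S.h₂.nd _ fun y => by rw [← S.comm₂, map_sub, h, sub_self])

theorem exists_rep₁ (ξ : (Fin a → F) →ₗ[F] F) : ∃ d, ∀ x, S.f₁ d x = ξ x := by
  have hinj : Function.Injective S.f₁ := (injective_iff_map_eq_zero _).2 fun u hu =>
    S.h₁.nd u fun x => LinearMap.congr_fun hu x
  obtain ⟨d, hd⟩ := (LinearMap.injective_iff_surjective_of_finrank_eq_finrank
    (by rw [Subspace.dual_finrank_eq])).mp hinj ξ
  exact ⟨d, fun x => LinearMap.congr_fun hd x⟩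

/-- The coordinates of `f₂(v, ·)`. -/
def dual (v : Fin b → F) : Fin b → F := fun j => S.f₂ v (Pi.single j 1)

theorem dual_dot (v w : Fin b → F) : S.dual v ⬝ᵥ w = S.f₂ v w := by
  conv_rhs => rw [pi_eq_sum_univ' w]
  simp only [map_sum, map_smul, smul_eq_mul, dual, dotProduct]
  exact Finset.sum_congr rfl fun j _ => mul_comm _ _

/-- The contraction `id ⊗ f₂(v, ·)`. -/
def pi (v : Fin b → F) : V F a b →ₗ[F] (Fin a → F) := ctr (S.dual v)

theorem pi_emb (v w : Fin b → F) (x : Fin a → F) : S.pi v (emb w x) = S.f₂ v w • x := by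
  rw [pi, ctr_emb, S.dual_dot]

theorem pi_add (v w : Fin b → F) (z : V F a b) : S.pi (v + w) z = S.pi v z + S.pi w z := by
  rw [eq_sum_emb z]
  simp [map_sum, pi_emb, add_smul, Finset.sum_add_distrib]

theorem pi_smul (c : F) (v : Fin b → F) (z : V F a b) : S.pi (c • v) z = c • S.pi v z := by
  rw [eq_sum_emb z]
  simp [map_sum, pi_emb, Finset.smul_sum, smul_smul]

theorem pi_sub (v w : Fin b → F) (z : V F a b) : S.pi (v - w) z = S.pi v z - S.pi w z := by
  rw [sub_eq_add_neg, pi_add, ← neg_one_smul F w, pi_smul, neg_one_smul, sub_eq_add_neg]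

theorem pi_neg (v : Fin b → F) (z : V F a b) : S.pi (-v) z = -S.pi v z := by
  rw [← neg_one_smul F v, pi_smul, neg_one_smul]

/-- The contraction as a linear map of the vector of the second factor. -/
def piL (z : V F a b) : (Fin b → F) →ₗ[F] (Fin a → F) where
  toFun v := S.pi v z
  map_add' v w := S.pi_add v w z
  map_smul' c v := S.pi_smul c v z

/-- The product form. -/
def om (z z' : V F a b) : F :=
  ∑ j, S.f₁ (col j z) (S.pi (Pi.single j 1) z')

theorem om_bilinear : Geo.IsBilinearForm S.om where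
  add_left x y v := by simp [om, Finset.sum_add_distrib]
  smul_left c x v := by simp [om, Finset.mul_sum]
  add_right v x y := by simp [om, Finset.sum_add_distrib]
  smul_right c v x := by simp [om, Finset.mul_sum]

theorem om_add_left (x y v : V F a b) : S.om (x + y) v = S.om x v + S.om y v :=
  S.om_bilinear.add_left x y v

theorem om_add_right (v x y : V F a b) : S.om v (x + y) = S.om v x + S.om v y :=
  S.om_bilinear.add_right v x y

theorem om_smul_left (c : F) (x v : V F a b) : S.om (c • x) v = c * S.om x v :=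
  S.om_bilinear.smul_left c x v

theorem om_smul_right (c : F) (v x : V F a b) : S.om v (c • x) = c * S.om v x :=
  S.om_bilinear.smul_right c v x

theorem om_sub_left (x y v : V F a b) : S.om (x - y) v = S.om x v - S.om y v :=
  form_sub_left S.om_bilinear x y v

theorem om_sub_right (v x y : V F a b) : S.om v (x - y) = S.om v x - S.om v y :=
  form_sub_right S.om_bilinear v x y

theorem om_sum_left {ι : Type*} (s : Finset ι) (g : ι → V F a b) (v : V F a b) :
    S.om (∑ j ∈ s, g j) v = ∑ j ∈ s, S.om (g j) v :=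
  map_sum (lmap S.om_bilinear v) g s

theorem om_emb (v : Fin b → F) (x : Fin a → F) (z : V F a b) :
    S.om (emb v x) z = S.f₁ x (S.pi v z) := by
  have h : S.pi v z = ∑ j, v j • S.pi (Pi.single j 1) z := by
    show S.piL z v = ∑ j, v j • S.piL z (Pi.single j 1)
    conv_lhs => rw [pi_eq_sum_univ' v]
    simp [map_sum]
  rw [h, map_sum]
  refine Finset.sum_congr rfl fun j _ => ?_
  rw [show col j (emb v x) = v j • x from funext fun i => mul_comm _ _, map_smul,
    LinearMap.smul_apply, map_smul]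

theorem om_emb_emb (v w : Fin b → F) (x y : Fin a → F) :
    S.om (emb v x) (emb w y) = S.f₁ x y * S.f₂ v w := by
  rw [om_emb, pi_emb, map_smul, smul_eq_mul, mul_comm]

theorem om_ext {g g' : V F a b →ₗ[F] V F a b}
    (h : ∀ v x w y, S.om (g (emb v x)) (g' (emb w y)) = S.f₁ x y * S.f₂ v w) (z z' : V F a b) :
    S.om (g z) (g' z') = S.om z z' := by
  have hl : ∀ v x z', S.om (g (emb v x)) (g' z') = S.om (emb v x) z' := fun v x z' => by
    rw [eq_sum_emb z', map_sum, ← rmap_apply S.om_bilinear, ← rmap_apply S.om_bilinear, map_sum,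
      map_sum]
    exact Finset.sum_congr rfl fun j _ => by simp only [rmap_apply]; rw [h, om_emb_emb]
  rw [eq_sum_emb z, map_sum, om_sum_left, om_sum_left]
  exact Finset.sum_congr rfl fun j _ => hl _ _ _

theorem om_symm (z z' : V F a b) : S.om z' z = S.om z z' := by
  have hl : ∀ v x z', S.om z' (emb v x) = S.om (emb v x) z' := fun v x z' => by
    rw [eq_sum_emb z', om_sum_left, ← rmap_apply S.om_bilinear, map_sum]
    exact Finset.sum_congr rfl fun j _ => by
      simp only [rmap_apply]; rw [om_emb_emb, om_emb_emb, S.comm₁, S.comm₂]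
  conv_lhs => rw [eq_sum_emb z, ← rmap_apply S.om_bilinear, map_sum]
  conv_rhs => rw [eq_sum_emb z, om_sum_left]
  exact Finset.sum_congr rfl fun j _ => hl _ _ _

theorem om_emb_right (v : Fin b → F) (x : Fin a → F) (z : V F a b) :
    S.om z (emb v x) = S.f₁ x (S.pi v z) := by rw [S.om_symm, S.om_emb]

theorem eq_of_pi {z z' : V F a b} (h : ∀ d, S.pi d z = S.pi d z') : z = z' := by
  funext p
  have hcol : ∀ (ξ : (Fin a → F) →ₗ[F] F), (fun j => ξ (col j z)) = (fun j => ξ (col j z')) := by
    intro ξ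
    refine S.eq₂ fun d => ?_
    have e : ∀ z : V F a b, S.f₂ d (fun j => ξ (col j z)) = ξ (S.pi d z) := fun z => by
      conv_lhs => rw [pi_eq_sum_univ' (fun j => ξ (col j z))]
      conv_rhs => rw [eq_sum_emb z]
      simp [map_sum, pi_emb, mul_comm]
    rw [e, e, h]
  exact congrFun (hcol (LinearMap.proj p.1)) p.2

theorem eq_of_om {z z' : V F a b} (h : ∀ x, S.om x z = S.om x z') : z = z' := by
  refine S.eq_of_pi fun d => S.eq₁ fun x => ?_
  have := h (emb d x)
  rwa [om_emb, om_emb] at this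

theorem mem_isom_of_emb {g : GL (Fin a × Fin b) F}
    (h : ∀ v x w y, S.om (act g (emb v x)) (act g (emb w y)) = S.f₁ x y * S.f₂ v w) :
    g ∈ isom S.om := by
  rw [mem_isom]
  exact S.om_ext (g := act g) (g' := act g) h

theorem kr_mem_isom {g : GL (Fin a) F} {k : GL (Fin b) F}
    (hg : ∀ x y, S.f₁ (act g x) (act g y) = S.f₁ x y)
    (hk : ∀ v w, S.f₂ (act k v) (act k w) = S.f₂ v w) : kr g k ∈ isom S.om :=
  S.mem_isom_of_emb fun v x w y => by rw [act_kr, act_kr, om_emb_emb, hg, hk]

theorem om_act {h : GL (Fin a × Fin b) F} (hh : h ∈ isom S.om) (z z' : V F a b) :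
    S.om (act h z) (act h z') = S.om z z' := mem_isom.1 hh z z'

theorem pi_kr (g : GL (Fin a) F) {k : GL (Fin b) F}
    (hk : ∀ v w, S.f₂ (act k v) (act k w) = S.f₂ v w) (d : Fin b → F) (z : V F a b) :
    S.pi d (act (kr g k) z) = act g (S.pi (act k⁻¹ d) z) := by
  rw [eq_sum_emb z]
  simp only [map_sum, act_kr, pi_emb, map_smul]
  refine Finset.sum_congr rfl fun j _ => ?_
  congr 1
  conv_lhs => rw [← act_act_inv k d, hk]

/-- A vector killed by the contractions of an isometric image fixes the moved contraction. -/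
theorem pi_fix {h : GL (Fin a × Fin b) F} (hh : h ∈ isom S.om) {w : Fin b → F}
    (hw : ∀ x, act h (emb w x) = emb w x) (z : V F a b) : S.pi w (act h z) = S.pi w z := by
  refine S.eq₁ fun x => ?_
  rw [← S.om_emb, ← S.om_emb]
  conv_lhs => rw [← hw x]
  rw [S.om_act hh]

end OForm

/-- A group of isometries containing the products of two reflections of equal values of the factors. -/
structure Over (S : OForm F a b) (H : Subgroup (GL (Fin a × Fin b) F)) : Prop where
  isom : H ≤ MaxSub.isom S.om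
  rA : ∀ x x', S.f₁ x x ≠ 0 → S.f₁ x x = S.f₁ x' x' →
    kr (refl S.f₁ x * refl S.f₁ x') (1 : GL (Fin b) F) ∈ H
  rB : ∀ v v', S.f₂ v v ≠ 0 → S.f₂ v v = S.f₂ v' v' →
    kr (1 : GL (Fin a) F) (refl S.f₂ v * refl S.f₂ v') ∈ H

/-- A root element attached to a singular vector of the second factor. -/
def Root (S : OForm F a b) (H : Subgroup (GL (Fin a × Fin b) F)) : Prop :=
  ∃ (n : Fin b → F) (ψ : (Fin a → F) →ₗ[F] (Fin a → F)), n ≠ 0 ∧ S.f₂ n n = 0 ∧ ψ ≠ 0 ∧
    ∃ u ∈ H, ∀ z, act u z = z + emb n (ψ (S.pi n z))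

end Cfsg.Agent.TensorOO
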