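import Cfsg.Agent.TensorOO.Blocks

/-!
The dihedral argument for the centraliser of the reflections of an orthogonal family of the second
factor (helper19).
-/

set_option autoImplicit false
set_option linter.unusedSectionVars false
set_option linter.unusedSimpArgs false

namespace Cfsg.Agent.TensorOO

open Matrix hiding col
open Cfsg.Agent.MaxSub Cfsg.Agent.TensorMax Cfsg.Agent.TensorInv Module

variable {F : Type*} [Field F] {a b m k : ℕ}

/-- Linear maps agreeing on an orthogonal family and its orthogonal space are equal. -/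
theorem ext_fam {f : (Fin m → F) →ₗ[F] (Fin m → F) →ₗ[F] F} (hf : Sym f)
    {w : Fin k → Fin m → F} (hw : Fam f w) {φ χ : (Fin m → F) →ₗ[F] (Fin m → F)}
    (h1 : ∀ i, φ (w i) = χ (w i)) (h2 : ∀ x, (∀ i, f (w i) x = 0) → φ x = χ x) (x : Fin m → F) :
    φ x = χ x := by
  have e := hf.famProj_apply w x
  rw [eq_sub_iff_add_eq] at e
  rw [← e, map_add, map_add, map_sum, map_sum, h2 _ (hf.famProj_perp hw x)]
  simp only [map_smul, h1]

/-- The signed maps of an orthogonal family. -/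
def ZSub (f : (Fin m → F) →ₗ[F] (Fin m → F) →ₗ[F] F) (w : Fin k → Fin m → F) :
    Subgroup (GL (Fin m) F) where
  carrier := {z | (∀ i, ∃ ε : F, ε * ε = 1 ∧ act z (w i) = ε • w i) ∧
    ∃ ε : F, ε * ε = 1 ∧ ∀ x, (∀ i, f (w i) x = 0) → act z x = ε • x}
  one_mem' := ⟨fun i => ⟨1, one_mul 1, by rw [act_one, one_smul]⟩,
    1, one_mul 1, fun x _ => by rw [act_one, one_smul]⟩
  mul_mem' := by
    rintro z z' ⟨hz, ε, hε, hzp⟩ ⟨hz', ε', hε', hzp'⟩
    refine ⟨fun i => ?_, ε' * ε, by linear_combination ε * ε * hε' + hε, fun x hx => ?_⟩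
    · obtain ⟨s, hs, e⟩ := hz i
      obtain ⟨s', hs', e'⟩ := hz' i
      exact ⟨s' * s, by linear_combination s * s * hs' + hs, by
        rw [act_mul, e', map_smul, e, smul_smul]⟩
    · rw [act_mul, hzp' x hx, map_smul, hzp x hx, smul_smul]
  inv_mem' := by
    rintro z ⟨hz, ε, hε, hzp⟩
    refine ⟨fun i => ?_, ε, hε, fun x hx => act_injective z ?_⟩
    · obtain ⟨s, hs, e⟩ := hz i
      exact ⟨s, hs, act_injective z (by rw [act_act_inv, map_smul, e, smul_smul, hs, one_smul])⟩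
    · rw [act_act_inv, map_smul, hzp x hx, smul_smul, hε, one_smul]

theorem mem_ZSub {f : (Fin m → F) →ₗ[F] (Fin m → F) →ₗ[F] F} {w : Fin k → Fin m → F}
    {z : GL (Fin m) F} :
    z ∈ ZSub f w ↔ (∀ i, ∃ ε : F, ε * ε = 1 ∧ act z (w i) = ε • w i) ∧
      ∃ ε : F, ε * ε = 1 ∧ ∀ x, (∀ i, f (w i) x = 0) → act z x = ε • x := Iff.rfl

section

variable {f : (Fin m → F) →ₗ[F] (Fin m → F) →ₗ[F] F} (hf : Sym f) {w : Fin k → Fin m → F}
  (hw : Fam f w)
include hf hw

theorem ZSub.apply {z : GL (Fin m) F} {ε : Fin k → F} {ε₀ : F}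
    (h1 : ∀ i, act z (w i) = ε i • w i) (h2 : ∀ x, (∀ i, f (w i) x = 0) → act z x = ε₀ • x)
    (x : Fin m → F) :
    act z x = ε₀ • x + ∑ i, ((ε i - ε₀) / f (w i) (w i) * f (w i) x) • w i := by
  refine (ext_fam hf hw (φ := act z) (χ := ε₀ • LinearMap.id +
    ∑ i, (((ε i - ε₀) / f (w i) (w i)) • f (w i)).smulRight (w i)) (fun j => ?_) (fun x hx => ?_)
    x).trans (by simp [LinearMap.sum_apply])
  · rw [h1, LinearMap.add_apply, LinearMap.sum_apply, Finset.sum_eq_single j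
      (fun i _ hij => by simp [hw.orth i j hij]) (by simp)]
    simp only [LinearMap.smul_apply, LinearMap.id_apply, LinearMap.smulRight_apply, smul_eq_mul,
      div_mul_cancel₀ _ (hw.aniso j)]
    module
  · rw [h2 x hx, LinearMap.add_apply, LinearMap.sum_apply,
      Finset.sum_eq_zero (fun i _ => by simp [hx i])]
    simp

theorem ZSub.sq {z : GL (Fin m) F} (hz : z ∈ ZSub f w) : z * z = 1 := by
  obtain ⟨hz, ε, hε, hzp⟩ := hz
  refine act_ext fun x => ext_fam hf hw (φ := act (z * z)) (χ := act 1) (fun i => ?_) (fun x hx => ?_) x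
  · obtain ⟨s, hs, e⟩ := hz i
    rw [act_one, act_mul, e, map_smul, e, smul_smul, hs, one_smul]
  · rw [act_one, act_mul, hzp x hx, map_smul, hzp x hx, smul_smul, hε, one_smul]

theorem ZSub.invo {z : GL (Fin m) F} (hz : z ∈ ZSub f w) : Invo f z := by
  have hsq := ZSub.sq hf hw hz
  obtain ⟨hz, ε₀, -, hzp⟩ := hz
  choose ε hε he using hz
  refine ⟨fun x y => ?_, hsq⟩
  have hadj : ∀ u v, f u (act z v) = f (act z u) v := fun u v => by
    rw [ZSub.apply hf hw he hzp, ZSub.apply hf hw he hzp]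
    simp only [map_add, map_sum, map_smul, LinearMap.add_apply, LinearMap.sum_apply,
      LinearMap.smul_apply, smul_eq_mul]
    congr 1
    exact Finset.sum_congr rfl fun i _ => by rw [hf.symm (w i) u]; ring
  rw [← hadj, ← act_mul, hsq, act_one]

end

/-- A similitude fixing the line of an anisotropic vector commutes with its reflection. -/
theorem refl_comm {f : (Fin m → F) →ₗ[F] (Fin m → F) →ₗ[F] F} {v : Fin m → F} (hv : f v v ≠ 0)
    {g : GL (Fin m) F} {ν c : F} (hν : ν ≠ 0) (hg : ∀ x y, f (act g x) (act g y) = ν * f x y)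
    (hc : act g v = c • v) : g * refl f v = refl f v * g := by
  refine act_ext fun y => ?_
  have e1 := hg v v
  rw [hc, map_smul, map_smul, LinearMap.smul_apply, smul_eq_mul, smul_eq_mul, ← mul_assoc] at e1
  have e1' : c * c = ν := mul_right_cancel₀ hv e1
  have e2 := hg v y
  rw [hc, map_smul, LinearMap.smul_apply, smul_eq_mul] at e2
  have hc0 : c ≠ 0 := fun h => hν (by rw [← e1', h, mul_zero])
  have e3 : f v (act g y) = c * f v y := mul_left_cancel₀ hc0 (by linear_combination e2 - f v y * e1')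
  rw [act_mul, act_mul, refl_apply, refl_apply, map_sub, map_smul, hc, e3, smul_smul]
  congr 2
  ring

/-- A map commuting with a reflection fixes its line. -/
theorem line_of_refl_comm {f : (Fin m → F) →ₗ[F] (Fin m → F) →ₗ[F] F} (hf : Sym f) {v : Fin m → F}
    (hv : f v v ≠ 0) {g : GL (Fin m) F} (h : g * refl f v = refl f v * g) :
    act g v = (f v (act g v) / f v v) • v := by
  have e := congrArg (fun g => act g v) h
  simp only [act_mul, refl_self hf hv, map_neg, refl_apply] at e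
  have h2 := hf.two
  have : (2 : F) • act g v = (2 : F) • ((f v (act g v) / f v v) • v) := by
    rw [smul_smul, show 2 * (f v (act g v) / f v v) = 2 * f v (act g v) / f v v by ring]
    linear_combination (norm := module) (-1 : F) • e
  exact smul_right_injective _ h2 this

variable {S : OForm F a b}

theorem kr_one_inj (ha : 1 ≤ a) {X Y : GL (Fin b) F}
    (h : kr (1 : GL (Fin a) F) X = kr 1 Y) : X = Y := by
  refine act_ext fun v => ?_
  have := congrArg (fun g => act g (emb v (fun _ => (1 : F)))) h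
  simp only [act_kr, act_one] at this
  funext j
  simpa [emb] using congrFun this (⟨0, ha⟩, j)

variable [Finite F] {H : Subgroup (GL (Fin a × Fin b) F)}

/-- The factors of an isometry in the tensor stabiliser are similitudes. -/
theorem exists_kr (ha : 1 ≤ a) (hb : 1 ≤ b) {g : GL (Fin a × Fin b) F}
    (hg : g ∈ MaxSub.isom S.om) (hK : g ∈ Cfsg.Geo.kroneckerSubgroup a b F) :
    ∃ g₁ g₂, g = kr g₁ g₂ ∧ ∃ ν : F, ν ≠ 0 ∧
      ∀ v w, S.f₂ (act g₂ v) (act g₂ w) = ν * S.f₂ v w := by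
  obtain ⟨A, B, hAB⟩ := hK
  obtain rfl : g = kr A B := Units.ext hAB
  obtain ⟨x, hx⟩ := S.h₁.exists_aniso ha
  obtain ⟨v, hv⟩ := S.h₂.exists_aniso hb
  have h : ∀ v w, S.f₁ (act A x) (act A x) * S.f₂ (act B v) (act B w) = S.f₁ x x * S.f₂ v w :=
    fun v w => by
      have := S.om_act hg (emb v x) (emb w x)
      rwa [act_kr, act_kr, S.om_emb_emb, S.om_emb_emb] at this
  have hA : S.f₁ (act A x) (act A x) ≠ 0 := left_ne_zero_of_mul ((h v v).symm ▸ mul_ne_zero hx hv)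
  refine ⟨A, B, rfl, S.f₁ x x / S.f₁ (act A x) (act A x), div_ne_zero hx hA, fun v w => ?_⟩
  field_simp
  linear_combination h v w

theorem kr_conj_one {g₁ : GL (Fin a) F} {g₂ t : GL (Fin b) F} :
    kr g₁ g₂ * kr 1 t * (kr g₁ g₂)⁻¹ = kr 1 (g₂ * t * g₂⁻¹) := by
  rw [kr_inv, kr_mul, kr_mul, mul_one, mul_inv_cancel]

/-- The signed maps commute with what commutes with the reflections. -/
theorem ZSub.central {w : Fin k → Fin b → F} (hw : Fam S.f₂ w) {z : GL (Fin b) F}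
    (hz : z ∈ ZSub S.f₂ w) {g : GL (Fin a × Fin b) F}
    (hg : ∀ i, g * kr 1 (refl S.f₂ (w i)) = kr 1 (refl S.f₂ (w i)) * g) :
    g * kr 1 z = kr 1 z * g := by
  obtain ⟨hz, ε₀, -, hzp⟩ := hz
  choose ε hε he using hz
  let Φ : V F a b →ₗ[F] V F a b := ε₀ • LinearMap.id +
    ∑ i, ((ε₀ - ε i) / 2) • (act (kr 1 (refl S.f₂ (w i))) - LinearMap.id)
  have hΦ : ∀ y, act (kr (1 : GL (Fin a) F) z) y = Φ y := by
    refine fun y => ext_emb (fun v x => ?_) y
    simp only [Φ, act_kr, act_one, ZSub.apply S.h₂ hw he hzp v, LinearMap.add_apply,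
      LinearMap.sum_apply, LinearMap.smul_apply, LinearMap.sub_apply, LinearMap.id_apply, refl_apply]
    rw [emb_add_left, emb_smul_left]
    congr 1
    rw [show emb (∑ i, ((ε i - ε₀) / S.f₂ (w i) (w i) * S.f₂ (w i) v) • w i) x =
      embR x (∑ i, ((ε i - ε₀) / S.f₂ (w i) (w i) * S.f₂ (w i) v) • w i) from rfl, map_sum]
    refine Finset.sum_congr rfl fun i _ => ?_
    rw [map_smul, show embR x (w i) = emb (w i) x from rfl, emb_sub_left, emb_smul_left,
      sub_sub_cancel_left, smul_neg, smul_smul, ← neg_smul]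
    congr 1
    have := S.two
    have := hw.aniso i
    field_simp
    ring
  refine gl_ext fun y => ?_
  show act (g * kr 1 z) y = act (kr 1 z * g) y
  rw [act_mul, act_mul, hΦ, hΦ]
  simp only [Φ, LinearMap.add_apply, LinearMap.sum_apply, LinearMap.smul_apply, LinearMap.sub_apply,
    LinearMap.id_apply, map_add, map_sum, map_smul, map_sub]
  congr 1
  exact Finset.sum_congr rfl fun i _ => by rw [← act_mul, hg i, act_mul]

/-- The dihedral argument at the level of a family. -/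
theorem le_level (hS : Std S H) (hG : GoodK S H) {w : Fin k → Fin b → F} (hw : Fam S.f₂ w)
    (hc : ∀ t, Invo S.f₂ t → (∀ i, ∃ σ : F, act t (w i) = σ • w i) → t ∉ ZSub S.f₂ w →
      ∃ r ∈ ZSub S.f₂ w, Invo S.f₂ (t * r) ∧ Cent H (kr 1 (t * r)))
    {t t'' : GL (Fin b) F} (ht : Invo S.f₂ t) (htH : kr 1 t ∈ H)
    (htw : ∀ i, ∃ σ : F, act t (w i) = σ • w i) (htZ : t ∉ ZSub S.f₂ w)
    (ht'' : Invo S.f₂ t'') (htH'' : kr 1 t'' ∈ H)
    (htw'' : ∀ i, ∃ σ : F, act t'' (w i) = σ • w i) (htZ'' : t'' ∉ ZSub S.f₂ w)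
    (n1 : ∀ g : GL (Fin b) F, ∀ ν : F, ν ≠ 0 →
      (∀ v v', S.f₂ (act g v) (act g v') = ν * S.f₂ v v') → (∀ i, ∃ c : F, act g (w i) = c • w i) →
      ∀ z ∈ ZSub S.f₂ w, g * t * g⁻¹ ≠ z * t'')
    (n2 : ∀ g : GL (Fin b) F, ∀ ν : F, ν ≠ 0 →
      (∀ v v', S.f₂ (act g v) (act g v') = ν * S.f₂ v v') → (∀ i, ∃ c : F, act g (w i) = c • w i) →
      ∀ z ∈ ZSub S.f₂ w, g * t * g⁻¹ = z * t → z = 1) :
    ∀ g ∈ H, (∀ i, g * kr 1 (refl S.f₂ (w i)) = kr 1 (refl S.f₂ (w i)) * g) →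
      g ∈ Cfsg.Geo.kroneckerSubgroup a b F := by
  have ha : 1 ≤ a := by have := hS.ha; omega
  have hb : 1 ≤ b := by have := hS.hb; omega
  let R : Set (GL (Fin a × Fin b) F) := Set.range fun i => kr 1 (refl S.f₂ (w i))
  let G := H ⊓ Subgroup.centralizer R
  have hGR : ∀ {g}, g ∈ G → ∀ i, g * kr 1 (refl S.f₂ (w i)) = kr 1 (refl S.f₂ (w i)) * g :=
    fun hg i => (Subgroup.mem_centralizer_iff.1 hg.2 _ ⟨i, rfl⟩).symm
  suffices hle : G ≤ Cfsg.Geo.kroneckerSubgroup a b F from fun g hg hgR =>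
    hle ⟨hg, Subgroup.mem_centralizer_iff.2 fun _ ⟨i, hi⟩ => by rw [← hi]; exact (hgR i).symm⟩
  let x1 : GL (Fin b) F →* GL (Fin a × Fin b) F :=
    MonoidHom.mk' (fun g => kr 1 g) fun g g' => (kr_one_mul g g').symm
  let Z := (ZSub S.f₂ w).map x1
  have hline : ∀ {g : GL (Fin b) F} {ν : F}, ν ≠ 0 →
      (∀ v v', S.f₂ (act g v) (act g v') = ν * S.f₂ v v') → ∀ {i}, (∃ c : F, act g (w i) = c • w i) →
      g * refl S.f₂ (w i) = refl S.f₂ (w i) * g :=
    fun hν hg _ ⟨_, hc⟩ => refl_comm (hw.aniso _) hν hg hc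
  have hmem : ∀ {t : GL (Fin b) F}, Invo S.f₂ t → (∀ i, ∃ σ : F, act t (w i) = σ • w i) →
      kr (1 : GL (Fin a) F) t ∈ H → kr (1 : GL (Fin a) F) t ∈ G := fun ht htw htH =>
    ⟨htH, Subgroup.mem_centralizer_iff.2 fun _ ⟨i, hi⟩ => by
      rw [← hi, kr_one_mul, kr_one_mul,
        hline one_ne_zero (fun v v' => by rw [ht.isom, one_mul]) (htw i)]⟩
  have hsplit : ∀ {g}, g ∈ G → g ∈ Cfsg.Geo.kroneckerSubgroup a b F → ∃ g₁ g₂, g = kr g₁ g₂ ∧
      ∃ ν : F, ν ≠ 0 ∧ (∀ v v', S.f₂ (act g₂ v) (act g₂ v') = ν * S.f₂ v v') ∧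
        ∀ i, ∃ c : F, act g₂ (w i) = c • w i := by
    intro g hg hK
    obtain ⟨g₁, g₂, rfl, ν, hν, hs⟩ := exists_kr ha hb (hS.ov.isom hg.1) hK
    refine ⟨g₁, g₂, rfl, ν, hν, hs, fun i => ⟨_, line_of_refl_comm S.h₂ (hw.aniso i) ?_⟩⟩
    have e := hGR hg i
    rw [kr_mul, kr_mul, mul_one, one_mul] at e
    have e' := congrArg (fun x => kr g₁⁻¹ (1 : GL (Fin b) F) * x) e
    simp only [kr_mul, inv_mul_cancel, one_mul] at e'
    exact kr_one_inj ha e'
  have htj : ∀ {t : GL (Fin b) F}, Invo S.f₂ t → (∀ i, ∃ σ : F, act t (w i) = σ • w i) →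
      t ∉ ZSub S.f₂ w → ∀ g ∈ G, g * kr 1 t * g⁻¹ ∈ Cfsg.Geo.kroneckerSubgroup a b F →
        g ∈ Cfsg.Geo.kroneckerSubgroup a b F := by
    intro t ht htw htZ g hg hK
    obtain ⟨r, hr, hir, hcr⟩ := hc t ht htw htZ
    refine hG _ (kr_mem _ _) (S.kr_mem_isom (fun x y => by rw [act_one, act_one]) hir.isom)
      (by rw [kr_one_mul, hir.sq, kr_one]) hcr g hg.1 ?_
    rw [← kr_one_mul, show g * (kr 1 t * kr 1 r) * g⁻¹ = g * kr 1 t * g⁻¹ * (g * kr 1 r * g⁻¹) by group,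
      ZSub.central hw hr (hGR hg), mul_inv_cancel_right]
    exact mul_mem hK (kr_mem _ _)
  refine le_of_dihedral (G := G) (K := Cfsg.Geo.kroneckerSubgroup a b F) (Z := Z)
    (j := kr 1 t) (j'' := kr 1 t'') ?_ ?_ (hmem ht htw htH) (kr_mem _ _)
    (by rw [kr_one_mul, ht.sq, kr_one]) (hmem ht'' htw'' htH'') (kr_mem _ _)
    (by rw [kr_one_mul, ht''.sq, kr_one]) (htj ht htw htZ) (htj ht'' htw'' htZ'') ?_ ?_ ?_
  · rintro _ ⟨z, hz, rfl⟩ g hg
    exact ZSub.central hw hz (hGR hg)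
  · rintro _ ⟨z, hz, rfl⟩
    rw [← map_mul, ZSub.sq S.h₂ hw hz, map_one]
  · rintro g hg hK _ ⟨z, hz, rfl⟩ e
    obtain ⟨g₁, g₂, rfl, ν, hν, hs, hl⟩ := hsplit hg hK
    rw [kr_conj_one, show x1 z = kr 1 z from rfl, kr_one_mul] at e
    exact n1 g₂ ν hν hs hl z hz (kr_one_inj ha e)
  · rintro g hg hK _ ⟨z, hz, rfl⟩ e
    obtain ⟨g₁, g₂, rfl, ν, hν, hs, hl⟩ := hsplit hg hK
    rw [kr_conj_one, show x1 z = kr 1 z from rfl, kr_one_mul] at e
    rw [n2 g₂ ν hν hs hl z hz (kr_one_inj ha e), map_one]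
  · intro c hc' hcK x hx hcomm hnZ g hg hgc
    obtain ⟨c₁, c₂, rfl, ν, hν, hs, hl⟩ := hsplit hc' hcK
    obtain ⟨τ, rfl, hτ, hτw⟩ : ∃ τ, x = kr (1 : GL (Fin a) F) τ ∧ Invo S.f₂ τ ∧
        ∀ i, ∃ σ : F, act τ (w i) = σ • w i := by
      rcases hx with rfl | rfl
      exacts [⟨t, rfl, ht, htw⟩, ⟨t'', rfl, ht'', htw''⟩]
    rw [kr_conj_one] at hcomm hnZ hgc
    rw [kr_one_mul, kr_one_mul] at hcomm
    rw [kr_one_mul] at hnZ hgc
    set u := c₂ * t * c₂⁻¹ with hu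
    have hu1 : Invo S.f₂ u := by
      refine ⟨fun v v' => ?_, by rw [hu]; simp [mul_assoc, ht.sq, ← mul_assoc t t]⟩
      obtain ⟨v, rfl⟩ : ∃ y, act c₂ y = v := ⟨_, act_act_inv c₂ v⟩
      obtain ⟨v', rfl⟩ : ∃ y, act c₂ y = v' := ⟨_, act_act_inv c₂ v'⟩
      simp only [hu, act_mul, act_inv_act, hs, ht.isom]
    have hprod : Invo S.f₂ (u * τ) := by
      refine ⟨fun v v' => by rw [act_mul u τ, act_mul u τ, hu1.isom, hτ.isom], ?_⟩
      have e := kr_one_inj ha hcomm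
      rw [mul_assoc, ← mul_assoc τ u τ, ← e, mul_assoc u τ τ, hτ.sq, mul_one, hu1.sq]
    have huw : ∀ i, ∃ σ : F, act (u * τ) (w i) = σ • w i := by
      intro i
      obtain ⟨σ, hσ⟩ := hτw i
      obtain ⟨σ', hσ'⟩ := htw i
      obtain ⟨c, hc⟩ := hl i
      have hc0 : c ≠ 0 := fun h => hw.aniso i (by
        rw [show w i = 0 from act_injective c₂ (by rw [hc, h, zero_smul, map_zero]), map_zero])
      refine ⟨σ * σ', ?_⟩
      rw [act_mul, hσ, map_smul, hu, act_mul, act_mul,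
        show act c₂⁻¹ (w i) = c⁻¹ • w i from act_injective c₂ (by
          rw [act_act_inv, map_smul, hc, smul_smul, inv_mul_cancel₀ hc0, one_smul]),
        map_smul, hσ', map_smul, map_smul, hc, smul_smul, smul_smul, smul_smul]
      congr 1
      field_simp
    obtain ⟨r, hr, -, hcr⟩ := hc _ hprod huw fun h => hnZ ⟨_, h, rfl⟩
    refine hcr g hg.1 ?_
    rw [← kr_one_mul, ← mul_assoc, hgc, mul_assoc, ZSub.central hw hr (hGR hg), ← mul_assoc]

end Cfsg.Agent.TensorOO
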