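import Cfsg.Agent.TensorOO.Members

/-!
The space of the root maps at a singular vector of the second factor (helper35).

The maps `ψ` with `z ↦ z + n ⊗ ψ(f₂(n, ·) z)` in a group over the pairs of reflections form a
subspace of skew maps; as soon as it is non-zero it contains every `e ∧ x` with `e` singular.
-/

set_option autoImplicit false
set_option linter.unusedSectionVars false
set_option linter.unusedSimpArgs false

namespace Cfsg.Agent.TensorOO

open Matrix hiding col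
open Cfsg.Agent.MaxSub Cfsg.Agent.TensorMax Cfsg.Agent.TensorInv Module

variable {F : Type*} [Field F] {a b : ℕ}

section Forms

variable {m : ℕ} {f : (Fin m → F) →ₗ[F] (Fin m → F) →ₗ[F] F}

/-- `x ↦ f(e, x) r - f(r, x) e`. -/
def wdg (f : (Fin m → F) →ₗ[F] (Fin m → F) →ₗ[F] F) (e r : Fin m → F) :
    (Fin m → F) →ₗ[F] (Fin m → F) :=
  (f e).smulRight r - (f r).smulRight e

theorem wdg_apply (e r x : Fin m → F) : wdg f e r x = f e x • r - f r x • e := rfl

theorem wdg_add_right (e r r' : Fin m → F) : wdg f e (r + r') = wdg f e r + wdg f e r' :=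
  LinearMap.ext fun x => by
    simp only [wdg_apply, LinearMap.add_apply, map_add]
    module

theorem wdg_smul_right (c : F) (e r : Fin m → F) : wdg f e (c • r) = c • wdg f e r :=
  LinearMap.ext fun x => by
    simp only [wdg_apply, LinearMap.smul_apply, map_smul, smul_eq_mul]
    module

theorem wdg_smul_left (c : F) (e r : Fin m → F) : wdg f (c • e) r = c • wdg f e r :=
  LinearMap.ext fun x => by
    simp only [wdg_apply, LinearMap.smul_apply, map_smul, smul_eq_mul]
    module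

theorem wdg_self (e : Fin m → F) : wdg f e e = 0 :=
  LinearMap.ext fun x => by simp [wdg_apply]

theorem wdg_conj {g : GL (Fin m) F} (hg : ∀ x y, f (act g x) (act g y) = f x y)
    (e r : Fin m → F) : act g ∘ₗ wdg f e r ∘ₗ act g⁻¹ = wdg f (act g e) (act g r) :=
  LinearMap.ext fun x => by
    obtain ⟨x, rfl⟩ : ∃ y, act g y = x := ⟨_, act_act_inv g x⟩
    simp only [LinearMap.comp_apply, act_inv_act, wdg_apply, map_sub, map_smul, hg]

variable (hf : Sym f)
include hf

theorem fam_le {k : ℕ} {w : Fin k → (Fin m → F)} (hw : Fam f w) : k ≤ m := by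
  have h : LinearIndependent F w := by
    rw [Fintype.linearIndependent_iff]
    intro c hc i
    have h1 := congrArg (f (w i)) hc
    rw [map_sum, Finset.sum_eq_single i (fun j _ hj => by
      rw [map_smul, hw.orth i j (Ne.symm hj), smul_zero]) (by simp), map_smul, map_zero,
      smul_eq_mul] at h1
    exact (mul_eq_zero.1 h1).resolve_right (hw.aniso i)
  simpa [finrank_fin_fun] using h.fintype_card_le_finrank

/-- The orthogonal pair of a hyperbolic pair. -/
theorem fam_hyp {e e' : Fin m → F} (he : f e e = 0) (he' : f e' e' = 0) (hee' : f e e' = 1) :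
    Fam f ![e + ((1 : F) / 2) • e', e + ((-1 : F) / 2) • e'] := by
  refine hf.fam_two (by rw [hyp_value hf he he' hee']; exact one_ne_zero)
    (by rw [hyp_value hf he he' hee']; simp) ?_
  have := hf.two
  simp [he, he', hee', hf.symm e e']
  field_simp
  ring

theorem perp_hyp {e e' x : Fin m → F}
    (h : ∀ i, f (![e + ((1 : F) / 2) • e', e + ((-1 : F) / 2) • e'] i) x = 0) :
    f e x = 0 ∧ f e' x = 0 := by
  have h2 := hf.two
  have h0 := h 0
  have h1 := h 1
  simp at h0 h1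
  field_simp at h0 h1
  refine ⟨(mul_eq_zero.1 (show (2 * 2 : F) * f e x = 0 by linear_combination h0 + h1)).resolve_left
    (mul_ne_zero h2 h2), (mul_eq_zero.1 (show (2 : F) * f e' x = 0 by
      linear_combination h0 - h1)).resolve_left h2⟩

theorem hyp_perp {e e' x : Fin m → F} (h : f e x = 0) (h' : f e' x = 0) :
    ∀ i, f (![e + ((1 : F) / 2) • e', e + ((-1 : F) / 2) • e'] i) x = 0 := by
  intro i
  fin_cases i <;> simp [h, h']

end Forms

variable {S : OForm F a b} {M : Subgroup (GL (Fin a × Fin b) F)}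

/-- The root maps of the members of `M` at `n`. -/
def RootAt (S : OForm F a b) (M : Subgroup (GL (Fin a × Fin b) F)) (n : Fin b → F)
    (ψ : (Fin a → F) →ₗ[F] (Fin a → F)) : Prop :=
  ∃ g ∈ M, ∀ z, act g z = z + emb n (ψ (S.pi n z))

variable {n : Fin b → F} {ψ ψ' : (Fin a → F) →ₗ[F] (Fin a → F)}

theorem rootAt_zero : RootAt S M n (0 : (Fin a → F) →ₗ[F] (Fin a → F)) :=
  ⟨1, one_mem _, fun z => by rw [act_one]; simp⟩

theorem RootAt.add (hn : S.f₂ n n = 0) (h : RootAt S M n ψ) (h' : RootAt S M n ψ') :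
    RootAt S M n (ψ + ψ') := by
  obtain ⟨g, hg, e⟩ := h
  obtain ⟨g', hg', e'⟩ := h'
  refine ⟨g * g', mul_mem hg hg', fun z => ?_⟩
  rw [act_mul, e', map_add, e, e]
  simp only [S.pi_emb, hn, zero_smul, map_zero, add_zero, LinearMap.add_apply, map_add]
  abel

theorem RootAt.neg (hn : S.f₂ n n = 0) (h : RootAt S M n ψ) : RootAt S M n (-ψ) := by
  obtain ⟨g, hg, e⟩ := h
  refine ⟨g⁻¹, inv_mem hg, fun z => act_injective g ?_⟩
  rw [act_act_inv, e, map_add]
  simp only [S.pi_emb, hn, zero_smul, map_add, map_zero, add_zero, LinearMap.neg_apply, map_neg]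
  abel

/-- Conjugation by the second factor. -/
theorem RootAt.move (h : RootAt S M n ψ) {k : GL (Fin b) F}
    (hk : kr (1 : GL (Fin a) F) k ∈ M) (hki : ∀ v w, S.f₂ (act k v) (act k w) = S.f₂ v w) :
    RootAt S M (act k n) ψ := by
  obtain ⟨g, hg, e⟩ := h
  refine ⟨kr 1 k * g * (kr 1 k)⁻¹, mul_mem (mul_mem hk hg) (inv_mem hk), fun z => ?_⟩
  have hki' : ∀ v w, S.f₂ (act k⁻¹ v) (act k⁻¹ w) = S.f₂ v w := fun v w => by
    rw [← hki, act_act_inv, act_act_inv]
  rw [act_mul, act_mul, e, map_add, act_act_inv, act_kr, act_one, kr_inv, inv_one,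
    S.pi_kr _ hki', inv_inv, act_one]

/-- Conjugation by the first factor. -/
theorem RootAt.conjA (h : RootAt S M n ψ) {k : GL (Fin a) F}
    (hk : kr k (1 : GL (Fin b) F) ∈ M) :
    RootAt S M n (act k ∘ₗ ψ ∘ₗ act k⁻¹) := by
  obtain ⟨g, hg, e⟩ := h
  refine ⟨kr k 1 * g * (kr k 1)⁻¹, mul_mem (mul_mem hk hg) (inv_mem hk), fun z => ?_⟩
  rw [act_mul, act_mul, e, map_add, act_act_inv, act_kr, act_one, kr_inv, inv_one,
    S.pi_kr _ (fun v w => by rw [act_one, act_one]), inv_one, act_one]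
  rfl

variable (O : Over S M)
include O

theorem RootAt.skew (hn0 : n ≠ 0) (hn : S.f₂ n n = 0) (h : RootAt S M n ψ) (x y : Fin a → F) :
    S.f₁ x (ψ y) = -S.f₁ (ψ x) y := by
  obtain ⟨g, hg, e⟩ := h
  obtain ⟨n', -, hnn'⟩ := exists_partner S.two S.h₂.symm S.h₂.nd hn0 hn
  have h1 := S.om_act (O.isom hg) (emb n' x) (emb n' y)
  rw [e, e] at h1
  simp only [S.pi_emb, hnn', one_smul, S.om_add_left, S.om_add_right, S.om_emb_emb, hn,
    S.comm₂ n n', mul_one, mul_zero, add_zero] at h1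
  linear_combination h1

variable [Finite F]

/-- The scaling of a singular vector. -/
theorem exists_scale (hb : 5 ≤ b) (hn0 : n ≠ 0) (hn : S.f₂ n n = 0) {c : F} (hc : c ≠ 0) :
    ∃ k : GL (Fin b) F, kr (1 : GL (Fin a) F) k ∈ M ∧
      (∀ v w, S.f₂ (act k v) (act k w) = S.f₂ v w) ∧ act k n = c • n := by
  have h2 := S.two
  have hf := S.h₂
  obtain ⟨n', hn', hnn'⟩ := exists_partner S.two hf.symm hf.nd hn0 hn
  have hn'n : S.f₂ n' n = 1 := by rw [S.comm₂, hnn']
  have hF := fam_hyp hf hn hn' hnn'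
  obtain ⟨y₁, hy₁, ey₁⟩ := hf.exists_aniso_fam hF (by omega)
  obtain ⟨y₂, hy₂, ey₂⟩ := hf.exists_aniso_fam
    (hF.cons hy₁ ey₁ (fun i => by rw [hf.symm, ey₁])) (by omega)
  have e12 : S.f₂ y₁ y₂ = 0 := by simpa using ey₂ 0
  obtain ⟨p1, p1'⟩ := perp_hyp hf ey₁
  obtain ⟨p2, p2'⟩ := perp_hyp hf (x := y₂) (fun i => by simpa using ey₂ i.succ)
  have hval : ∀ t : F, ∃ w, S.f₂ w w = t ∧ S.f₂ w n = 0 ∧ S.f₂ w n' = 0 := fun t => by
    obtain ⟨s, u, hsu⟩ := exists_value hf hy₁ hy₂ e12 t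
    exact ⟨_, hsu, by simp [S.comm₂ n, p1, p2], by simp [S.comm₂ n', p1', p2']⟩
  obtain ⟨w, hww, hwn, hwn'⟩ := hval (-2)
  obtain ⟨w', hw'w', hw'n, hw'n'⟩ := hval (-(2 * c))
  set v := n - n' with hv
  set v' := c • n - n' with hv'
  have evv : S.f₂ v v = -2 := by simp [hv, hn, hn', hnn', hn'n]; ring
  have ev'v' : S.f₂ v' v' = -(2 * c) := by simp [hv', hn, hn', hnn', hn'n]; ring
  have v0 : S.f₂ v v ≠ 0 := by rw [evv]; exact neg_ne_zero.2 h2
  have v'0 : S.f₂ v' v' ≠ 0 := by rw [ev'v']; exact neg_ne_zero.2 (mul_ne_zero h2 hc)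
  refine ⟨(refl S.f₂ v' * refl S.f₂ w') * (refl S.f₂ v * refl S.f₂ w),
    by
      rw [← kr_one_mul]
      exact mul_mem (O.rB _ _ v'0 (by rw [hw'w', ev'v'])) (O.rB _ _ v0 (by rw [hww, evv])),
    fun x y => ?_, ?_⟩
  · simp only [act_mul]
    rw [refl_form hf.symm v'0, refl_form hf.symm (by rw [hw'w', ← ev'v']; exact v'0),
      refl_form hf.symm v0, refl_form hf.symm (by rw [hww, ← evv]; exact v0)]
  · have e1 : act (refl S.f₂ v) n = n' := by
      rw [refl_apply, evv]
      simp [hv, hn, hn'n]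
      field_simp
      module
    simp only [act_mul]
    rw [refl_fix hf hwn, e1, refl_fix hf hw'n', refl_apply, ev'v']
    simp only [hv', map_sub, LinearMap.sub_apply, map_smul, LinearMap.smul_apply, smul_eq_mul,
      hnn', hn', mul_one, sub_zero]
    match_scalars <;> field_simp <;> ring

theorem RootAt.smul (hb : 5 ≤ b) (hn0 : n ≠ 0) (hn : S.f₂ n n = 0) (h : RootAt S M n ψ) (c : F) :
    RootAt S M n (c • ψ) := by
  have sq : ∀ t : F, RootAt S M n (t ^ 2 • ψ) := by
    intro t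
    by_cases ht : t = 0
    · rw [ht, zero_pow (by norm_num), zero_smul]
      exact rootAt_zero
    obtain ⟨k, hk, hki, hkn⟩ := exists_scale O hb hn0 hn ht
    obtain ⟨g, hg, e⟩ := h.move hk hki
    refine ⟨g, hg, fun z => ?_⟩
    rw [e, hkn, S.pi_smul, emb_smul_left, map_smul, map_smul, LinearMap.smul_apply, map_smul,
      smul_smul, sq]
  have h2 := S.two
  have e : c • ψ = ((c + 1) / 2) ^ 2 • ψ + -(((c - 1) / 2) ^ 2 • ψ) := by
    match_scalars
    field_simp
    ring
  rw [e]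
  exact (sq _).add hn ((sq _).neg hn)

/-- A root map at every singular vector. -/
theorem exists_root (hb : 5 ≤ b) (hR : Root S M) (hn0 : n ≠ 0) (hn : S.f₂ n n = 0) :
    ∃ ψ, ψ ≠ 0 ∧ RootAt S M n ψ := by
  obtain ⟨m, ψ, hm0, hm, hψ, g, hg, e⟩ := hR
  obtain ⟨k, hk, hki, hkm⟩ := exists_move O hb hn0 hm0 hn hm
  exact ⟨ψ, hψ, hkm ▸ (RootAt.move (S := S) ⟨g, hg, e⟩ hk hki)⟩

section Pair

variable {e e' : Fin a → F} (he : S.f₁ e e = 0) (he' : S.f₁ e' e' = 0) (hee' : S.f₁ e e' = 1)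
include he he' hee'

/-- A non-zero `e ∧ w` among the root maps. -/
theorem exists_wdg (ha : 3 ≤ a) (hb : 5 ≤ b) (hn0 : n ≠ 0) (hn : S.f₂ n n = 0) (hψ0 : ψ ≠ 0)
    (h : RootAt S M n ψ) :
    ∃ w, w ≠ 0 ∧ S.f₁ e w = 0 ∧ S.f₁ e' w = 0 ∧ RootAt S M n (wdg S.f₁ e w) := by
  have hf := S.h₁
  have h2 := S.two
  have he'e : S.f₁ e' e = 1 := by rw [S.comm₁, hee']
  have he0 : e ≠ 0 := fun h0 => by simp [h0] at hee'
  have fin : ∀ r, S.f₁ e r = 0 → r ≠ S.f₁ e' r • e → RootAt S M n (wdg S.f₁ e r) →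
      ∃ w, w ≠ 0 ∧ S.f₁ e w = 0 ∧ S.f₁ e' w = 0 ∧ RootAt S M n (wdg S.f₁ e w) :=
    fun r her hr hR => ⟨r - S.f₁ e' r • e, sub_ne_zero.2 hr, by simp [her, he], by simp [he'e], by
      rwa [sub_eq_add_neg, ← neg_smul, wdg_add_right, wdg_smul_right, wdg_self, smul_zero,
        add_zero]⟩
  have hsk := RootAt.skew O hn0 hn h
  have hcj : ∀ r, S.f₁ e r = 0 →
      RootAt S M n (act (el S.f₁ e r) ∘ₗ ψ ∘ₗ act (el S.f₁ e r)⁻¹) :=
    fun r hr => h.conjA (O.elA ha he0 he hr)
  by_cases hψe : ψ e = S.f₁ e' (ψ e) • e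
  swap
  · -- second differences
    obtain ⟨r, her, he'r, hrr⟩ := hf.exists_aniso_pair ha he he' hee'
    have hr' : S.f₁ e (-r) = 0 := by rw [map_neg, her, neg_zero]
    set β := S.f₁ (ψ e) r with hβ
    set c := S.f₁ r r / 2 with hc
    have hc0 : c ≠ 0 := div_ne_zero hrr h2
    have heψe : S.f₁ e (ψ e) = 0 := (mul_eq_zero.1 (show (2 : F) * S.f₁ e (ψ e) = 0 by
      have := hsk e e
      rw [S.comm₁ e (ψ e)] at this
      linear_combination this)).resolve_left h2
    have key : act (el S.f₁ e r) ∘ₗ ψ ∘ₗ act (el S.f₁ e r)⁻¹ +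
        act (el S.f₁ e (-r)) ∘ₗ ψ ∘ₗ act (el S.f₁ e (-r))⁻¹ + -(ψ + ψ) =
        (2 : F) • wdg S.f₁ e (β • r - c • ψ e) := by
      refine LinearMap.ext fun x => ?_
      have e1 : S.f₁ e (ψ x) = -S.f₁ (ψ e) x := hsk e x
      have e2 : S.f₁ e (ψ r) = -β := hsk e r
      have e3 : S.f₁ r (ψ e) = β := by rw [hβ, S.comm₁]
      have e4 : S.f₁ r (ψ r) = 0 := (mul_eq_zero.1 (show (2 : F) * S.f₁ r (ψ r) = 0 by
        have := hsk r r
        rw [S.comm₁ r (ψ r)] at this
        linear_combination this)).resolve_left h2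
      simp only [LinearMap.add_apply, LinearMap.neg_apply, LinearMap.smul_apply,
        LinearMap.comp_apply, el_inv hf he her, el_inv hf he hr', neg_neg, el_apply hf he her,
        el_apply hf he hr', map_add, map_sub, map_smul, map_neg, LinearMap.sub_apply, smul_eq_mul,
        wdg_apply, heψe, e1, e2, e3, e4]
      rw [hc]
      match_scalars <;> field_simp <;> ring
    have hR := ((hcj r her).add hn (hcj (-r) hr')).add hn ((h.add hn h).neg hn)
    rw [key] at hR
    have hR' := RootAt.smul O hb hn0 hn hR (2⁻¹)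
    rw [smul_smul, inv_mul_cancel₀ h2, one_smul] at hR'
    refine fin _ ?_ (fun h0 => hψe ?_) hR'
    · rw [map_sub, map_smul, map_smul, her, heψe, smul_zero, smul_zero, sub_zero]
    have h1 := congrArg (S.f₁ r) h0
    rw [map_sub, map_smul, map_smul, map_smul, smul_eq_mul, smul_eq_mul, smul_eq_mul,
      S.comm₁ (ψ e) r, ← hβ, S.comm₁ e r, her, mul_zero] at h1
    have hβ0 : β = 0 := (mul_eq_zero.1 (show c * β = 0 by
      rw [hc] at h1 ⊢
      field_simp at h1 ⊢
      linear_combination h1)).resolve_left hc0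
    rw [hβ0, zero_smul, zero_sub, map_neg, map_smul, smul_eq_mul, neg_smul, neg_inj,
      ← smul_smul] at h0
    exact smul_right_injective _ hc0 h0
  · -- first differences
    set α := S.f₁ e' (ψ e) with hα
    by_cases hall : ∀ r, S.f₁ e r = 0 → ψ r + α • r = S.f₁ e' (ψ r + α • r) • e
    swap
    · push Not at hall
      obtain ⟨r, her, hr⟩ := hall
      have key : act (el S.f₁ e r) ∘ₗ ψ ∘ₗ act (el S.f₁ e r)⁻¹ + -ψ =
          -wdg S.f₁ e (ψ r + α • r) := by
        refine LinearMap.ext fun x => ?_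
        have e1 : S.f₁ e (ψ x) = -(α * S.f₁ e x) := by
          rw [hsk e x, hψe, map_smul, LinearMap.smul_apply, smul_eq_mul]
        have e2 : S.f₁ e (ψ r) = 0 := by
          rw [hsk e r, hψe, map_smul, LinearMap.smul_apply, smul_eq_mul, her, mul_zero, neg_zero]
        have e3 : S.f₁ r (ψ x) = -S.f₁ (ψ r) x := hsk r x
        have e4 : S.f₁ r (ψ r) = 0 := (mul_eq_zero.1 (show (2 : F) * S.f₁ r (ψ r) = 0 by
          have := hsk r r
          rw [S.comm₁ r (ψ r)] at this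
          linear_combination this)).resolve_left h2
        have hre : S.f₁ r e = 0 := by rw [S.comm₁, her]
        simp only [LinearMap.add_apply, LinearMap.neg_apply, LinearMap.comp_apply,
          el_inv hf he her, el_apply hf he (show S.f₁ e (-r) = 0 by rw [map_neg, her, neg_zero]),
          el_apply hf he her, map_add, map_sub, map_smul, map_neg, LinearMap.sub_apply,
          LinearMap.smul_apply, smul_eq_mul, wdg_apply, hψe, e1, e2, e3, e4, he, her, hre]
        match_scalars <;> field_simp <;> ring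
      have hR := ((hcj r her).add hn (h.neg hn)).neg hn
      rw [key, neg_neg] at hR
      refine fin _ ?_ hr hR
      rw [map_add, map_smul, her, smul_zero, add_zero, hsk e r, hψe, map_smul, LinearMap.smul_apply,
        smul_eq_mul, her, mul_zero, neg_zero]
    -- the map is `e ∧ ψ e'`
    obtain ⟨r₀, her₀, he'r₀, hr₀⟩ := hf.exists_aniso_pair ha he he' hee'
    have hα0 : α = 0 := by
      have h1 := congrArg (S.f₁ r₀) (hall r₀ her₀)
      have h3 : (2 : F) * S.f₁ r₀ (ψ r₀) = 0 := by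
        have := hsk r₀ r₀
        rw [S.comm₁ r₀ (ψ r₀)] at this
        linear_combination this
      simp only [map_add, map_smul, smul_eq_mul, (mul_eq_zero.1 h3).resolve_left h2, zero_add,
        S.comm₁ e r₀, her₀, mul_zero] at h1
      exact (mul_eq_zero.1 h1).resolve_right hr₀
    have hψe0 : ψ e = 0 := by rw [hψe, hα0, zero_smul]
    have hd : ∀ r, S.f₁ e r = 0 → ψ r = S.f₁ e' (ψ r) • e := fun r hr => by
      simpa [hα0] using hall r hr
    have hu : S.f₁ e (ψ e') = 0 := by rw [hsk, hψe0, map_zero, LinearMap.zero_apply, neg_zero]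
    have hψ : ψ = wdg S.f₁ e (ψ e') := by
      refine LinearMap.ext fun x => ?_
      have hr : S.f₁ e (x - S.f₁ e x • e') = 0 := by simp [hee']
      have e1 := hd _ hr
      rw [map_sub, map_smul, sub_eq_iff_eq_add] at e1
      rw [wdg_apply, e1]
      have e2 : S.f₁ e' (ψ x) = -S.f₁ (ψ e') x := hsk e' x
      have e3 : S.f₁ e' (ψ e') = 0 := (mul_eq_zero.1 (show (2 : F) * S.f₁ e' (ψ e') = 0 by
        have := hsk e' e'
        rw [S.comm₁ e' (ψ e')] at this
        linear_combination this)).resolve_left h2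
      simp only [map_sub, map_smul, smul_eq_mul, e2, e3, mul_zero, sub_zero, neg_smul]
      abel
    refine fin _ hu (fun h0 => hψ0 ?_) (hψ ▸ h)
    rw [hψ, h0, wdg_smul_right, wdg_self, smul_zero]

/-- The pairs of reflections of the orthogonal space of `e` and `e'`. -/
theorem RootAt.pair (hb : 5 ≤ b) (hn0 : n ≠ 0) (hn : S.f₂ n n = 0) {x y w : Fin a → F}
    (hex : S.f₁ e x = 0) (he'x : S.f₁ e' x = 0) (hx : S.f₁ x x ≠ 0) (hey : S.f₁ e y = 0)
    (he'y : S.f₁ e' y = 0) (hy : S.f₁ y y ≠ 0) (hew : S.f₁ e w = 0) (he'w : S.f₁ e' w = 0)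
    (h : RootAt S M n (wdg S.f₁ e w)) :
    RootAt S M n (wdg S.f₁ e (act (refl S.f₁ x) (act (refl S.f₁ y) w))) := by
  have hf := S.h₁
  have h2 := S.two
  have he'e : S.f₁ e' e = 1 := by rw [S.comm₁, hee']
  obtain ⟨vs, hvs⟩ : ∃ v, v = e + (S.f₁ x x / 2) • e' := ⟨_, rfl⟩
  obtain ⟨vt, hvt⟩ : ∃ v, v = e + (S.f₁ y y / 2) • e' := ⟨_, rfl⟩
  have evs : S.f₁ vs vs = S.f₁ x x := by rw [hvs]; exact hyp_value hf he he' hee' _
  have evt : S.f₁ vt vt = S.f₁ y y := by rw [hvt]; exact hyp_value hf he he' hee' _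
  have hperp : ∀ z, S.f₁ e z = 0 → S.f₁ e' z = 0 → S.f₁ vs z = 0 ∧ S.f₁ vt z = 0 :=
    fun z h1 h3 => by simp [hvs, hvt, h1, h3]
  set k := (refl S.f₁ vs * refl S.f₁ x) * (refl S.f₁ vt * refl S.f₁ y) with hk
  have hkM : kr k (1 : GL (Fin b) F) ∈ M := by
    rw [hk, ← kr_mul_one]
    exact mul_mem (O.rA _ _ (by rw [evs]; exact hx) evs) (O.rA _ _ (by rw [evt]; exact hy) evt)
  have hki : ∀ u v, S.f₁ (act k u) (act k v) = S.f₁ u v := fun u v => by
    simp only [hk, act_mul]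
    rw [refl_form hf.symm (by rw [evs]; exact hx), refl_form hf.symm hx,
      refl_form hf.symm (by rw [evt]; exact hy), refl_form hf.symm hy]
  have hkw : act k w = act (refl S.f₁ x) (act (refl S.f₁ y) w) := by
    have h1 : S.f₁ e (act (refl S.f₁ y) w) = 0 ∧ S.f₁ e' (act (refl S.f₁ y) w) = 0 := by
      rw [refl_apply]
      simp [hew, he'w, hey, he'y]
    have h3 : S.f₁ e (act (refl S.f₁ x) (act (refl S.f₁ y) w)) = 0 ∧
        S.f₁ e' (act (refl S.f₁ x) (act (refl S.f₁ y) w)) = 0 := by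
      rw [refl_apply S.f₁ x]
      simp only [map_sub, map_smul, h1.1, h1.2, hex, he'x, smul_zero, sub_zero, and_self]
    simp only [hk, act_mul]
    rw [refl_fix hf (hperp _ h1.1 h1.2).2, refl_fix hf (hperp _ h3.1 h3.2).1]
  have hke : act k e = (S.f₁ y y / S.f₁ x x) • e := by
    have e1 : act (refl S.f₁ vt) e = -(S.f₁ y y / 2) • e' := by
      rw [refl_apply, evt, hvt]
      simp only [map_add, map_smul, LinearMap.add_apply, LinearMap.smul_apply, smul_eq_mul, he,
        he'e]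
      match_scalars <;> field_simp <;> ring
    have e2 : act (refl S.f₁ vs) e' = -(2 / S.f₁ x x) • e := by
      rw [refl_apply, evs, hvs]
      simp only [map_add, map_smul, LinearMap.add_apply, LinearMap.smul_apply, smul_eq_mul, he',
        hee']
      match_scalars <;> field_simp <;> ring
    simp only [hk, act_mul]
    rw [refl_fix hf (v := y) (by rw [S.comm₁, hey]), e1, map_smul, map_smul,
      refl_fix hf (v := x) (by rw [S.comm₁, he'x]), e2, smul_smul]
    congr 1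
    field_simp
  have h1 := h.conjA hkM
  rw [wdg_conj hki, hke, hkw, wdg_smul_left] at h1
  have h3 := RootAt.smul O hb hn0 hn h1 (S.f₁ x x / S.f₁ y y)
  rwa [smul_smul, div_mul_div_cancel₀ hy, div_self hx, one_smul] at h3

/-- All `e ∧ r` with `r` orthogonal to `e` are root maps. -/
theorem rootAt_wdg_perp (ha : 3 ≤ a) (hb : 5 ≤ b) (hR : Root S M)
    (h4 : a = 4 → ∀ x y, S.f₁ x x = 0 → S.f₁ y y = 0 → S.f₁ x y = 0 →
      ∃ c : F, y = c • x ∨ x = c • y)
    (hn0 : n ≠ 0) (hn : S.f₂ n n = 0) {r : Fin a → F} (her : S.f₁ e r = 0) :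
    RootAt S M n (wdg S.f₁ e r) := by
  have hf := S.h₁
  have h2 := S.two
  have he'e : S.f₁ e' e = 1 := by rw [S.comm₁, hee']
  have hF := fam_hyp hf he he' hee'
  set P : (Fin a → F) → Prop := fun w => RootAt S M n (wdg S.f₁ e w) with hP
  have Padd : ∀ {u v}, P u → P v → P (u + v) := fun {u v} h h' => by
    show RootAt S M n _
    rw [wdg_add_right]
    exact RootAt.add hn h h'
  have Psmul : ∀ (c : F) {u}, P u → P (c • u) := fun c {u} h => by
    show RootAt S M n _
    rw [wdg_smul_right]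
    exact RootAt.smul O hb hn0 hn h c
  have Psub : ∀ {u v}, P u → P v → P (u - v) := fun {u v} h h' => by
    rw [sub_eq_add_neg, ← neg_one_smul F v]
    exact Padd h (Psmul _ h')
  -- no two-dimensional totally singular space below dimension five
  have dim : ∀ w, w ≠ 0 → S.f₁ e w = 0 → S.f₁ e' w = 0 → S.f₁ w w = 0 → a ≠ 4 :=
    fun w hw0 hew he'w hww h => by
      obtain ⟨c, hc | hc⟩ := h4 h e w he hww hew
      · rw [hc, map_smul, smul_eq_mul, he'e, mul_one] at he'w
        exact hw0 (by rw [hc, he'w, zero_smul])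
      · have := congrArg (S.f₁ e') hc
        rw [he'e, map_smul, he'w, smul_zero] at this
        exact one_ne_zero this
  -- an anisotropic one
  obtain ⟨ψ, hψ, hψR⟩ := exists_root O hb hR hn0 hn
  obtain ⟨w, hw0, hew, he'w, hPw⟩ := exists_wdg O he he' hee' ha hb hn0 hn hψ hψR
  obtain ⟨r₀, her₀, he'r₀, hr₀, hPr₀⟩ : ∃ r₀, S.f₁ e r₀ = 0 ∧ S.f₁ e' r₀ = 0 ∧
      S.f₁ r₀ r₀ ≠ 0 ∧ P r₀ := by
    by_cases hww : S.f₁ w w = 0
    swap
    · exact ⟨w, hew, he'w, hww, hPw⟩
    obtain ⟨z, hz, -⟩ := exists_both hf.nd hw0 hw0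
    set z₁ := z - S.f₁ e' z • e - S.f₁ e z • e' with hz₁
    have ez : S.f₁ e z₁ = 0 := by simp [hz₁, he, hee']
    have e'z : S.f₁ e' z₁ = 0 := by simp [hz₁, he', he'e]
    have hwz : S.f₁ w z₁ ≠ 0 := by
      simpa [hz₁, S.comm₁ e w, S.comm₁ e' w, hew, he'w] using hz
    obtain ⟨x, hex, he'x, hx, hxw⟩ : ∃ x, S.f₁ e x = 0 ∧ S.f₁ e' x = 0 ∧ S.f₁ x x ≠ 0 ∧
        S.f₁ x w ≠ 0 := by
      by_cases hzz : S.f₁ z₁ z₁ = 0
      · refine ⟨z₁ + w, by simp [ez, hew], by simp [e'z, he'w], ?_, ?_⟩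
        · simp [hzz, hww, S.comm₁ z₁ w]
          intro h
          refine mul_ne_zero h2 hwz ?_
          rw [S.comm₁]
          linear_combination h
        · simp [hww, S.comm₁ w z₁, hwz]
      · exact ⟨z₁, ez, e'z, hzz, by rw [S.comm₁]; exact hwz⟩
    set x' := w - (S.f₁ x w / S.f₁ x x) • x with hx'
    have ex' : S.f₁ e x' = 0 := by simp [hx', hew, hex]
    have e'x' : S.f₁ e' x' = 0 := by simp [hx', he'w, he'x]
    have hxx' : S.f₁ x x' = 0 := by simp [hx', div_mul_cancel₀ _ hx]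
    have hx'0 : S.f₁ x' x' ≠ 0 := by
      have : S.f₁ x' x' = -(S.f₁ x w ^ 2 / S.f₁ x x) := by
        simp [hx', hww, S.comm₁ x w]
        field_simp
        ring
      rw [this]
      exact neg_ne_zero.2 (div_ne_zero (pow_ne_zero 2 hxw) hx)
    have F₃ := hF.cons hx (hyp_perp hf hex he'x) (fun i => by
      rw [hf.symm]; exact hyp_perp hf hex he'x i)
    have e4 : ∀ i, S.f₁ ((Fin.cons x ![e + ((1 : F) / 2) • e', e + ((-1 : F) / 2) • e'] : Fin 3 → (Fin a → F)) i) x' = 0 := fun i =>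
      Fin.cases (by simpa using hxx') (fun j => by simpa using hyp_perp hf ex' e'x' j) i
    have F₄ := F₃.cons hx'0 e4 (fun i => by rw [hf.symm]; exact e4 i)
    have ha5 : 4 < a := lt_of_le_of_ne (fam_le hf F₄) (Ne.symm (dim w hw0 hew he'w hww))
    obtain ⟨y, hy, ey⟩ := hf.exists_aniso_fam F₄ ha5
    obtain ⟨hey, he'y⟩ := perp_hyp hf (x := y) (fun i => by simpa using ey i.succ.succ)
    have hxy : S.f₁ x y = 0 := by simpa using ey 1
    have hx'y : S.f₁ x' y = 0 := by simpa using ey 0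
    have hyw : S.f₁ y w = 0 := by
      have : w = x' + (S.f₁ x w / S.f₁ x x) • x := by simp [hx']
      rw [this]
      simp [S.comm₁ x' y, S.comm₁ x y, hxy, hx'y]
    have h1 := RootAt.pair O he he' hee' hb hn0 hn hex he'x hx hey he'y hy hew he'w hPw
    rw [refl_fix hf hyw] at h1
    refine ⟨x, hex, he'x, hx, ?_⟩
    have h3 := Psmul (-(S.f₁ x x / (2 * S.f₁ x w))) (Psub h1 hPw)
    rw [refl_apply, sub_sub_cancel_left, smul_neg, smul_smul] at h3
    rw [neg_mul, neg_smul, neg_neg,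
      div_mul_div_cancel₀ (mul_ne_zero h2 hxw), div_self hx, one_smul] at h3
    exact h3
  -- all anisotropic ones
  have haniso : ∀ x, S.f₁ e x = 0 → S.f₁ e' x = 0 → S.f₁ x x ≠ 0 → P x := by
    have step : ∀ x, S.f₁ e x = 0 → S.f₁ e' x = 0 → S.f₁ x x ≠ 0 → S.f₁ x r₀ ≠ 0 → P x := by
      intro x hex he'x hx hxr
      have h1 := RootAt.pair O he he' hee' hb hn0 hn hex he'x hx her₀ he'r₀ hr₀ her₀ he'r₀ hPr₀
      rw [refl_self hf hr₀, map_neg] at h1
      have h3 := Psmul (S.f₁ x x / (2 * S.f₁ x r₀)) (Padd h1 hPr₀)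
      rw [refl_apply, neg_sub, sub_add_cancel, smul_smul,
        div_mul_div_cancel₀ (mul_ne_zero h2 hxr), div_self hx, one_smul] at h3
      exact h3
    intro x hex he'x hx
    by_cases hxr : S.f₁ x r₀ = 0
    swap
    · exact step x hex he'x hx hxr
    have hr₀x : S.f₁ r₀ x = 0 := by rw [S.comm₁, hxr]
    by_cases hs : S.f₁ x x + S.f₁ r₀ r₀ = 0
    swap
    · have := step (x + r₀) (by simp [hex, her₀]) (by simp [he'x, he'r₀])
        (by simpa [hxr, hr₀x] using hs) (by simpa [hxr] using hr₀)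
      simpa using Psub this hPr₀
    have F₃ := hF.cons hr₀ (hyp_perp hf her₀ he'r₀) (fun i => by
      rw [hf.symm]; exact hyp_perp hf her₀ he'r₀ i)
    have e4 : ∀ i, S.f₁ ((Fin.cons r₀ ![e + ((1 : F) / 2) • e', e + ((-1 : F) / 2) • e'] : Fin 3 → (Fin a → F)) i) x = 0 := fun i =>
      Fin.cases (by simpa using hr₀x) (fun j => by simpa using hyp_perp hf hex he'x j) i
    have F₄ := F₃.cons hx e4 (fun i => by rw [hf.symm]; exact e4 i)
    have ha5 : 4 < a := lt_of_le_of_ne (fam_le hf F₄) (Ne.symm (dim (x + r₀)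
      (fun h0 => hx (by simpa [hxr] using congrArg (S.f₁ x) h0)) (by simp [hex, her₀])
      (by simp [he'x, he'r₀]) (by simpa [hxr, hr₀x] using hs)))
    obtain ⟨u, hu, eu⟩ := hf.exists_aniso_fam F₄ ha5
    obtain ⟨heu, he'u⟩ := perp_hyp hf (x := u) (fun i => by simpa using eu i.succ.succ)
    have hxu : S.f₁ x u = 0 := by simpa using eu 0
    have hru : S.f₁ r₀ u = 0 := by simpa using eu 1
    have hux : S.f₁ u x = 0 := by rw [S.comm₁, hxu]
    have hur : S.f₁ u r₀ = 0 := by rw [S.comm₁, hru]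
    have hp := step (r₀ + u + x) (by simp [hex, her₀, heu]) (by simp [he'x, he'r₀, he'u])
      (by
        simp [hxr, hr₀x, hxu, hru, hux, hur]
        intro h0
        exact hu (by linear_combination h0 - hs))
      (by simpa [hxr, hur] using hr₀)
    have hm := step (r₀ - u + x) (by simp [hex, her₀, heu]) (by simp [he'x, he'r₀, he'u])
      (by
        simp [hxr, hr₀x, hxu, hru, hux, hur]
        intro h0
        exact hu (by linear_combination h0 - hs))
      (by simpa [hxr, hur] using hr₀)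
    have h1 := Psub (Psmul (2⁻¹) (Padd hp hm)) hPr₀
    rw [show r₀ + u + x + (r₀ - u + x) = (2 : F) • (r₀ + x) by module, smul_smul,
      inv_mul_cancel₀ h2, one_smul, add_sub_cancel_left] at h1
    exact h1
  -- everything
  set r₁ := r - S.f₁ e' r • e with hr₁
  have er₁ : S.f₁ e r₁ = 0 := by simp [hr₁, her, he]
  have e'r₁ : S.f₁ e' r₁ = 0 := by simp [hr₁, he'e]
  have hr₁P : P r₁ := by
    by_cases h0 : S.f₁ r₁ r₁ = 0
    swap
    · exact haniso r₁ er₁ e'r₁ h0
    rcases hf.aniso_shift h0 hr₀ with h | h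
    · simpa using Psub (haniso (r₁ + r₀) (by simp [er₁, her₀]) (by simp [e'r₁, he'r₀]) h) hPr₀
    · simpa using Padd (haniso (r₁ - r₀) (by simp [er₁, her₀]) (by simp [e'r₁, he'r₀]) h) hPr₀
  rw [show r = r₁ + S.f₁ e' r • e by simp [hr₁], wdg_add_right, wdg_smul_right, wdg_self, smul_zero,
    add_zero]
  exact hr₁P

/-- All `e ∧ x` are root maps. -/
theorem rootAt_wdg (ha : 3 ≤ a) (hb : 5 ≤ b) (hR : Root S M)
    (h4 : a = 4 → ∀ x y, S.f₁ x x = 0 → S.f₁ y y = 0 → S.f₁ x y = 0 →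
      ∃ c : F, y = c • x ∨ x = c • y)
    (hn0 : n ≠ 0) (hn : S.f₂ n n = 0) (x : Fin a → F) : RootAt S M n (wdg S.f₁ e x) := by
  have hf := S.h₁
  have h2 := S.two
  have he'e : S.f₁ e' e = 1 := by rw [S.comm₁, hee']
  obtain ⟨w, hew, he'w, hw⟩ := hf.exists_aniso_pair ha he he' hee'
  have hwe : S.f₁ w e = 0 := by rw [S.comm₁, hew]
  have hwe' : S.f₁ w e' = 0 := by rw [S.comm₁, he'w]
  set e₂ := e + w - (S.f₁ w w / 2) • e' with he₂
  have h22 : S.f₁ e₂ e₂ = 0 := by
    simp [he₂, he, he', hee', he'e, hew, he'w, hwe, hwe']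
    field_simp
    ring
  have h20 : e₂ ≠ 0 := fun h => by
    simpa [he₂, he'e, he'w, he'] using congrArg (S.f₁ e') h
  obtain ⟨f₂', hf₂', hef₂'⟩ := exists_partner S.two hf.symm hf.nd h20 h22
  have a1 := rootAt_wdg_perp O h22 hf₂' hef₂' ha hb hR h4 hn0 hn (r := w - S.f₁ w w • e') (by
    simp [he₂, hew, hee', he', he'w, hwe'])
  have a2 := rootAt_wdg_perp O he he' hee' ha hb hR h4 hn0 hn hew
  have a3 := rootAt_wdg_perp O he' he he'e ha hb hR h4 hn0 hn he'w
  have key : wdg S.f₁ e₂ (w - S.f₁ w w • e') = wdg S.f₁ e w + (S.f₁ w w / 2) • wdg S.f₁ e' w -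
      S.f₁ w w • wdg S.f₁ e e' := by
    refine LinearMap.ext fun z => ?_
    simp only [he₂, wdg_apply, LinearMap.add_apply, LinearMap.sub_apply, LinearMap.smul_apply,
      map_add, map_sub, map_smul, smul_eq_mul]
    match_scalars <;> field_simp <;> ring
  have a4 : RootAt S M n (S.f₁ w w • wdg S.f₁ e e') := by
    have := (a2.add hn (RootAt.smul O hb hn0 hn a3 (S.f₁ w w / 2))).add hn (a1.neg hn)
    rw [key] at this
    convert this using 1
    abel
  have a5 := RootAt.smul O hb hn0 hn a4 (S.f₁ w w)⁻¹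
  rw [smul_smul, inv_mul_cancel₀ hw, one_smul] at a5
  rw [show x = (x - S.f₁ e x • e') + S.f₁ e x • e' by abel, wdg_add_right, wdg_smul_right]
  exact (rootAt_wdg_perp O he he' hee' ha hb hR h4 hn0 hn (by simp [hee'])).add hn
    (RootAt.smul O hb hn0 hn a5 _)

end Pair

end Cfsg.Agent.TensorOO
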