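import Cfsg.Agent.TensorOO.SixMixed
import Cfsg.Agent.Lib.Coprime.Generation
import Mathlib.GroupTheory.Sylow
import Mathlib.GroupTheory.Nilpotent

/-!
Dimension six of the second factor (helper19).
-/

set_option autoImplicit false
set_option linter.unusedSectionVars false
set_option linter.unusedSimpArgs false

namespace Cfsg.Agent.TensorOO

open Matrix hiding col
open Cfsg.Agent.MaxSub Cfsg.Agent.TensorMax Cfsg.Agent.TensorInv Module

variable {F : Type*} [Field F] [Finite F] {a b : ℕ} {S : OForm F a b}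
  {H : Subgroup (GL (Fin a × Fin b) F)}

theorem kr_pow_left (g : GL (Fin a) F) (n : ℕ) : kr g (1 : GL (Fin b) F) ^ n = kr (g ^ n) 1 := by
  induction n with
  | zero => rw [pow_zero, pow_zero, kr_one]
  | succ n ih => rw [pow_succ, pow_succ, ih, kr_mul_one]

/-- A `p`-subgroup containing a Siegel element is in the tensor stabiliser. -/
theorem le_kron_of_pGroup (hJ : ConjK S H) {p : ℕ} [Fact p.Prime]
    {P : Subgroup (GL (Fin a × Fin b) F)} (hP : IsPGroup p P) (hPH : P ≤ H) {n u : Fin b → F}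
    (hn0 : n ≠ 0) (hn : S.f₂ n n = 0) (hu : S.f₂ n u = 0) (huu : S.f₂ u u ≠ 0)
    (hk : kr 1 (el S.f₂ n u) ∈ P) : P ≤ Cfsg.Geo.kroneckerSubgroup a b F := by
  haveI := hP.isNilpotent
  set R := (Cfsg.Geo.kroneckerSubgroup a b F).subgroupOf P with hR
  by_contra hne
  have hlt : R < ⊤ := lt_top_iff_ne_top.2 fun h => hne (Subgroup.subgroupOf_eq_top.1 h)
  obtain ⟨h, hh, hhR⟩ := SetLike.exists_of_lt (Group.normalizerCondition_of_isNilpotent R hlt)
  refine hhR (Subgroup.mem_subgroupOf.2 (hJ _ (hPH h.2) n u hn0 hn hu huu ?_))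
  have := (Subgroup.mem_normalizer_iff.1 hh ⟨_, hk⟩).1 (Subgroup.mem_subgroupOf.2 (kr_mem _ _))
  exact Subgroup.mem_subgroupOf.1 this

variable (hS : Std S H) (hJ : ConjK S H)
include hS hJ

/-- The bottom of the descent in the first factor. -/
theorem cent_bottom (p : ℕ) [hp : Fact p.Prime] [CharP F p] (T : Set (GL (Fin a) F)) {x : Fin a → F}
    (hxx : S.f₁ x x ≠ 0) (hx : ∀ s ∈ T, ∃ ε : F, act s x = ε • x)
    (hline : ∀ y, (∀ s ∈ T, ∀ ε : F, act s x = ε • x → act s y = ε • y) → ∃ c : F, y = c • x)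
    (hfree : ∀ g : GL (Fin a) F, (∀ y z, S.f₁ (act g y) (act g z) = S.f₁ y z) → act g x = x →
      (∀ s ∈ T, g * s = s * g) → g ^ p = 1 → g = 1) :
    ∀ g ∈ H, (∀ s ∈ T, g * kr s 1 = kr s 1 * g) → g ∈ Cfsg.Geo.kroneckerSubgroup a b F := by
  classical
  have ha : 1 ≤ a := by have := hS.ha; omega
  have hb := hS.hb
  have hf := S.h₂
  let G := H ⊓ Subgroup.centralizer ((fun s => kr s (1 : GL (Fin b) F)) '' T)
  have hGmem : ∀ {g}, g ∈ H → (∀ s ∈ T, g * kr s 1 = kr s 1 * g) → g ∈ G := fun hg h =>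
    ⟨hg, Subgroup.mem_centralizer_iff.2 fun _ ⟨s, hs, e⟩ => by rw [← e]; exact (h s hs).symm⟩
  have hGc : ∀ {g}, g ∈ G → ∀ s ∈ T, g * kr s 1 = kr s 1 * g := fun hg s hs =>
    (Subgroup.mem_centralizer_iff.1 hg.2 _ ⟨s, hs, rfl⟩).symm
  let φ : (Fin a → F) →ₗ[F] F := (S.f₁ x x)⁻¹ • S.f₁ x
  have hφ : φ x = 1 := inv_mul_cancel₀ hxx
  let colL : V F a b →ₗ[F] (Fin b → F) := LinearMap.pi fun j => φ ∘ₗ col j
  have hcol : ∀ d z, S.f₂ d (colL z) = φ (S.pi d z) := fun d z => by
    conv_lhs => rw [pi_eq_sum_univ' (colL z)]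
    conv_rhs => rw [eq_sum_emb z]
    simp [colL, map_sum, S.pi_emb, mul_comm]
  have hpres : ∀ {g}, g ∈ G → ∀ v, act g (emb v x) = emb (colL (act g (emb v x))) x := by
    intro g hg v
    refine S.eq_of_pi fun d => ?_
    obtain ⟨c, hc⟩ := hline (S.pi d (act g (emb v x))) fun s hs ε hε => by
      have e : act (kr s (1 : GL (Fin b) F)) (act g (emb v x)) = ε • act g (emb v x) := by
        rw [← act_mul, ← hGc hg s hs, act_mul, act_kr, act_one, hε, map_smul, map_smul]
      have := congrArg (S.pi d) e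
      rwa [S.pi_kr s (fun v w => by rw [act_one, act_one]), inv_one, act_one, map_smul] at this
    rw [S.pi_emb, hcol, hc, map_smul, hφ, smul_eq_mul, mul_one]
  -- the kernel
  let N : Subgroup (GL (Fin a × Fin b) F) :=
    { carrier := {g | g ∈ G ∧ ∀ v, act g (emb v x) = emb v x}
      one_mem' := ⟨one_mem G, fun v => act_one _⟩
      mul_mem' := fun {g g'} hg hg' => ⟨mul_mem hg.1 hg'.1, fun v => by rw [act_mul, hg'.2, hg.2]⟩
      inv_mem' := fun {g} hg => ⟨inv_mem hg.1, fun v => by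
        conv_lhs => rw [← hg.2 v]
        rw [act_inv_act]⟩ }
  have hNn : ∀ g ∈ G, ∀ m ∈ N, g * m * g⁻¹ ∈ N := fun g hg m hm =>
    ⟨mul_mem (mul_mem hg hm.1) (inv_mem hg), fun v => by
      rw [act_mul, act_mul, hpres (inv_mem hg) v, hm.2, ← hpres (inv_mem hg) v, act_act_inv]⟩
  -- the elementary abelian group
  obtain ⟨n, n', w, hn0, hn, hn', hnn', hww, -⟩ := exists_hyp_perp hf (fam_nil S.f₂) (by omega)
  have hn'n : S.f₂ n' n = 1 := by rw [S.comm₂, hnn']
  have h2 := S.two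
  have hfam : Fam S.f₂ ![n + ((1 : F) / 2) • n', n + ((-1 : F) / 2) • n'] :=
    hf.fam_two (by rw [hyp_value hf hn hn' hnn']; exact one_ne_zero)
      (by rw [hyp_value hf hn hn' hnn']; simp) (by simp [hn, hn', hnn', hn'n]; field_simp; ring)
  have hperp : ∀ {y}, (∀ i, S.f₂ ((![n + ((1 : F) / 2) • n', n + ((-1 : F) / 2) • n'] : Fin 2 → _) i) y = 0) →
      S.f₂ n y = 0 ∧ S.f₂ n' y = 0 := by
    intro y hy
    have a1 := hy 0
    have a2 := hy 1
    simp only [Matrix.cons_val_zero, Matrix.cons_val_one, map_add, map_smul, LinearMap.add_apply,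
      LinearMap.smul_apply, smul_eq_mul] at a1 a2
    field_simp at a1 a2
    have : S.f₂ n' y = 0 :=
      (mul_eq_zero.1 (show (2 : F) * S.f₂ n' y = 0 by linear_combination a1 - a2)).resolve_left h2
    exact ⟨(mul_eq_zero.1 (show (2 : F) * S.f₂ n y = 0 by linear_combination a1 - this)).resolve_left h2,
      this⟩
  obtain ⟨u₁, hu₁, e₁⟩ := exists_value_perp hf hfam (by omega) (1 : F)
  obtain ⟨η, hη⟩ : ∃ η : F, ¬IsSquare η := FiniteField.exists_nonsquare fun h2' => by
    haveI := ringChar.of_eq h2'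
    exact h2 CharTwo.two_eq_zero
  obtain ⟨u₂, hu₂, e₂⟩ := exists_value_perp hf
    (hfam.cons (u := u₁) (hu₁ ▸ one_ne_zero) e₁ fun i => by rw [S.comm₂]; exact e₁ i) (by omega) (-η)
  have hu12 : S.f₂ u₁ u₂ = 0 := by simpa using e₂ 0
  obtain ⟨hnu₁, hn'u₁⟩ := hperp e₁
  obtain ⟨hnu₂, hn'u₂⟩ := hperp fun i => by simpa using e₂ i.succ
  let ν : F × F → (Fin b → F) := fun c => c.1 • u₁ + c.2 • u₂
  have hν : ∀ c, S.f₂ n (ν c) = 0 := fun c => by simp [ν, hnu₁, hnu₂]
  let θ : Multiplicative (F × F) →* GL (Fin a × Fin b) F :=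
    MonoidHom.mk' (fun c => kr 1 (el S.f₂ n (ν c.toAdd))) fun c d => by
      rw [kr_one_mul, el_mul hf hn (hν _) (hν _)]
      simp only [toAdd_mul, ν, Prod.fst_add, Prod.snd_add, add_smul]
      rw [add_add_add_comm]
  have haniso : ∀ c, c ≠ 0 → S.f₂ (ν c) (ν c) ≠ 0 := by
    intro c hc h
    simp [ν, hu₁, hu₂, hu12, S.comm₂ u₁ u₂] at h
    by_cases hd : c.2 = 0
    · rw [hd] at h
      exact hc (Prod.ext (by simpa using h) hd)
    · exact hη ⟨c.1 / c.2, by field_simp; linear_combination -h⟩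
  have hθinj : Function.Injective θ := by
    refine (injective_iff_map_eq_one θ).2 fun c hc => ?_
    by_contra hc1
    have hc0 : c.toAdd ≠ 0 := fun h => hc1 (by
      have : c = Multiplicative.ofAdd c.toAdd := rfl
      rw [this, h]; rfl)
    have e : el S.f₂ n (ν c.toAdd) = 1 := kr_one_inj ha (hc.trans (kr_one).symm)
    have := congrArg (fun g => S.f₂ (ν c.toAdd) (act g n')) e
    simp only [act_one, el_apply hf hn (hν _), hnn', one_smul, mul_one] at this
    simp [ν, hnu₁, hnu₂, S.comm₂ n u₁, S.comm₂ n u₂, S.comm₂ n' u₁, S.comm₂ n' u₂, hn'u₁, hn'u₂] at this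
    exact haniso _ hc0 (by simpa [ν] using this)
  let U := θ.range
  haveI : IsMulCommutative U := ⟨⟨fun ⟨_, c, rfl⟩ ⟨_, d, rfl⟩ => Subtype.ext (by
    show θ c * θ d = θ d * θ c
    rw [← map_mul, ← map_mul, mul_comm])⟩⟩
  have hpow : ∀ c : Multiplicative (F × F), c ^ p = 1 := fun c => by
    rw [← ofAdd_toAdd c, ← ofAdd_nsmul]
    simp [nsmul_eq_mul, Prod.ext_iff, CharP.cast_eq_zero F p]
  have hUp : IsPGroup p U := fun ⟨_, c, hc⟩ => ⟨1, Subtype.ext (by
    simp only [pow_one, SubmonoidClass.coe_pow, OneMemClass.coe_one]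
    rw [← hc, ← map_pow, hpow, map_one])⟩
  have hUH : ∀ c, θ c ∈ H := fun c => hS.ov.elB (by omega) hn0 hn (hν _)
  have hUG : U ≤ G := by
    rintro _ ⟨c, rfl⟩
    exact hGmem (hUH c) fun s _ => by
      show kr 1 _ * kr s 1 = kr s 1 * kr 1 _
      rw [kr_mul, kr_mul, one_mul, one_mul, mul_one, mul_one]
  have hcyc : ¬IsCyclic U := by
    intro hc
    have hb' : ∀ x : U, x ^ p = 1 := fun ⟨_, c, hc⟩ => Subtype.ext (by
      simp only [SubmonoidClass.coe_pow, OneMemClass.coe_one]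
      rw [← hc, ← map_pow, hpow, map_one])
    obtain ⟨g, hg⟩ := hc.exists_generator
    have h1 : Nat.card U ≤ p := by
      rw [← orderOf_eq_card_of_forall_mem_zpowers hg]
      exact Nat.le_of_dvd hp.out.pos (orderOf_dvd_of_pow_eq_one (hb' g))
    have h3 : Nat.card U = Nat.card F * Nat.card F := by
      rw [← Nat.card_congr (MonoidHom.ofInjective hθinj).toEquiv,
        show Nat.card (Multiplicative (F × F)) = Nat.card (F × F) from rfl, Nat.card_prod]
    have h4 : p ≤ Nat.card F := by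
      refine Nat.le_of_dvd Nat.card_pos ?_
      have ho : addOrderOf (1 : F) = p :=
        addOrderOf_eq_prime (by simp [nsmul_eq_mul, CharP.cast_eq_zero F p]) one_ne_zero
      exact ho ▸ addOrderOf_dvd_natCard (1 : F)
    have := hp.out.two_le
    have : 2 * p ≤ Nat.card U := h3 ▸ Nat.mul_le_mul (by omega) h4
    omega
  have hk : θ (Multiplicative.ofAdd (1, 0)) = kr 1 (el S.f₂ n u₁) := by
    show kr 1 (el S.f₂ n (ν (1, 0))) = _
    simp [ν]
  have huu₁ : S.f₂ u₁ u₁ ≠ 0 := hu₁ ▸ one_ne_zero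
  -- the kernel has no elements of order `p`
  have hNp : ¬p ∣ Nat.card N := by
    intro hdiv
    obtain ⟨y, hy⟩ := exists_prime_orderOf_dvd_card' p hdiv
    obtain ⟨Q, hQ⟩ := (hUp.of_equiv (Subgroup.subgroupOfEquivOfLe hUG).symm).exists_le_sylow
    have hyG : (y : GL (Fin a × Fin b) F) ∈ G := y.2.1
    have hy' : orderOf (⟨_, hyG⟩ : G) = p := by
      rw [← Subgroup.orderOf_coe]; simpa [Subgroup.orderOf_coe] using hy
    obtain ⟨Q', hQ'⟩ := (IsPGroup.of_card (p := p) (n := 1)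
      (G := Subgroup.zpowers (⟨_, hyG⟩ : G)) (by rw [Nat.card_zpowers, hy', pow_one])).exists_le_sylow
    obtain ⟨m, hm⟩ := MulAction.exists_smul_eq G Q' Q
    have hmy : m * ⟨_, hyG⟩ * m⁻¹ ∈ (Q : Subgroup G) := by
      rw [← hm, Sylow.coe_subgroup_smul]
      exact Subgroup.smul_mem_pointwise_smul _ (MulAut.conj m) _ (hQ' (Subgroup.mem_zpowers _))
    have hQK := le_kron_of_pGroup hJ (Q.isPGroup'.map G.subtype)
      (by rintro _ ⟨q, -, rfl⟩; exact q.2.1) hn0 hn hnu₁ huu₁
      (by rw [← hk]; exact ⟨⟨_, hUG ⟨_, rfl⟩⟩, hQ (Subgroup.mem_subgroupOf.2 ⟨_, rfl⟩), rfl⟩)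
    set g := (m : GL (Fin a × Fin b) F) * y * (m : GL (Fin a × Fin b) F)⁻¹ with hg
    have hgN : g ∈ N := hNn _ m.2 _ y.2
    have hgK : g ∈ Cfsg.Geo.kroneckerSubgroup a b F := hQK ⟨_, hmy, rfl⟩
    have hgp : g ^ p = 1 := by
      rw [hg, conj_pow, ← hy, ← SubmonoidClass.coe_pow, pow_orderOf_eq_one, OneMemClass.coe_one]
      simp
    have hg1 : g ≠ 1 := fun h => by
      rw [hg, conj_eq_one_iff] at h
      have : y = 1 := Subtype.ext h
      rw [this, orderOf_one] at hy
      exact hp.out.ne_one hy.symm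
    obtain ⟨g₁, g₂, e, -, -, -⟩ := exists_kr (S := S) ha (by omega) (hS.ov.isom hgN.1.1) hgK
    have hx0 : x ≠ 0 := fun h => hxx (by rw [h, map_zero])
    have hgx : act g₁ x ≠ 0 := fun h => hx0 (act_injective g₁ (by rw [h, map_zero]))
    obtain ⟨i, hi⟩ := Function.ne_iff.1 hgx
    simp only [Pi.zero_apply] at hi
    have hg₂ : ∀ v, act g₂ v = (x i / act g₁ x i) • v := fun v => funext fun j => by
      have := congrFun (hgN.2 v) (i, j)
      rw [e, act_kr] at this
      change act g₁ x i * act g₂ v j = x i * v j at this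
      rw [Pi.smul_apply, smul_eq_mul]
      field_simp
      linear_combination this
    obtain ⟨v₀, hv₀⟩ := hf.exists_aniso (show 1 ≤ b by omega)
    set c := x i / act g₁ x i
    have hc0 : c ≠ 0 := fun h => hv₀ (by
      rw [show v₀ = 0 from act_injective g₂ (by rw [hg₂, h, zero_smul, map_zero]), map_zero])
    obtain ⟨h₁, hh₁⟩ := exists_gl (c • act g₁) fun y z hyz =>
      act_injective g₁ (smul_right_injective _ hc0 hyz)
    have e' : g = kr h₁ 1 := by
      rw [e]
      refine gl_ext_emb fun v y => ?_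
      rw [act_kr, act_kr, act_one, hh₁, hg₂, LinearMap.smul_apply, emb_smul_left, map_smul]
    have a1 : ∀ y z, S.f₁ (act h₁ y) (act h₁ z) = S.f₁ y z := fun y z => by
      have := S.om_act (hS.ov.isom hgN.1.1) (emb v₀ y) (emb v₀ z)
      rw [e', act_kr, act_kr, act_one, S.om_emb_emb, S.om_emb_emb] at this
      exact mul_right_cancel₀ hv₀ this
    have a2 : act h₁ x = x := by
      have := hgN.2 v₀
      rw [e', act_kr, act_one] at this
      obtain ⟨j, hj⟩ := Function.ne_iff.1 (show v₀ ≠ 0 from fun h => hv₀ (by rw [h, map_zero]))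
      funext i'
      have e2 := congrFun this (i', j)
      change act h₁ x i' * v₀ j = x i' * v₀ j at e2
      exact mul_right_cancel₀ hj e2
    have a3 : ∀ s ∈ T, h₁ * s = s * h₁ := fun s hs => by
      have e2 := hGc hgN.1 s hs
      rw [e', kr_mul, kr_mul] at e2
      exact kr_one_right_cancel (by omega) e2
    have a4 : h₁ ^ p = 1 := by
      rw [e', kr_pow_left] at hgp
      exact kr_one_right_cancel (by omega) (hgp.trans kr_one.symm)
    exact hg1 (by rw [e', hfree h₁ a1 a2 a3 a4, kr_one])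
  have hNK : N ≤ Cfsg.Geo.kroneckerSubgroup a b F := by
    refine Coprime.le_of_centralizer_le U N _ hcyc (fun u hu => ?_) ?_ fun e he he1 m hm => ?_
    · refine Subgroup.mem_normalizer_iff.2 fun m => ⟨fun hm => hNn u (hUG hu) m hm, fun hm => ?_⟩
      have := hNn u⁻¹ (inv_mem (hUG hu)) _ hm
      simpa [mul_assoc] using this
    · obtain ⟨k, hk'⟩ := IsPGroup.iff_card.1 hUp
      rw [hk']
      exact Nat.Coprime.pow_left _ ((Nat.Prime.coprime_iff_not_dvd hp.out).2 hNp)
    · obtain ⟨c, rfl⟩ := he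
      obtain ⟨hmN, hmc⟩ := hm
      have hc0 : c.toAdd ≠ 0 := fun h => he1 (by
        have : c = Multiplicative.ofAdd c.toAdd := rfl
        rw [this, h]; exact map_one θ)
      have ec : θ c * m = m * θ c := Subgroup.mem_centralizer_iff.1 hmc _ rfl
      refine hJ m hmN.1.1 n _ hn0 hn (hν c.toAdd) (haniso _ hc0) ?_
      show m * θ c * m⁻¹ ∈ _
      rw [← ec, mul_inv_cancel_right]
      exact kr_mem _ _
  -- the correction
  intro g hg hgT
  have hgG := hGmem hg hgT
  let g₀ : (Fin b → F) →ₗ[F] (Fin b → F) := colL ∘ₗ act g ∘ₗ embR x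
  have hg₀ : ∀ v, act g (emb v x) = emb (g₀ v) x := fun v => hpres hgG v
  have hiso : ∀ v v', S.f₂ (g₀ v) (g₀ v') = S.f₂ v v' := fun v v' => by
    have := S.om_act (hS.ov.isom hg) (emb v x) (emb v' x)
    rw [hg₀, hg₀, S.om_emb_emb, S.om_emb_emb] at this
    exact mul_left_cancel₀ hxx this
  obtain ⟨G₀, hG₀⟩ := exists_gl g₀ fun v v' e => S.eq₂ fun d => by
    rw [← hiso d v, e, hiso]
  have hG₀i : ∀ v v', S.f₂ (act G₀ v) (act G₀ v') = S.f₂ v v' := fun v v' => by
    rw [hG₀, hG₀, hiso]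
  have hn₀ : S.f₂ (act G₀ n) (act G₀ n) = 0 := by rw [hG₀i, hn]
  have hnu₀ : S.f₂ (act G₀ n) (act G₀ u₁) = 0 := by rw [hG₀i, hnu₁]
  set k' := kr (1 : GL (Fin a) F) (el S.f₂ (act G₀ n) (act G₀ u₁)) with hk'
  have hk'H : k' ∈ H := hS.ov.elB (by omega)
    (fun h => hn0 (act_injective G₀ (by rw [h, map_zero]))) hn₀ hnu₀
  have hk'G : k' ∈ G := hGmem hk'H fun s _ => by
    rw [hk', kr_mul, kr_mul, one_mul, one_mul, mul_one, mul_one]
  have hyG : g * kr 1 (el S.f₂ n u₁) * g⁻¹ ∈ G :=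
    mul_mem (mul_mem hgG (hk ▸ hUG ⟨_, rfl⟩)) (inv_mem hgG)
  have hmem : k'⁻¹ * (g * kr 1 (el S.f₂ n u₁) * g⁻¹) ∈ N := by
    refine ⟨mul_mem (inv_mem hk'G) hyG, fun v => ?_⟩
    obtain ⟨v, rfl⟩ : ∃ w, act G₀ w = v := ⟨_, act_act_inv G₀ v⟩
    refine act_injective k' ?_
    rw [act_mul, act_act_inv, act_mul, act_mul, hG₀, ← hg₀, act_inv_act, act_x1, hg₀, ← hG₀, hg₀,
      hk', act_x1, ← hG₀, ← el_conj hf hn hnu₁ hG₀i, act_mul, act_mul, act_inv_act]
  refine hJ g hg n u₁ hn0 hn hnu₁ huu₁ ?_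
  have := mul_mem (show k' ∈ Cfsg.Geo.kroneckerSubgroup a b F from kr_mem _ _) (hNK hmem)
  rwa [mul_inv_cancel_left] at this

variable (hG : GoodK S H) (hC : CentAll S H)
include hG hC

/-- One step of the descent in the first factor. -/
theorem cent_step {s s' : GL (Fin a) F} (hs : Invo S.f₁ s) (hs' : Invo S.f₁ s')
    (hss : s * s' = s' * s) (h1 : s' ≠ 1) (h2 : s' ≠ -1) (h3 : s * s' ≠ 1) (h4 : s * s' ≠ -1)
    (hs0 : s = 1 ∨ (s ≠ 1 ∧ s ≠ -1)) (hs'H : kr s' (1 : GL (Fin b) F) ∈ H)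
    (hbot : ∀ g ∈ H, g * kr s 1 = kr s 1 * g → g * kr s' 1 = kr s' 1 * g →
      g ∈ Cfsg.Geo.kroneckerSubgroup a b F) :
    ∀ g ∈ H, g * kr s 1 = kr s 1 * g → g ∈ Cfsg.Geo.kroneckerSubgroup a b F := by
  classical
  intro g hg hgs
  have hf := S.h₂
  have ha : 1 ≤ a := by have := hS.ha; omega
  have hb := hS.hb
  have hb1 : 1 ≤ b := by omega
  obtain ⟨u, hu, -⟩ := exists_value_perp hf (fam_nil S.f₂) (by omega) (1 : F)
  have huu : S.f₂ u u ≠ 0 := hu ▸ one_ne_zero
  obtain ⟨u', hu', hp⟩ := exists_value_perp hf (fam_one huu) (by omega) (1 : F)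
  have huu' : S.f₂ u u' = 0 := hp 0
  have hT := hf.fam_two huu (hu' ▸ one_ne_zero) huu'
  set t := fl S.f₂ ![u, u'] with ht
  have tI := fl_invo hf hT
  obtain ⟨q, hq, eq⟩ := hf.exists_aniso_fam hT (by omega)
  have ht1 : t ≠ 1 := fun h => huu (by
    have := fl_mem hf hT 0
    rw [← ht, h, act_one] at this
    have this' : u = -u := this
    have e : (2 : F) • u = 0 := by
      linear_combination (norm := module) this'
    rw [(smul_eq_zero.1 e).resolve_left hf.two, map_zero])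
  have ht2 : t ≠ -1 := fun h => hq (by
    have := fl_perp hf hT eq
    rw [← ht, h, act_neg, act_one] at this
    have e : (2 : F) • q = 0 := by linear_combination (norm := module) (-1 : F) • this
    rw [(smul_eq_zero.1 e).resolve_left hf.two, map_zero])
  have htH : kr (1 : GL (Fin a) F) t ∈ H := hS.ov.flPair huu huu' (hu.trans hu'.symm)
  have hz : kr s (1 : GL (Fin b) F) * kr s 1 = 1 := by rw [kr_mul, hs.sq, one_mul, kr_one]
  have ht'H : kr s' t ∈ H := by
    have := mul_mem hs'H htH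
    rwa [kr_mul, mul_one, one_mul] at this
  let G := H ⊓ Subgroup.centralizer ({kr s (1 : GL (Fin b) F)} : Set (GL (Fin a × Fin b) F))
  have hGz : ∀ {x}, x ∈ G → x * kr s 1 = kr s 1 * x := fun hx =>
    (Subgroup.mem_centralizer_iff.1 hx.2 _ rfl).symm
  have hGmem : ∀ {x}, x ∈ H → x * kr s 1 = kr s 1 * x → x ∈ G := fun hx h =>
    ⟨hx, Subgroup.mem_centralizer_iff.2 fun y hy => by rw [Set.mem_singleton_iff.1 hy]; exact h.symm⟩
  have hcm := cent_mixed hS hG hC hs' h1 h2 tI ht1 ht2 htH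
  refine le_of_dihedral (G := G) (K := Cfsg.Geo.kroneckerSubgroup a b F)
    (Z := signs (kr s (1 : GL (Fin b) F)) hz)
    (j := kr 1 t) (j'' := kr s' t) ?_ ?_ (hGmem htH ?_) (kr_mem _ _)
    (by rw [kr_mul, one_mul, tI.sq, kr_one]) (hGmem ht'H ?_) (kr_mem _ _)
    (by rw [kr_mul, hs'.sq, tI.sq, kr_one])
    (fun x hx => tj_pure hS hG hC tI ht1 ht2 hx.1)
    (fun x hx => hG _ (kr_mem _ _) (S.kr_mem_isom hs'.isom tI.isom)
      (by rw [kr_mul, hs'.sq, tI.sq, kr_one]) hcm x hx.1)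
    ?_ ?_ ?_ (hGmem hg hgs)
  · exact fun ζ hζ x hx => (signs_spec hz hζ).2 x (hGz hx)
  · exact fun ζ hζ => (signs_spec hz hζ).1
  · rw [kr_mul, kr_mul, one_mul, mul_one, one_mul, mul_one]
  · rw [kr_mul, kr_mul, mul_one, one_mul, hss]
  · intro x hx hK ζ hζ e'
    obtain ⟨x₁, x₂, rfl, ν, hν, hsim⟩ := exists_kr ha hb1 (hS.ov.isom hx.1) hK
    rw [kr_conj_one] at e'
    have hss2 : s * s' * (s * s') = 1 := by
      rw [mul_assoc, ← mul_assoc s', ← hss, mul_assoc s, hs'.sq, mul_one, hs.sq]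
    rcases hζ with rfl | rfl | rfl | rfl
    · rw [one_mul] at e'
      exact (sign_of_pure ha hb1 hs'.sq e').elim h1 h2
    · rw [neg_one_mul, kr_neg_right] at e'
      exact (sign_of_pure ha hb1 hs'.sq e').elim h1 h2
    · rw [kr_mul, one_mul] at e'
      exact (sign_of_pure ha hb1 hss2 e').elim h3 h4
    · rw [neg_mul, kr_mul, one_mul, kr_neg_right] at e'
      exact (sign_of_pure ha hb1 hss2 e').elim h3 h4
  · intro x hx hK ζ hζ e'
    obtain ⟨x₁, x₂, rfl, ν, hν, hsim⟩ := exists_kr ha hb1 (hS.ov.isom hx.1) hK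
    rw [kr_conj_one] at e'
    rcases hζ with rfl | rfl | rfl | rfl
    · rfl
    · rw [neg_one_mul, neg_eq_kr_one] at e'
      exact absurd (kr_one_inj ha e') (not_conj_neg hb hf hT x₂)
    · rcases hs0 with rfl | ⟨h5, h6⟩
      · rw [kr_one]
      · rw [kr_mul, mul_one, one_mul] at e'
        exact ((sign_of_pure ha hb1 hs.sq e').elim h5 h6).elim
    · rcases hs0 with rfl | ⟨h5, h6⟩
      · rw [kr_one, neg_one_mul, neg_eq_kr_one] at e'
        exact absurd (kr_one_inj ha e') (not_conj_neg hb hf hT x₂)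
      · rw [neg_mul, kr_mul, mul_one, one_mul, kr_neg_right] at e'
        exact ((sign_of_pure ha hb1 hs.sq e').elim h5 h6).elim
  · intro x hx hK y hy hxy hnZ w hw hwc
    obtain ⟨x₁, x₂, rfl, ν, hν, hsim⟩ := exists_kr ha hb1 (hS.ov.isom hx.1) hK
    have hX := conj_invo hsim tI
    have hXH : kr (1 : GL (Fin a) F) (x₂ * t * x₂⁻¹) ∈ H := by
      rw [← kr_conj_one (g₁ := x₁)]
      exact mul_mem (mul_mem hx.1 htH) (inv_mem hx.1)
    rw [kr_conj_one] at hxy hnZ hwc
    rcases hy with rfl | rfl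
    · rw [kr_one_mul, kr_one_mul] at hxy
      rw [kr_one_mul] at hnZ hwc
      refine hC _ (comm_mul_invo hX tI (kr_one_inj ha hxy)) (fun h => hnZ ?_) (fun h => hnZ ?_) w hw.1 hwc
      · rw [h, kr_one]; exact one_mem _
      · rw [h, ← neg_eq_kr_one, kr_one]; exact Or.inr (Or.inl rfl)
    · rw [kr_mul, kr_mul, one_mul, mul_one] at hxy
      rw [kr_mul, one_mul] at hnZ hwc
      have hcX := kr_one_left_cancel ha hxy
      have hτ := comm_mul_invo hX tI hcX
      by_cases e1 : x₂ * t * x₂⁻¹ * t = 1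
      · rw [e1] at hwc
        exact hbot w hw.1 (hGz hw) hwc
      by_cases e2 : x₂ * t * x₂⁻¹ * t = -1
      · rw [e2, ← kr_neg_right] at hwc
        simp only [mul_neg, neg_mul, neg_inj] at hwc
        exact hbot w hw.1 (hGz hw) hwc
      refine cent_mixed hS hG hC hs' h1 h2 hτ e1 e2 ?_ w hw.1 hwc
      have := mul_mem hXH htH
      rwa [kr_one_mul] at this

/-- The conclusion in dimension six. -/
theorem le_kron_six (hb6 : b = 6) : H ≤ Cfsg.Geo.kroneckerSubgroup a b F := by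
  classical
  have hodd : Odd a := hS.par.resolve_right (by rw [hb6]; decide)
  have hf := S.h₁
  have hab := hS.hab
  have ha := hS.ha
  obtain ⟨p, hchar⟩ := CharP.exists F
  haveI := hchar
  haveI : Fact p.Prime := ⟨CharP.char_is_prime F p⟩
  obtain ⟨x, hxv, -⟩ := exists_value_perp hf (fam_nil S.f₁) (by omega) (1 : F)
  have hx : S.f₁ x x ≠ 0 := hxv ▸ one_ne_zero
  obtain ⟨x', hx'v, hp⟩ := exists_value_perp hf (fam_one hx) (by omega) (1 : F)
  have hx' : S.f₁ x' x' ≠ 0 := hx'v ▸ one_ne_zero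
  have hxx' : S.f₁ x x' = 0 := hp 0
  have hT := hf.fam_two hx hx' hxx'
  set s := fl S.f₁ ![x, x'] with hs
  have sI := fl_invo hf hT
  have sx : act s x = -x := fl_mem hf hT 0
  have sx' : act s x' = -x' := fl_mem hf hT 1
  obtain ⟨y, hy, ey⟩ := hf.exists_aniso_fam hT (by omega)
  have hsy : act s y = y := fl_perp hf hT ey
  have hsH : kr s (1 : GL (Fin b) F) ∈ H := by
    rw [hs, fl_two hf hx hx' hxx']
    exact hS.ov.rA x x' hx (hxv.trans hx'v.symm)
  have neg_eq : ∀ {v : Fin a → F}, v = -v → v = 0 := fun h =>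
    (smul_eq_zero.1 (show (2 : F) • _ = (0 : Fin a → F) by linear_combination (norm := module) h)).resolve_left hf.two
  have hsne1 : s ≠ 1 := fun h => hx (by
    rw [h, act_one] at sx
    rw [neg_eq sx, map_zero])
  have hsne2 : s ≠ -1 := fun h => hy (by
    rw [h, act_neg, act_one] at hsy
    rw [neg_eq hsy.symm, map_zero])
  have htop : (∀ g ∈ H, g * kr s (1 : GL (Fin b) F) = kr s 1 * g →
      g ∈ Cfsg.Geo.kroneckerSubgroup a b F) → H ≤ Cfsg.Geo.kroneckerSubgroup a b F := by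
    intro hb' g hg
    refine cent_step hS hJ hG hC (s := 1) (s' := s) ⟨fun _ _ => by rw [act_one, act_one], one_mul 1⟩
      sI (by rw [one_mul, mul_one]) hsne1 hsne2 (by rwa [one_mul]) (by rwa [one_mul]) (Or.inl rfl) hsH
      (fun g hg _ hgs => hb' g hg hgs) g hg ?_
    rw [kr_one, mul_one, one_mul]
  rcases (show a = 3 ∨ a = 5 by obtain ⟨i, rfl⟩ := hodd; omega) with rfl | rfl
  · -- three
    refine htop fun g hg hgs => cent_bottom hS hJ p {s} (x := y) hy
      (fun _ h => ⟨1, by rw [Set.mem_singleton_iff.1 h, one_smul]; exact hsy⟩)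
      (fun z hz => ?_) (fun h₁ hi hy1 _ hp1 => ?_) g hg (fun _ h => by rwa [Set.mem_singleton_iff.1 h])
    · have hfix := hz s rfl 1 (by rw [one_smul]; exact hsy)
      rw [one_smul] at hfix
      refine ⟨(S.f₁ y y)⁻¹ * S.f₁ y z, sub_eq_zero.1 ?_⟩
      have hb3 := hT.cons hy ey fun i => by rw [S.comm₁]; exact ey i
      refine hf.eq_zero_of_basis hb3 fun i => ?_
      refine Fin.cases ?_ (fun i => ?_) i
      · show S.f₁ y _ = 0
        simp [mul_comm, hy]
      · simp [fl_fix_perp hf hT hfix i, ey i]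
    · exact eq_one_of_fix hf (fam_one hy) rfl p hi hp1 fun i => by fin_cases i; exact hy1
  · -- five
    obtain ⟨x'', hx''v, hp''⟩ := exists_value_perp hf hT (by omega) (1 : F)
    have hx'' : S.f₁ x'' x'' ≠ 0 := hx''v ▸ one_ne_zero
    have hxx'' : S.f₁ x x'' = 0 := hp'' 0
    have hx'x'' : S.f₁ x' x'' = 0 := hp'' 1
    have hT' := hf.fam_two hx hx'' hxx''
    set s' := fl S.f₁ ![x, x''] with hs'
    have sI' := fl_invo hf hT'
    have s'x : act s' x = -x := fl_mem hf hT' 0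
    have s'x'' : act s' x'' = -x'' := fl_mem hf hT' 1
    have s'x' : act s' x' = x' := fl_perp hf hT' fun i => by
      fin_cases i
      · exact hxx'
      · show S.f₁ x'' x' = 0
        rw [S.comm₁, hx'x'']
    have sx'' : act s x'' = x'' := fl_perp hf hT hp''
    have hcomm : s * s' = s' * s := by
      have hr : ∀ {v : Fin 5 → F} {c : F}, S.f₁ v v ≠ 0 → act s v = c • v →
          s * refl S.f₁ v = refl S.f₁ v * s := fun hv h =>
        refl_comm hv one_ne_zero (fun y z => by rw [sI.isom, one_mul]) h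
      rw [hs', fl_two hf hx hx'' hxx'', ← mul_assoc, hr hx (c := -1) (by rw [neg_one_smul]; exact sx),
        mul_assoc, hr hx'' (c := 1) (by rw [one_smul]; exact sx''), ← mul_assoc]
    refine htop (cent_step hS hJ hG hC (s := s) (s' := s') sI sI' hcomm ?_ ?_ ?_ ?_
      (Or.inr ⟨hsne1, hsne2⟩) ?_ fun g hg h1 h2 => cent_bottom hS hJ p {s, s'} (x := x) hx ?_ ?_ ?_ g hg
        fun σ hσ => by rcases hσ with rfl | hσ; exacts [h1, Set.mem_singleton_iff.1 hσ ▸ h2])
    · intro h; exact hx (by rw [h, act_one] at s'x; rw [neg_eq s'x, map_zero])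
    · intro h; exact hx' (by rw [h, act_neg, act_one] at s'x'; rw [neg_eq s'x'.symm, map_zero])
    · intro h
      have := congrArg (fun g => act g x') h
      simp only [act_mul, s'x', sx', act_one] at this
      exact hx' (by rw [neg_eq this.symm, map_zero])
    · intro h
      have := congrArg (fun g => act g x) h
      simp only [act_mul, s'x, map_neg, sx, neg_neg, act_neg, act_one] at this
      exact hx (by rw [neg_eq this, map_zero])
    · rw [hs', fl_two hf hx hx'' hxx'']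
      exact hS.ov.rA x x'' hx (hxv.trans hx''v.symm)
    · intro σ hσ
      rcases hσ with rfl | hσ
      · exact ⟨-1, by rw [neg_one_smul]; exact sx⟩
      · rw [Set.mem_singleton_iff.1 hσ]; exact ⟨-1, by rw [neg_one_smul]; exact s'x⟩
    · intro z hz
      have e1 := hz s (Or.inl rfl) (-1) (by rw [neg_one_smul]; exact sx)
      have e2 := hz s' (Or.inr rfl) (-1) (by rw [neg_one_smul]; exact s'x)
      rw [neg_one_smul] at e1 e2
      have d2 := fl_neg_mem hf hT' e2
      have d1 := fl_neg_mem hf hT e1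
      have hzero : S.f₁ x' z = 0 := by
        rw [d2, Fin.sum_univ_two]
        simp [S.comm₁ x x', hxx', hx'x'']
      rw [Fin.sum_univ_two] at d1
      simp only [Matrix.cons_val_zero, Matrix.cons_val_one, hzero, mul_zero, zero_smul, add_zero] at d1
      exact ⟨_, d1⟩
    · intro h₁ hi hfix hc hp1
      have hsign : ∀ {σ : GL (Fin 5) F} {v : Fin 5 → F}, act σ v = -v → h₁ * σ = σ * h₁ →
          act σ (act h₁ v) = -act h₁ v := fun hv h => by
        rw [← act_mul, ← h, act_mul, hv, map_neg]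
      have hpow1 : ∀ {v : Fin 5 → F} {c : F}, v ≠ 0 → act h₁ v = c • v → act h₁ v = v := by
        intro v c hv hc'
        have hpow : ∀ n : ℕ, act (h₁ ^ n) v = c ^ n • v := fun n => by
          induction n with
          | zero => simp [act_one]
          | succ n ih => rw [pow_succ, act_mul, hc', map_smul, ih, smul_smul, pow_succ']
        have := hpow p
        rw [hp1, act_one] at this
        have e : (c ^ p - 1) • v = 0 := by rw [sub_smul, one_smul, ← this, sub_self]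
        have hcp := sub_eq_zero.1 ((smul_eq_zero.1 e).resolve_right hv)
        have h1' : (c - 1) ^ p = 0 := by rw [sub_pow_char, one_pow, hcp, sub_self]
        rw [hc', sub_eq_zero.1 ((pow_eq_zero_iff (Fact.out : p.Prime).ne_zero).1 h1'), one_smul]
      have hfx' : act h₁ x' = x' := by
        have e := fl_neg_mem hf hT (hsign sx' (hc s (Or.inl rfl)))
        have hx0 : S.f₁ x (act h₁ x') = 0 := by rw [← hfix, hi, hxx']
        rw [Fin.sum_univ_two] at e
        simp only [Matrix.cons_val_zero, Matrix.cons_val_one, hx0, mul_zero, zero_smul, zero_add] at e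
        exact hpow1 (fun h => hx' (by rw [h, map_zero])) e
      have hfx'' : act h₁ x'' = x'' := by
        have e := fl_neg_mem hf hT' (hsign s'x'' (hc s' (Or.inr rfl)))
        have hx0 : S.f₁ x (act h₁ x'') = 0 := by rw [← hfix, hi, hxx'']
        rw [Fin.sum_univ_two] at e
        simp only [Matrix.cons_val_zero, Matrix.cons_val_one, hx0, mul_zero, zero_smul, zero_add] at e
        exact hpow1 (fun h => hx'' (by rw [h, map_zero])) e
      exact eq_one_of_fix hf (hf.fam_three hx hx' hx'' hxx' hxx'' hx'x'') rfl p hi hp1 fun i => by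
        fin_cases i <;> assumption

end Cfsg.Agent.TensorOO
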