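import Cfsg.Agent.TensorOO.CentAll

/-!
Signs, scalars and orthogonal elements of order `p` with a large fixed space (helper19).
-/

set_option autoImplicit false
set_option linter.unusedSectionVars false
set_option linter.unusedSimpArgs false

namespace Cfsg.Agent.TensorOO

open Matrix hiding col
open Cfsg.Agent.MaxSub Cfsg.Agent.TensorMax Cfsg.Agent.TensorInv Module

variable {F : Type*} [Field F] {a b m : ℕ}

theorem act_neg {ι : Type} [Fintype ι] [DecidableEq ι] (g : GL ι F) (x : ι → F) :
    act (-g) x = -act g x := by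
  rw [act_apply, act_apply, Units.val_neg, neg_mulVec]

theorem kr_neg_left (g : GL (Fin a) F) (k : GL (Fin b) F) : -kr g k = kr (-g) k := by
  refine gl_ext_emb fun v x => ?_
  rw [act_neg, act_kr, act_kr, act_neg, map_neg]

theorem kr_neg_right (g : GL (Fin a) F) (k : GL (Fin b) F) : -kr g k = kr g (-k) := by
  refine gl_ext_emb fun v x => ?_
  rw [act_neg, act_kr, act_kr, act_neg, emb_neg_left]

/-- The subgroup of signs of an involution. -/
def signs {ι : Type} [Fintype ι] [DecidableEq ι] (z : GL ι F) (hz : z * z = 1) : Subgroup (GL ι F) where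
  carrier := {g | g = 1 ∨ g = -1 ∨ g = z ∨ g = -z}
  one_mem' := Or.inl rfl
  mul_mem' := by
    intro g g' hg hg'
    rcases hg with rfl | rfl | rfl | rfl <;> rcases hg' with rfl | rfl | rfl | rfl <;>
      simp [hz]
  inv_mem' := by
    intro g hg
    have h1 : z⁻¹ = z := inv_eq_of_mul_eq_one_right hz
    rcases hg with rfl | rfl | rfl | rfl <;> simp [h1]

theorem signs_spec {ι : Type} [Fintype ι] [DecidableEq ι] {z : GL ι F} (hz : z * z = 1) {g : GL ι F}
    (hg : g ∈ signs z hz) :
    g * g = 1 ∧ ∀ x, x * z = z * x → x * g = g * x := by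
  rcases hg with rfl | rfl | rfl | rfl
  · exact ⟨one_mul 1, fun x _ => by rw [mul_one, one_mul]⟩
  · exact ⟨by simp, fun x _ => by simp⟩
  · exact ⟨hz, fun x hx => hx⟩
  · exact ⟨by simp [hz], fun x hx => by simp [hx]⟩

/-- A scalar involution is a sign. -/
theorem eq_sign_of_scalar (hm : 1 ≤ m) {t : GL (Fin m) F} (ht : t * t = 1) {c : F}
    (h : ∀ x, act t x = c • x) : t = 1 ∨ t = -1 := by
  set x : Fin m → F := fun _ => 1
  have hx : x ≠ 0 := fun h0 => one_ne_zero (congrFun h0 ⟨0, hm⟩)
  have hc : c * c = 1 := by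
    have := h (act t x)
    rw [← act_mul, ht, act_one, h, smul_smul] at this
    have e : (c * c - 1) • x = 0 := by rw [sub_smul, one_smul, ← this, sub_self]
    exact sub_eq_zero.1 ((smul_eq_zero.1 e).resolve_right hx)
  rcases sgn_cases hc with hc | hc
  · exact Or.inl (act_ext fun y => by rw [h, hc, one_smul, act_one])
  · exact Or.inr (act_ext fun y => by rw [h, hc, neg_one_smul, act_neg, act_one])

variable {S : OForm F a b}

theorem kr_left_eq (hb : 1 ≤ b) {A C : GL (Fin a) F} {B D : GL (Fin b) F}
    (h : kr A B = kr C D) : ∃ c : F, ∀ x, act A x = c • act C x := by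
  obtain ⟨v, hv⟩ : ∃ v : Fin b → F, v ≠ 0 :=
    ⟨fun _ => 1, fun h0 => one_ne_zero (congrFun h0 ⟨0, hb⟩)⟩
  have hBv : act B v ≠ 0 := fun h0 => hv (act_injective B (by rw [h0, map_zero]))
  obtain ⟨j, hj⟩ := Function.ne_iff.1 hBv
  refine ⟨(act B v j)⁻¹ * act D v j, fun x => ?_⟩
  have := congrArg (fun g => act g (emb v x)) h
  simp only [act_kr] at this
  funext i
  have e : act B v j * act A x i = act D v j * act C x i := by
    have := congrFun this (i, j)
    simp only [emb] at this
    change act A x i * act B v j = act C x i * act D v j at this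
    linear_combination this
  simp only [Pi.zero_apply] at hj
  rw [Pi.smul_apply, smul_eq_mul]
  field_simp
  linear_combination e

theorem kr_right_eq (ha : 1 ≤ a) {A C : GL (Fin a) F} {B D : GL (Fin b) F}
    (h : kr A B = kr C D) : ∃ c : F, ∀ v, act B v = c • act D v := by
  obtain ⟨x, hx⟩ : ∃ x : Fin a → F, x ≠ 0 :=
    ⟨fun _ => 1, fun h0 => one_ne_zero (congrFun h0 ⟨0, ha⟩)⟩
  have hAx : act A x ≠ 0 := fun h0 => hx (act_injective A (by rw [h0, map_zero]))
  obtain ⟨i, hi⟩ := Function.ne_iff.1 hAx
  refine ⟨(act A x i)⁻¹ * act C x i, fun v => ?_⟩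
  have := congrArg (fun g => act g (emb v x)) h
  simp only [act_kr] at this
  funext j
  have e : act A x i * act B v j = act C x i * act D v j := by
    have := congrFun this (i, j)
    change act A x i * act B v j = act C x i * act D v j at this
    exact this
  simp only [Pi.zero_apply] at hi
  rw [Pi.smul_apply, smul_eq_mul]
  field_simp
  linear_combination e

/-- A pure conjugate is not a mixed element. -/
theorem sign_of_pure (ha : 1 ≤ a) (hb : 1 ≤ b) {s : GL (Fin a) F} (hs : s * s = 1) {X τ : GL (Fin b) F}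
    (h : kr 1 X = kr s τ) : s = 1 ∨ s = -1 := by
  obtain ⟨c, hc⟩ := kr_left_eq hb h.symm
  exact eq_sign_of_scalar ha hs (c := c) fun x => by rw [hc, act_one]

/-- No conjugate of the involution negating a pair is its negative. -/
theorem not_conj_neg [Finite F] (hb : 5 ≤ b) {f : (Fin b → F) →ₗ[F] (Fin b → F) →ₗ[F] F} (hf : Sym f)
    {u u' : Fin b → F} (hT : Fam f ![u, u']) (g : GL (Fin b) F) :
    g * fl f ![u, u'] * g⁻¹ ≠ -fl f ![u, u'] := by
  intro e
  obtain ⟨w, hw, ew⟩ := hf.exists_three_fam hT (by omega)
  have := card_le_of_span hw (g := g⁻¹) (v := ![u, u']) fun i => fl_neg_span hf hT (by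
    have h1 := congrArg (fun h => act h (w i)) e
    simp only [act_mul, act_neg, fl_perp hf hT fun q => ew q i] at h1
    refine act_injective g ?_
    rw [h1, map_neg, act_act_inv])
  omega

/-- An isometry of `p`-power order fixing all but two dimensions is trivial. -/
theorem eq_one_of_fix [Finite F] {f : (Fin m → F) →ₗ[F] (Fin m → F) →ₗ[F] F} (hf : Sym f) {k : ℕ}
    {w : Fin k → Fin m → F} (hw : Fam f w) (hkm : k + 2 = m) (p : ℕ) [hp : Fact p.Prime]
    [CharP F p] {g : GL (Fin m) F} (hg : ∀ x y, f (act g x) (act g y) = f x y) (hgp : g ^ p = 1)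
    (hfix : ∀ i, act g (w i) = w i) : g = 1 := by
  classical
  cases nonempty_fintype F
  have hperp : ∀ x, (∀ i, f (w i) x = 0) → ∀ i, f (w i) (act g x) = 0 := fun x hx i => by
    rw [← hfix i, hg, hx]
  have hperp' : ∀ x, (∀ i, f (w i) x = 0) → ∀ i, f (w i) (act g⁻¹ x) = 0 := fun x hx i => by
    rw [← hg, hfix, act_act_inv, hx]
  let W := {x : Fin m → F // ∀ i, f (w i) x = 0}
  let σ : Equiv.Perm W :=
    { toFun := fun x => ⟨act g x.1, hperp _ x.2⟩
      invFun := fun x => ⟨act g⁻¹ x.1, hperp' _ x.2⟩
      left_inv := fun x => Subtype.ext (act_inv_act g x.1)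
      right_inv := fun x => Subtype.ext (act_act_inv g x.1) }
  have hσ : ∀ (n : ℕ) (x : W), ((σ ^ n) x).1 = act (g ^ n) x.1 := by
    intro n
    induction n with
    | zero => intro x; rw [pow_zero, pow_zero, act_one]; rfl
    | succ n ih => intro x; rw [pow_succ, pow_succ, act_mul, Equiv.Perm.mul_apply, ih]; rfl
  obtain ⟨x₀, hx₀, hx₀0⟩ := hf.exists_aniso_fam hw (by omega)
  have hcard : p ∣ Fintype.card W := by
    let W' : Submodule F (Fin m → F) := ⨅ i, LinearMap.ker (f (w i))
    have hW' : ∀ x, x ∈ W' ↔ ∀ i, f (w i) x = 0 := fun x => by simp [W', Submodule.mem_iInf]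
    have e : W ≃ W' := Equiv.subtypeEquivRight fun x => (hW' x).symm
    rw [Fintype.card_eq_nat_card, Nat.card_congr e]
    have ho : addOrderOf (⟨x₀, (hW' x₀).2 hx₀0⟩ : W') = p := by
      refine addOrderOf_eq_prime ?_ fun h0 => hx₀ (by
        rw [show x₀ = 0 from congrArg Subtype.val h0, map_zero])
      refine Subtype.ext (funext fun i => ?_)
      simp [CharP.cast_eq_zero F p]
    have := addOrderOf_dvd_natCard (⟨x₀, (hW' x₀).2 hx₀0⟩ : W')
    rwa [ho] at this
  obtain ⟨v, hv, hv0⟩ := Equiv.Perm.exists_fixed_point_of_prime' (n := 1) hcard (σ := σ)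
    (Equiv.ext fun x => Subtype.ext (by rw [hσ, pow_one, hgp, act_one]; rfl))
    (a := ⟨0, fun i => map_zero _⟩) (Subtype.ext (map_zero _))
  obtain ⟨v, hvw⟩ := v
  have hgv : act g v = v := congrArg Subtype.val hv
  have hv0' : v ≠ 0 := fun h => hv0 (Subtype.ext h)
  -- one more anisotropic fixed vector
  obtain ⟨v', hgv', hv'w, hv'⟩ : ∃ v', act g v' = v' ∧ (∀ i, f (w i) v' = 0) ∧ f v' v' ≠ 0 := by
    by_cases hvv : f v v = 0
    swap
    · exact ⟨v, hgv, hvw, hvv⟩
    -- an isotropic fixed vector forces its partner to be fixed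
    obtain ⟨z₀, hz₀⟩ : ∃ z, f v z ≠ 0 := by
      by_contra hc
      push Not at hc
      exact hv0' (hf.nd v hc)
    set z := famProj f w z₀
    have hzw := hf.famProj_perp hw z₀
    have hvz : f v z ≠ 0 := by
      rw [show z = z₀ - ∑ i, ((f (w i) (w i))⁻¹ * f (w i) z₀) • w i from hf.famProj_apply w z₀, map_sub,
        map_sum, Finset.sum_eq_zero (fun i _ => by rw [map_smul, hf.symm (w i) v, hvw, smul_zero]),
        sub_zero]
      exact hz₀
    by_cases hd : act g z = z
    · rcases hf.aniso_shift hvv (v := z + ((1 - f z z) / (2 * f v z)) • v) (by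
        have := hf.two
        simp [hvv, hf.symm v z]
        field_simp
        intro h
        exact this (by linear_combination h)) with h | h
      · exact ⟨_, by rw [map_add, map_add, map_smul, hd, hgv], fun i => by simp [z, hvw i, hzw i], h⟩
      · exact ⟨_, by rw [map_sub, map_add, map_smul, hd, hgv], fun i => by simp [z, hvw i, hzw i], h⟩
    · exfalso
      set δ := act g z - z with hδ
      have hδw : ∀ i, f (w i) δ = 0 := fun i => by rw [hδ, map_sub, hperp z hzw, hzw, sub_zero]
      have hvδ : f v δ = 0 := by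
        have := hg v z
        rw [hgv] at this
        rw [hδ, map_sub, this, sub_self]
      obtain ⟨r, hr⟩ : ∃ r : F, δ = r • v := by
        set e := z + ((1 - f z z) / (2 * f v z)) • v with he
        have hee : f e e = 1 := by
          have := hf.two
          simp [he, hvv, hf.symm v z]
          field_simp
          ring
        have hew : ∀ i, f (w i) e = 0 := fun i => by simp [he, z, hvw i, hzw i]
        set e2 := v - f e v • e with he2
        have hee2 : f e e2 = 0 := by simp [he2, hee]
        have he22 : f e2 e2 ≠ 0 := by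
          have hev : f e v ≠ 0 := by
            simp [he, hvv, hf.symm v z]
            exact hvz
          simp [he2, hvv, hee, hf.symm e v]
          exact hev
        have hfam := (hw.cons (u := e) (by rw [hee]; exact one_ne_zero) hew
          (fun i => by rw [hf.symm]; exact hew i)).cons (u := e2) he22
          (Fin.cases (by simpa using hee2) (fun i => by simp [he2, hvw i, hew i]))
          (Fin.cases (by rw [hf.symm]; simpa using hee2) (fun i => by
            rw [hf.symm]; simp [he2, hvw i, hew i]))
        subst hkm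
        refine ⟨f e δ / f e v, sub_eq_zero.1 (hf.eq_zero_of_basis hfam fun q => ?_)⟩
        have hev : f e v ≠ 0 := fun h0 => hvz (by
          simpa [he, hvv, hf.symm v z] using h0)
        refine Fin.cases ?_ (Fin.cases ?_ fun i => ?_) q
        · simp [he2, hvδ, hvv]
          exact Or.inr (by rw [div_mul_cancel₀ _ hev, sub_self])
        · simp
          field_simp
          ring
        · simp [hδw i, hvw i]
      have hr0 : r ≠ 0 := fun h => hd (sub_eq_zero.1 (by rw [← hδ, hr, h, zero_smul]))
      have := hg z z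
      rw [show act g z = z + r • v by rw [← hr, hδ]; abel] at this
      simp [hvv, hf.symm v z] at this
      exact mul_ne_zero (mul_ne_zero hf.two hr0) hvz (by linear_combination this)
  have hfam := hw.cons hv' hv'w (fun i => by rw [hf.symm]; exact hv'w i)
  obtain ⟨q, hq, eq⟩ := hf.exists_aniso_fam hfam (by omega)
  have hbasis := hfam.cons hq eq (fun i => by rw [hf.symm]; exact eq i)
  have hfix' : ∀ i, act g ((Fin.cons v' w : Fin (k + 1) → Fin m → F) i) = (Fin.cons v' w : Fin (k + 1) → Fin m → F) i :=
    Fin.cases (by simpa using hgv') (fun i => by simpa using hfix i)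
  obtain ⟨c, hc⟩ : ∃ c : F, act g q = c • q := by
    subst hkm
    refine ⟨f q (act g q) / f q q, sub_eq_zero.1 (hf.eq_zero_of_basis hbasis fun i => ?_)⟩
    refine Fin.cases ?_ (fun i => ?_) i
    · simp [Fin.cons_zero]
      field_simp
      ring
    · simp only [Fin.cons_succ, map_sub, map_smul]
      rw [eq i, smul_zero, sub_zero]
      conv_lhs => rw [← hfix' i, hg, eq i]
  have hcp : c ^ p = 1 := by
    have hpow : ∀ n : ℕ, act (g ^ n) q = c ^ n • q := fun n => by
      induction n with
      | zero => simp [act_one]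
      | succ n ih => rw [pow_succ, act_mul, hc, map_smul, ih, smul_smul, pow_succ']
    have := hpow p
    rw [hgp, act_one] at this
    have e : (c ^ p - 1) • q = 0 := by rw [sub_smul, one_smul, ← this, sub_self]
    exact sub_eq_zero.1 ((smul_eq_zero.1 e).resolve_right fun h => hq (by rw [h, map_zero]))
  have hc1 : c = 1 := by
    have h1 : (c - 1) ^ p = 0 := by rw [sub_pow_char, one_pow, hcp, sub_self]
    exact sub_eq_zero.1 ((pow_eq_zero_iff hp.out.ne_zero).1 h1)
  subst hkm
  exact act_ext fun x => ext_fam hf hbasis (φ := act g) (χ := act 1)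
    (Fin.cases (by simp [hc, hc1, act_one]) (fun i => by simp [hfix' i, act_one]))
    (fun x hx => by rw [hf.eq_zero_of_basis hbasis hx, map_zero, map_zero]) x

end Cfsg.Agent.TensorOO
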