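import Cfsg.Agent.TensorOO.SixBase

/-!
Centralisers of mixed involutions (helper19).
-/

set_option autoImplicit false
set_option linter.unusedSectionVars false
set_option linter.unusedSimpArgs false

namespace Cfsg.Agent.TensorOO

open Matrix hiding col
open Cfsg.Agent.MaxSub Cfsg.Agent.TensorMax Cfsg.Agent.TensorInv Module

variable {F : Type*} [Field F] [Finite F] {a b : ℕ} {S : OForm F a b}
  {H : Subgroup (GL (Fin a × Fin b) F)}

theorem kr_one_left_cancel (ha : 1 ≤ a) {A : GL (Fin a) F} {X Y : GL (Fin b) F}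
    (h : kr A X = kr A Y) : X = Y := by
  have := congrArg (fun g => kr A⁻¹ (1 : GL (Fin b) F) * g) h
  simp only [kr_mul, inv_mul_cancel, one_mul] at this
  exact kr_one_inj ha this

theorem kr_one_right_cancel (hb : 1 ≤ b) {A C : GL (Fin a) F} {X : GL (Fin b) F}
    (h : kr A X = kr C X) : A = C := by
  have := congrArg (fun g => g * kr (1 : GL (Fin a) F) X⁻¹) h
  simp only [kr_mul, mul_inv_cancel, mul_one] at this
  obtain ⟨v, hv⟩ : ∃ v : Fin b → F, v ≠ 0 :=
    ⟨fun _ => 1, fun h0 => one_ne_zero (congrFun h0 ⟨0, hb⟩)⟩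
  obtain ⟨j, hj⟩ := Function.ne_iff.1 hv
  refine act_ext fun x => funext fun i => ?_
  have e := congrArg (fun g => act g (emb v x)) this
  simp only [act_kr, act_one] at e
  have e' := congrFun e (i, j)
  change act A x i * v j = act C x i * v j at e'
  exact mul_right_cancel₀ hj e'

theorem conj_invo {g : GL (Fin b) F} {ν : F}
    (hs : ∀ v v', S.f₂ (act g v) (act g v') = ν * S.f₂ v v') {t : GL (Fin b) F} (ht : Invo S.f₂ t) :
    Invo S.f₂ (g * t * g⁻¹) := by
  refine ⟨fun v v' => ?_, by simp [mul_assoc, ht.sq, ← mul_assoc t t]⟩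
  obtain ⟨v, rfl⟩ : ∃ y, act g y = v := ⟨_, act_act_inv g v⟩
  obtain ⟨v', rfl⟩ : ∃ y, act g y = v' := ⟨_, act_act_inv g v'⟩
  simp only [act_mul, act_inv_act, hs, ht.isom]

theorem comm_mul_invo {f : (Fin b → F) →ₗ[F] (Fin b → F) →ₗ[F] F} {X Y : GL (Fin b) F}
    (hX : Invo f X) (hY : Invo f Y) (h : X * Y = Y * X) : Invo f (X * Y) :=
  ⟨fun v v' => by rw [act_mul, act_mul, hX.isom, hY.isom], by
    rw [mul_assoc, ← mul_assoc Y X Y, ← h, mul_assoc X Y Y, hY.sq, mul_one, hX.sq]⟩

theorem neg_eq_kr_one (t : GL (Fin b) F) : -kr (1 : GL (Fin a) F) t = kr 1 (-t) :=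
  kr_neg_right _ _

variable (hS : Std S H) (hG : GoodK S H) (hC : CentAll S H)
include hS hG hC

theorem tj_pure {t : GL (Fin b) F} (ht : Invo S.f₂ t) (h1 : t ≠ 1) (h2 : t ≠ -1)
    {g : GL (Fin a × Fin b) F} (hg : g ∈ H)
    (h : g * kr 1 t * g⁻¹ ∈ Cfsg.Geo.kroneckerSubgroup a b F) :
    g ∈ Cfsg.Geo.kroneckerSubgroup a b F :=
  hG _ (kr_mem _ _) (S.kr_mem_isom (fun x y => by rw [act_one, act_one]) ht.isom)
    (by rw [kr_mul, one_mul, ht.sq, kr_one]) (hC t ht h1 h2) g hg h

/-- The centralisers of the mixed involutions are in the tensor stabiliser. -/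
theorem cent_mixed {s : GL (Fin a) F} (hs : Invo S.f₁ s) (hs1 : s ≠ 1) (hs2 : s ≠ -1)
    {t : GL (Fin b) F} (ht : Invo S.f₂ t) (ht1 : t ≠ 1) (ht2 : t ≠ -1)
    (htH : kr (1 : GL (Fin a) F) t ∈ H) : Cent H (kr s t) := by
  classical
  intro g hg hgz
  have hf := S.h₂
  have ha : 1 ≤ a := by have := hS.ha; omega
  have hb := hS.hb
  have hb1 : 1 ≤ b := by omega
  have hz : kr s t * kr s t = 1 := by rw [kr_mul, hs.sq, ht.sq, kr_one]
  -- a second pure involution
  obtain ⟨e, σ, hE, -⟩ := ht.exists_frame hf (fam_nil S.f₂) (Nat.zero_le b) (fun i => i.elim0)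
  obtain ⟨i, j, l, hij, hil, hjl, hj, hl⟩ : ∃ i j l, i ≠ j ∧ i ≠ l ∧ j ≠ l ∧ σ j = σ i ∧ σ l = σ i := by
    obtain ⟨c, hc⟩ : ∃ c, 3 ≤ (Finset.univ.filter fun q => σ q = c).card := by
      by_contra hc
      push Not at hc
      have h1 := hc 1
      have h2 := hc (-1)
      have hu : (Finset.univ : Finset (Fin b)) ⊆ (Finset.univ.filter fun q => σ q = 1) ∪
          (Finset.univ.filter fun q => σ q = -1) := fun q _ => by
        rcases sgn_cases (hE.sgn q) with h | h <;> simp [h]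
      have := (Finset.card_le_card hu).trans (Finset.card_union_le _ _)
      rw [Finset.card_univ, Fintype.card_fin] at this
      omega
    obtain ⟨i, j, l, hi, hj, hl, hij, hil, hjl⟩ := Finset.two_lt_card_iff.1 (show 2 < _ from hc)
    simp only [Finset.mem_filter, Finset.mem_univ, true_and] at hi hj hl
    exact ⟨i, j, l, hij, hil, hjl, hj.trans hi.symm, hl.trans hi.symm⟩
  have hQi := hE.fam.aniso i
  have hQj := hE.fam.aniso j
  have hQl := hE.fam.aniso l
  have hejl := hE.fam.orth j l hjl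
  have helj := hE.fam.orth l j (Ne.symm hjl)
  obtain ⟨c, d, hcd⟩ := exists_value hf hQj hQl hejl (S.f₂ (e i) (e i))
  set u := e i
  set u' := c • e j + d • e l with hu'
  set u'' := (-(d * S.f₂ (e l) (e l))) • e j + (c * S.f₂ (e j) (e j)) • e l with hu''
  have huu1 : S.f₂ u' u' ≠ 0 := by rw [hcd]; exact hQi
  have huu' : S.f₂ u u' = 0 := by simp [hu', u, hE.fam.orth i j hij, hE.fam.orth i l hil]
  have hT := hf.fam_two hQi huu1 huu'
  set t' := fl S.f₂ ![u, u'] with ht'
  have tI := fl_invo hf hT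
  have ev1 : act t u = σ i • u := hE.eig i
  have ev2 : ∀ p q : F, act t (p • e j + q • e l) = σ i • (p • e j + q • e l) := fun p q => by
    rw [map_add, map_smul, map_smul, hE.eig, hE.eig, hj, hl]
    module
  have t'u : act t' u = -u := fl_mem hf hT 0
  have hu''0 : u'' ≠ 0 := fun h0 => by
    have a1 := congrArg (S.f₂ (e j)) h0
    have a2 := congrArg (S.f₂ (e l)) h0
    simp [hu'', hejl, helj, hQj, hQl] at a1 a2
    exact huu1 (by simp [hu', a1, a2])
  have t'u'' : act t' u'' = u'' := fl_perp hf hT fun q => by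
    fin_cases q
    · simp [hu'', u, hE.fam.orth i j hij, hE.fam.orth i l hil]
    · simp [hu', hu'', hejl, helj]
      ring
  have hne : ∀ ε : F, (∀ x, act t' x = ε • act t x) → False := by
    intro ε hε
    have a1 := hε u
    have a2 := hε u''
    rw [t'u, ev1, smul_smul, ← neg_one_smul F u] at a1
    rw [t'u'', hu'', ev2, smul_smul, ← hu''] at a2
    have b1 : (ε * σ i - -1) • u = 0 := by rw [sub_smul, ← a1, sub_self]
    have b2 : (ε * σ i - 1) • u'' = 0 := by rw [sub_smul, one_smul, ← a2, sub_self]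
    have c1 := (smul_eq_zero.1 b1).resolve_right fun h => hQi (by rw [h, map_zero])
    have c2 := (smul_eq_zero.1 b2).resolve_right hu''0
    exact S.two (by linear_combination c1 - c2)
  have hcomm : t' * t = t * t' := by
    have hr : ∀ {v : Fin b → F}, S.f₂ v v ≠ 0 → act t v = σ i • v →
        t * refl S.f₂ v = refl S.f₂ v * t := fun hv h =>
      refl_comm hv one_ne_zero (fun x y => by rw [ht.isom, one_mul]) h
    rw [ht', fl_two hf hQi huu1 huu', mul_assoc, ← hr huu1 (by rw [hu']; exact ev2 c d), ← mul_assoc,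
      ← hr hQi ev1, mul_assoc]
  have ht'1 : t' ≠ 1 := fun h => hQi (by
    have := t'u
    rw [h, act_one] at this
    have h2 : (2 : F) • u = 0 := by linear_combination (norm := module) this
    rw [(smul_eq_zero.1 h2).resolve_left hf.two, map_zero])
  have ht'2 : t' ≠ -1 := fun h => hu''0 (by
    have := t'u''
    rw [h, act_neg, act_one] at this
    have h2 : (2 : F) • u'' = 0 := by linear_combination (norm := module) (-1 : F) • this
    exact (smul_eq_zero.1 h2).resolve_left hf.two)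
  let G := H ⊓ Subgroup.centralizer ({kr s t} : Set (GL (Fin a × Fin b) F))
  have hGz : ∀ {x}, x ∈ G → x * kr s t = kr s t * x := fun hx =>
    (Subgroup.mem_centralizer_iff.1 hx.2 _ rfl).symm
  have hGmem : ∀ {x}, x ∈ H → x * kr s t = kr s t * x → x ∈ G := fun hx h =>
    ⟨hx, Subgroup.mem_centralizer_iff.2 fun y hy => by rw [Set.mem_singleton_iff.1 hy]; exact h.symm⟩
  refine le_of_dihedral (G := G) (K := Cfsg.Geo.kroneckerSubgroup a b F) (Z := signs (kr s t) hz)
    (j := kr 1 t') (j'' := kr 1 t) ?_ ?_ (hGmem (hS.ov.flPair hQi huu' hcd.symm) ?_) (kr_mem _ _)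
    (by rw [kr_mul, one_mul, tI.sq, kr_one]) (hGmem htH ?_) (kr_mem _ _)
    (by rw [kr_mul, one_mul, ht.sq, kr_one])
    (fun x hx => tj_pure hS hG hC tI ht'1 ht'2 hx.1) (fun x hx => tj_pure hS hG hC ht ht1 ht2 hx.1)
    ?_ ?_ ?_ (hGmem hg hgz)
  · exact fun ζ hζ x hx => (signs_spec hz hζ).2 x (hGz hx)
  · exact fun ζ hζ => (signs_spec hz hζ).1
  · rw [kr_mul, kr_mul, one_mul, mul_one, hcomm]
  · rw [kr_mul, kr_mul, one_mul, mul_one]
  · intro x hx hK ζ hζ e'
    obtain ⟨x₁, x₂, rfl, ν, hν, hsim⟩ := exists_kr ha hb1 (hS.ov.isom hx.1) hK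
    rw [kr_conj_one] at e'
    have hpure : ∀ τ, kr (1 : GL (Fin a) F) (x₂ * t' * x₂⁻¹) ≠ kr s τ := fun τ h =>
      (sign_of_pure ha hb1 hs.sq h).elim hs1 hs2
    -- `x` centralises `t` up to sign
    have e2 := hGz hx
    rw [kr_mul, kr_mul] at e2
    obtain ⟨c', hc'⟩ := kr_right_eq ha e2
    have hkey : ∀ ε : F, (∀ v, act (x₂ * t' * x₂⁻¹) v = ε • act t v) → False := by
      intro ε hε
      refine hne (ε * c'⁻¹) fun v => act_injective x₂ ?_
      have h1 := hε (act x₂ v)
      rw [act_mul, act_mul, act_inv_act] at h1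
      have h3 := hc' v
      rw [act_mul, act_mul] at h3
      have hc0 : c' ≠ 0 := fun h0 => hQi (by
        have h4 := hc' u
        rw [h0, zero_smul, act_mul] at h4
        have h5 := act_injective x₂ (h4.trans (map_zero (act x₂)).symm)
        rw [act_injective t (h5.trans (map_zero (act t)).symm), map_zero])
      rw [h1, map_smul, h3, smul_smul, mul_assoc, inv_mul_cancel₀ hc0, mul_one]
    rcases hζ with rfl | rfl | rfl | rfl
    · rw [one_mul] at e'
      exact hkey 1 fun v => by rw [kr_one_inj ha e', one_smul]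
    · rw [neg_one_mul, neg_eq_kr_one] at e'
      exact hkey (-1) fun v => by rw [kr_one_inj ha e', act_neg, neg_one_smul]
    · rw [kr_mul, mul_one] at e'
      exact hpure _ e'
    · rw [neg_mul, kr_mul, mul_one, kr_neg_right] at e'
      exact hpure _ e'
  · intro x hx hK ζ hζ e'
    obtain ⟨x₁, x₂, rfl, ν, hν, hsim⟩ := exists_kr ha hb1 (hS.ov.isom hx.1) hK
    rw [kr_conj_one] at e'
    rcases hζ with rfl | rfl | rfl | rfl
    · rfl
    · rw [neg_one_mul, neg_eq_kr_one] at e'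
      exact absurd (kr_one_inj ha e') (not_conj_neg hb hf hT x₂)
    · rw [kr_mul, mul_one] at e'
      exact absurd e' fun h => (sign_of_pure ha hb1 hs.sq h).elim hs1 hs2
    · rw [neg_mul, kr_mul, mul_one, kr_neg_right] at e'
      exact absurd e' fun h => (sign_of_pure ha hb1 hs.sq h).elim hs1 hs2
  · intro x hx hK y hy hxy hnZ w hw hwc
    obtain ⟨x₁, x₂, rfl, ν, hν, hsim⟩ := exists_kr ha hb1 (hS.ov.isom hx.1) hK
    obtain ⟨τ, rfl, hτ⟩ : ∃ τ, y = kr (1 : GL (Fin a) F) τ ∧ Invo S.f₂ τ := by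
      rcases hy with rfl | rfl
      exacts [⟨t', rfl, tI⟩, ⟨t, rfl, ht⟩]
    rw [kr_conj_one, kr_one_mul, kr_one_mul] at hxy
    rw [kr_conj_one, kr_one_mul] at hnZ hwc
    refine hC _ (comm_mul_invo (conj_invo hsim tI) hτ (kr_one_inj ha hxy)) (fun h => hnZ ?_)
      (fun h => hnZ ?_) w hw.1 hwc
    · rw [h, kr_one]; exact one_mem _
    · rw [h, ← neg_eq_kr_one, kr_one]; exact Or.inr (Or.inl rfl)

end Cfsg.Agent.TensorOO
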